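import Cfsg.Agent.Omega.NO3b.UMethod
import Cfsg.Agent.Omega.Half.Gen
import Cfsg.Agent.Lib.CoprimeAbelian

/-!
# `C_P(V_P)` centralises `Ω₁(Z(O₂(P)))` for `P ∈ P*(S)` (project OMEGA)
-/

set_option autoImplicit false

namespace Cfsg.Agent.Omega.IId.LFour

open Subgroup Cfsg Cfsg.Agent.ZN Cfsg.Agent.Omega.MinPar
open Cfsg.Agent.MinSimple.VModule (mem_zc zc_le zc_comm zc_sq zc_le_zl le_normalizer_o2 o2_isPGroup o2_le
  normalizer_le_normalizer_zc le_normalizer_zl)

universe u

variable {G : Type u} [Group G] [Finite G]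

/-- **`C_P(V_P)` centralises `Ω₁(Z(O₂(P)))`.** -/
theorem le_centralizer_zc_o2 (hG : IsCharacteristicTwoType G) (S : Sylow 2 G) {P : Subgroup G}
    (h : IsParS (S : Subgroup G) P) :
    P ⊓ centralizer (zl (S : Subgroup G) P : Set G) ≤ centralizer (zc (o2 P) : Set G) := by
  have h2 : Fact (Nat.Prime 2) := ⟨Nat.prime_two⟩
  set A := zc (o2 P) with hA
  set K := P ⊓ centralizer (zl (S : Subgroup G) P : Set G) with hK
  have hSP : (S : Subgroup G) ≤ P := h.isLoc.le
  have hPA : P ≤ normalizer (A : Set G) := (le_normalizer_o2 P).trans (normalizer_le_normalizer_zc _)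
  have hKA : K ≤ normalizer (A : Set G) := inf_le_left.trans hPA
  have hAS : A ≤ S := (zc_le _).trans (h.isLoc.o2_le S)
  have hA2 : IsPGroup 2 A := S.isPGroup'.to_le hAS
  have hKn : P ≤ normalizer (K : Set G) := MinSimple.VModule.le_normalizer_centralizer_zl _ _
  have hKS : K ⊓ (S : Subgroup G) = o2 P := by
    rw [← IsParS.inf_centralizer S hG h, hK]
    apply le_antisymm
    · rintro x ⟨⟨-, h1⟩, h2⟩
      exact ⟨h2, h1⟩
    · rintro x ⟨h1, h2⟩
      exact ⟨⟨hSP h1, h2⟩, h1⟩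
  have hodd : ¬ 2 ∣ (o2 P).relIndex K := by
    rw [← hKS]
    exact NO3b.UMethod.not_dvd_inf hSP (MinSimple.Basic.not_dvd_relIndex S hSP) inf_le_left hKn
  letI : CommGroup A := { (inferInstance : Group A) with
    mul_comm := fun x y => Subtype.ext (zc_comm (o2 P) x x.2 y y.2) }
  let φ : K →* MulAut A := (Subgroup.normalizerMonoidHom A).comp (Subgroup.inclusion hKA)
  have hφ : ∀ (a : K) (v : A), ((φ a v : A) : G) = a * v * (a : G)⁻¹ := fun a v => rfl
  have hker : (o2 P).subgroupOf K ≤ φ.ker := by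
    intro k hk
    rw [MonoidHom.mem_ker]
    ext v
    rw [hφ]
    have h3 := (mem_zc.1 v.2).2.1 k (mem_subgroupOf.1 hk)
    rw [h3, mul_inv_cancel_right]
    rfl
  have hcard : ¬ 2 ∣ Nat.card φ.range := by
    intro h3
    rw [← Subgroup.index_ker] at h3
    exact hodd (h3.trans (Subgroup.index_dvd_of_le hker))
  have hcop : (Nat.card φ.range).Coprime (Nat.card A) := by
    obtain ⟨n, hn⟩ := IsPGroup.iff_card.1 hA2
    rw [hn]
    exact Nat.Coprime.pow_right n ((Nat.Prime.coprime_iff_not_dvd Nat.prime_two).2 hcard).symm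
  -- the commutator
  set B := ⁅A, K⁆ with hB
  have hBA : B ≤ A := by
    rw [hB, commutator_le]
    intro v hv a ha
    rw [commutatorElement_def, mul_assoc, mul_assoc]
    apply A.mul_mem hv
    have := (hKA ha v⁻¹).mp (A.inv_mem hv)
    rwa [SetLike.mem_coe, mul_assoc] at this
  have hBcl : B ≤ (Subgroup.closure {w : A | ∃ (a : φ.range) (u : A), w = φ.range.subtype a u * u⁻¹}).map
      A.subtype := by
    rw [hB, commutator_le]
    intro v hv a ha
    rw [Subgroup.mem_map]
    refine ⟨(φ ⟨a, ha⟩ ⟨v, hv⟩ * (⟨v, hv⟩ : A)⁻¹)⁻¹,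
      Subgroup.inv_mem _ (Subgroup.subset_closure ⟨⟨φ ⟨a, ha⟩, ⟨a, ha⟩, rfl⟩, ⟨v, hv⟩, rfl⟩), ?_⟩
    rw [Subgroup.coe_subtype, Subgroup.coe_inv, Subgroup.coe_mul, hφ, commutatorElement_def]
    simp [mul_assoc]
  have hPB : P ≤ normalizer (B : Set G) := by
    intro g hg
    have e1 : A.map (MulAut.conj g).toMonoidHom = A := by
      apply le_antisymm
      · rintro _ ⟨v, hv, rfl⟩
        exact (mem_normalizer_iff.1 (hPA hg) v).1 hv
      · intro v hv
        refine ⟨g⁻¹ * v * g, ?_, by simp [mul_assoc]⟩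
        have := (mem_normalizer_iff.1 (hPA (inv_mem hg)) v).1 hv
        rwa [inv_inv] at this
    have e2 : K.map (MulAut.conj g).toMonoidHom = K := by
      apply le_antisymm
      · rintro _ ⟨v, hv, rfl⟩
        exact (mem_normalizer_iff.1 (hKn hg) v).1 hv
      · intro v hv
        refine ⟨g⁻¹ * v * g, ?_, by simp [mul_assoc]⟩
        have := (mem_normalizer_iff.1 (hKn (inv_mem hg)) v).1 hv
        rwa [inv_inv] at this
    have e3 : B.map (MulAut.conj g).toMonoidHom = B := by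
      rw [hB, map_commutator, e1, e2]
    exact MinSimple.VModule.mem_normalizer_of_map_le e3.le
  have hBbot : B = ⊥ := by
    by_contra hne
    obtain ⟨b, hb, hb1, hbS⟩ := Half.exists_fixed (hA2.to_le hBA) hne S.isPGroup' (hSP.trans hPB)
    apply hb1
    have hbz : b ∈ zc (S : Subgroup G) := by
      refine mem_zc.2 ⟨hAS (hBA hb), fun y hy => ?_, zc_sq _ _ (hBA hb)⟩
      have := hbS y hy
      rwa [mul_inv_eq_iff_eq_mul] at this
    have hbV : b ∈ zl (S : Subgroup G) P := zc_le_zl _ _ hbz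
    obtain ⟨w, hw, hwb⟩ := hBcl hb
    have hwb' : (w : G) = b := hwb
    have h4 := Lib.CoprimeAbelian.eq_one_of_fixed_of_mem_closure φ.range.subtype hcop w ?_ hw
    · rw [← hwb', h4]
      rfl
    · rintro ⟨_, k, rfl⟩
      apply Subtype.ext
      change ((φ k w : A) : G) = w
      rw [hφ, hwb', ← mem_centralizer_iff.1 k.2.2 b hbV, mul_inv_cancel_right]
  rw [← le_centralizer_iff, ← commutator_eq_bot_iff_le_centralizer]
  exact hBbot

end Cfsg.Agent.Omega.IId.LFour
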