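import Cfsg.Agent.Omega.IId.LFour.Zet

/-!
# `C_S(n)` is a Sylow 2-subgroup of `C_G(n)` (helper774; text helper644 #19215 (A))

`w : Wr S P M₁ M₂`, `n = M₁.e nn`, `a = M₁.e aa`, `σ = M₁.e ss = n a`, `τ = M₂.e ss`, `T = C_S(n)`.

* `Wr.T_syl_n` : `T` is a Sylow 2-subgroup of `C_G(n)`;
* `Wr.swap_of_two` : `g ∈ N_G(T) ∖ T`, `T⟨g⟩` a 2-group: `g` interchanges `n` and `a`.
-/

set_option autoImplicit false
set_option linter.unusedSectionVars false

namespace Cfsg.Agent.Omega.IId.LFour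

open Subgroup Pointwise Cfsg Cfsg.Agent.Omega.MinPar Cfsg.Agent.Omega.FFThm
open Cfsg.Agent.ZN (o2 zc jj zj zl zc_map)
open Cfsg.Agent.ZN.ChoiceBase (cj mem_cj)
open Cfsg.Agent.Omega.S5.Mod Cfsg.Agent.Omega.S5.TT
open Cfsg.Agent.Omega.S5.TT.Pos (na ns as sn n_ne s_ne a_ne n_ne_a n_ne_s a_ne_s e_sq' mem_C)
open Cfsg.Agent.MinSimple.VModule (mem_zc zc_le zc_comm zc_sq zc_le_zl le_normalizer_o2 o2_isPGroup o2_le
  normalizer_le_normalizer_zc le_normalizer_zl zl_le le_o2 le_centralizer_zc o2_le_of_sylow)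
open Cfsg.Agent.Omega.TwoFFour (Syl2)
open Cfsg.Agent.Omega.FrameNOFF (CZ)
open ThreeLin (V3 M3 lin comp e0 e1 e2 idt xt p3 p12)

universe u

variable {G : Type u} [Group G]

/-- the six duads of `{0, 1, 2, 3}` -/
def duads : List Vec := [![1, 1, 0, 0, 0], ![1, 0, 1, 0, 0], ![1, 0, 0, 1, 0], ![0, 1, 1, 0, 0],
  ![0, 1, 0, 1, 0], ![0, 0, 1, 1, 0]]

/-- `σ` and the duads -/
def th7 : List Vec := ss :: duads

/-- `{0, 1}`, `{0, 4}`, `{1, 4}` -/
def th3 : List Vec := [nn, ![1, 0, 0, 0, 1], ![0, 1, 0, 0, 1]]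

theorem th7_inj : ∀ x ∈ th7, ∀ y ∈ th7, (x = y ∨ x = y + 1) → x = y := by decide +kernel

theorem th7_nodup : th7.Nodup := by decide +kernel

theorem th7_sum : th7.sum = 1 := by decide +kernel

theorem th7_perm : ∀ p : Equiv.Perm (Fin 5), p * dd = dd * p → ∀ y ∈ th7, y ∘ p.symm ∈ th7 := by
  decide +kernel

theorem duads_perm : ∀ d ∈ duads, ∃ p : Equiv.Perm (Fin 5), nn ∘ p.symm = d ∧ ss ∘ p.symm = ss := by
  decide +kernel

theorem th3_inj : ∀ x ∈ th3, ∀ y ∈ th3, (x = y ∨ x = y + 1) → x = y := by decide +kernel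

theorem th3_nodup : th3.Nodup := by decide +kernel

theorem th3_sum : th3.sum = 0 := by decide +kernel

theorem th3_perm : ∀ p : Equiv.Perm (Fin 5), TTp p → ∀ y ∈ th3, y ∘ p.symm ∈ th3 := by
  intro p hp
  rcases hp with rfl | rfl | rfl | rfl <;> decide +kernel

theorem th3_ex : ∀ d ∈ th3, ∃ p : Equiv.Perm (Fin 5), nn ∘ p.symm = d ∧ aa ∘ p.symm = aa := by
  decide +kernel

theorem prod_map_e {V L : Subgroup G} (M : FiveMod V L) (l : List Vec) : (l.map M.e).prod = M.e l.sum := by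
  induction l with
  | nil => rw [List.map_nil, List.prod_nil, List.sum_nil, M.e_zero]
  | cons a l ih => rw [List.map_cons, List.prod_cons, List.sum_cons, M.e_add, ih]

theorem prod_map_conj (g : G) (l : List G) : (l.map fun v => g * v * g⁻¹).prod = g * l.prod * g⁻¹ := by
  induction l with
  | nil => simp
  | cons a l ih => rw [List.map_cons, List.prod_cons, List.prod_cons, ih]; group

namespace Wr

variable {S : Sylow 2 G} {P V₁ V₂ L₁ L₂ : Subgroup G} {M₁ : FiveMod V₁ L₁} {M₂ : FiveMod V₂ L₂}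

section fin

variable [Finite G] (w : Wr S P M₁ M₂)
include w

omit w in
theorem S_le_CZ : (S : Subgroup G) ≤ CZ (S : Subgroup G) := le_centralizer_zc _

/-- `|C_G(z) : S₁|₂ = 2` -/
theorem S₁_idx : ¬ 4 ∣ ((S : Subgroup G) ⊓ normalizer (V₁ : Set G)).relIndex (CZ (S : Subgroup G)) := by
  set S₁ := (S : Subgroup G) ⊓ normalizer (V₁ : Set G) with hS₁
  have hSF : (S : Subgroup G) ≤ CZ (S : Subgroup G) := le_centralizer_zc _
  have h1 := Subgroup.relIndex_mul_relIndex S₁ (S : Subgroup G) (CZ (S : Subgroup G)) inf_le_left hSF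
  have h2 : S₁.relIndex (S : Subgroup G) = 2 := by
    have h3 := Half.card_mul_relIndex (inf_le_left : S₁ ≤ (S : Subgroup G))
    rw [w.card_S₁, mul_comm 2] at h3
    exact Nat.eq_of_mul_eq_mul_left Nat.card_pos h3
  have h3 : ¬ 2 ∣ (S : Subgroup G).relIndex (CZ (S : Subgroup G)) :=
    Cfsg.Agent.MinSimple.Basic.not_dvd_relIndex S hSF
  rw [← h1, h2]
  intro h4
  apply h3
  obtain ⟨k, hk⟩ := h4
  exact ⟨k, by omega⟩

/-- `|C_G(σ) : T|₂ = 2` -/
theorem T_idx : ¬ 4 ∣ ((S : Subgroup G) ⊓ centralizer ({M₁.e nn} : Set G)).relIndex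
    (centralizer ({M₁.e ss} : Set G)) := by
  have nt := w.nt
  have hTS := w.T_le
  have hcT := w.card_T₁
  set S₁ := (S : Subgroup G) ⊓ normalizer (V₁ : Set G) with hS₁
  set T := (S : Subgroup G) ⊓ centralizer ({M₁.e nn} : Set G) with hT
  have h1 := Subgroup.relIndex_mul_relIndex T S₁ (centralizer ({M₁.e ss} : Set G)) hTS nt.le
  have h2 : T.relIndex S₁ = 2 := by
    have h3 := Half.card_mul_relIndex hTS
    rw [hcT, mul_comm 2] at h3
    exact Nat.eq_of_mul_eq_mul_left Nat.card_pos h3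
  rw [← h1, h2]
  intro h4
  apply nt.odd
  obtain ⟨k, hk⟩ := h4
  exact ⟨k, by omega⟩

/-- `n` and `σ` are not conjugate in `C_G(z)`, `z = στ`. -/
theorem not_conj_n {f : G} (hf : f ∈ CZ (S : Subgroup G)) (hfn : f * M₁.e ss * f⁻¹ = M₁.e nn) : False := by
  obtain ⟨s, hs, p, q, hsw⟩ := w.swap
  have hs1 := w.sw_ss w.S_le hs hsw
  have hs2 := w.symm.sw_ss w.S_le hs (p := q) (q := p) ⟨hsw.2, hsw.1⟩
  have hz := w.s_comm
  have hSF : (S : Subgroup G) ≤ CZ (S : Subgroup G) := le_centralizer_zc _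
  set F := CZ (S : Subgroup G) with hF
  have hO : o2 F ≤ (S : Subgroup G) :=
    o2_le_of_sylow S.isPGroup' (Cfsg.Agent.MinSimple.Basic.not_dvd_relIndex S hSF)
  have hSne : (S : Subgroup G) ≠ ⊥ := fun h => s_ne M₁ (by
    have h1 := w.V₁_le_S (M₁.e_mem ss)
    rw [h, mem_bot] at h1
    exact h1)
  have hloc : IsLoc (S : Subgroup G) F := isLoc_centralizer_zc S hSne
  have hσz : M₁.e ss * (M₁.e ss * M₂.e ss) = M₂.e ss := by rw [← mul_assoc, M₁.e_sq, one_mul]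
  -- the action of `O₂(F)` on `σ`
  have hyσ : ∀ y ∈ o2 F, y * M₁.e ss * y⁻¹ = M₁.e ss ∨ y * M₁.e ss * y⁻¹ = M₂.e ss := by
    intro y hy
    rcases w.mem_or hs hsw (hO hy) with h1 | h1
    · left
      rw [w.S₁_comm_s₁ h1, mul_inv_cancel_right]
    · right
      have h2 := w.S₁_comm_s₂ h1
      calc y * M₁.e ss * y⁻¹ = y * (s * M₂.e ss * s⁻¹) * y⁻¹ := by rw [hs2]
        _ = (y * s * M₂.e ss) * (y * s)⁻¹ := by group
        _ = M₂.e ss := by rw [h2, mul_inv_cancel_right]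
  have hyn : ∀ y ∈ o2 F, y * M₁.e nn = M₁.e nn * y := by
    intro y hy
    have h1 : f⁻¹ * y * f ∈ o2 F := by
      have := (mem_normalizer_iff.1 (le_normalizer_o2 F (inv_mem hf)) y).1 hy
      rwa [inv_inv] at this
    rcases hyσ _ h1 with h2 | h2
    · rw [← mul_inv_eq_iff_eq_mul, ← hfn]
      calc y * (f * M₁.e ss * f⁻¹) * y⁻¹ = f * (f⁻¹ * y * f * M₁.e ss * (f⁻¹ * y * f)⁻¹) * f⁻¹ := by group
        _ = f * M₁.e ss * f⁻¹ := by rw [h2]
    · exfalso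
      have h3 : y * M₁.e nn * y⁻¹ = M₁.e nn * (M₁.e ss * M₂.e ss) := by
        have h4 := w.mem_CZ.1 hf
        calc y * M₁.e nn * y⁻¹ = f * (f⁻¹ * y * f * M₁.e ss * (f⁻¹ * y * f)⁻¹) * f⁻¹ := by rw [← hfn]; group
          _ = f * (M₁.e ss * (M₁.e ss * M₂.e ss)) * f⁻¹ := by rw [h2, hσz]
          _ = (f * M₁.e ss * f⁻¹) * (f * (M₁.e ss * M₂.e ss) * f⁻¹) := by group
          _ = M₁.e nn * (M₁.e ss * M₂.e ss) := by rw [hfn, h4, mul_inv_cancel_right]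
      rcases w.mov y (w.S_le (hO hy)) with ⟨p', q', h4, -⟩ | ⟨p', q', h4⟩
      · rw [h4] at h3
        refine s_ne M₂ (w.V₁_ne_V₂ ?_ (M₂.e_mem ss))
        have h5 : M₂.e ss = (M₁.e nn * M₁.e ss)⁻¹ * M₁.e (nn ∘ p'.symm) := by rw [h3]; group
        rw [h5]
        exact mul_mem (inv_mem (mul_mem (M₁.e_mem _) (M₁.e_mem _))) (M₁.e_mem _)
      · rw [h4.1] at h3
        have h5 : M₁.e nn * M₁.e ss = M₂.e (nn ∘ p'.symm) * (M₂.e ss)⁻¹ := by rw [h3]; group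
        have h6 : M₁.e nn * M₁.e ss = 1 := w.V₁_ne_V₂ (mul_mem (M₁.e_mem _) (M₁.e_mem _)) (by
          rw [h5]
          exact mul_mem (M₂.e_mem _) (inv_mem (M₂.e_mem _)))
        have h7 := eq_inv_of_mul_eq_one_left h6
        rw [M₁.e_inv] at h7
        exact n_ne_s M₁ h7
  have hσO : M₁.e ss ∈ zc (o2 F) := by
    have h1 : ∀ y ∈ o2 F, y * M₁.e ss = M₁.e ss * y := by
      intro y hy
      have h2 : f * y * f⁻¹ ∈ o2 F := (mem_normalizer_iff.1 (le_normalizer_o2 F hf) y).1 hy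
      have h3 := hyn _ h2
      rw [← hfn] at h3
      have h4 : f * (y * M₁.e ss) * f⁻¹ = f * (M₁.e ss * y) * f⁻¹ := by
        calc f * (y * M₁.e ss) * f⁻¹ = f * y * f⁻¹ * (f * M₁.e ss * f⁻¹) := by group
          _ = f * M₁.e ss * f⁻¹ * (f * y * f⁻¹) := h3
          _ = f * (M₁.e ss * y) * f⁻¹ := by group
      exact mul_left_cancel (mul_right_cancel h4)
    refine mem_zc.2 ⟨centralizer_o2_le w.hG S hloc (mem_centralizer_iff.2 fun y hy => h1 y hy), h1,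
      e_sq' M₁ ss⟩
  have hFU : F ≤ normalizer (zc (o2 F) : Set G) :=
    (le_normalizer_o2 _).trans (normalizer_le_normalizer_zc _)
  refine Parity.false_of_list (F := F) (U := zc (o2 F)) (T := (S : Subgroup G) ⊓ normalizer (V₁ : Set G))
    (v := M₁.e ss) (z := M₁.e ss * M₂.e ss) (s := s) (L := th7.map M₁.e)
    (fun a ha b hb => zc_comm _ a ha b hb) ?_ (fun f hf u hu => (mem_normalizer_iff.1 (hFU hf) u).1 hu)
    hσO w.z_ne (fun f hf => w.mem_CZ.1 hf) w.S₁_idx (hSF hs) ?_ ?_ ?_ ?_ ?_ ?_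
  · intro a ha
    rw [← pow_two]
    exact (mem_zc.1 ha).2.2
  · rw [hs1, hσz]
  · exact List.Nodup.map_on (fun x hx y hy h => th7_inj x hx y hy (M₁.e_eq_iff.1 h)) th7_nodup
  · rw [List.length_map]; decide
  · rw [prod_map_e, th7_sum, M₁.e_one]
  · intro x hx
    obtain ⟨d, hd, rfl⟩ := List.mem_map.1 hx
    rcases List.mem_cons.1 hd with rfl | hd
    · exact ⟨1, one_mem _, by group⟩
    · obtain ⟨p', h1, h2⟩ := duads_perm d hd
      obtain ⟨l, hl, hi⟩ := M₁.exists_lift p'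
      have hi : M₁.Ind l p' := hi
      have hl1 : l * M₁.e ss = M₁.e ss * l := (hi.commute_iff _).2 (Or.inl h2)
      have hl2 := w.L₁_comm hl (M₂.e_mem ss)
      refine ⟨l * f, mul_mem (w.mem_CZ.2 ?_) hf, ?_⟩
      · rw [← mul_assoc, hl1, mul_assoc, hl2, ← mul_assoc]
      · calc l * f * M₁.e ss * (l * f)⁻¹ = l * (f * M₁.e ss * f⁻¹) * l⁻¹ := by group
          _ = M₁.e d := by rw [hfn, hi, h1]
  · intro t ht x hx
    obtain ⟨d, hd, rfl⟩ := List.mem_map.1 hx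
    obtain ⟨p', q', hp', -⟩ := w.S₁_ind ht
    rw [hp']
    exact List.mem_map_of_mem (th7_perm p' (w.dS w.S_le ht.1 hp') d hd)

/-- the group generated by the `C_G(σ)`-conjugates of `V₁` -/
def Ds (_ : Wr S P M₁ M₂) : Subgroup G :=
  closure {y | ∃ c ∈ centralizer ({M₁.e ss} : Set G), ∃ v ∈ V₁, y = c * v * c⁻¹}

theorem V₁_le_Ds : V₁ ≤ w.Ds := fun v hv => subset_closure ⟨1, one_mem _, v, hv, by group⟩

theorem Ds_comm : ∀ a ∈ w.Ds, ∀ b ∈ w.Ds, a * b = b * a := by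
  have h1 : w.Ds ≤ centralizer {y | ∃ c ∈ centralizer ({M₁.e ss} : Set G), ∃ v ∈ V₁, y = c * v * c⁻¹} := by
    rw [Ds, closure_le]
    rintro _ ⟨c, hc, v, hv, rfl⟩
    refine mem_centralizer_iff.2 ?_
    rintro _ ⟨c', hc', v', hv', rfl⟩
    have h2 := w.comm_Ds w.nt (mul_mem (inv_mem hc) hc') hv hv'
    calc c' * v' * c'⁻¹ * (c * v * c⁻¹) = c * (c⁻¹ * c' * v' * (c⁻¹ * c')⁻¹ * v) * c⁻¹ := by group
      _ = c * (v * (c⁻¹ * c' * v' * (c⁻¹ * c')⁻¹)) * c⁻¹ := by rw [h2]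
      _ = c * v * c⁻¹ * (c' * v' * c'⁻¹) := by group
  have h2 : w.Ds ≤ centralizer (w.Ds : Set G) := by
    conv_rhs => rw [Ds, centralizer_closure]
    exact h1
  intro a ha b hb
  exact (mem_centralizer_iff.1 (h2 hb) a ha)

theorem Ds_sq : ∀ a ∈ w.Ds, a * a = 1 := by
  intro a ha
  have hcomm := w.Ds_comm
  unfold Ds at ha hcomm
  induction ha using Subgroup.closure_induction with
  | mem x hx =>
    obtain ⟨c, -, v, hv, rfl⟩ := hx
    obtain ⟨y, rfl⟩ := (M₁.mem_iff v).1 hv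
    calc c * M₁.e y * c⁻¹ * (c * M₁.e y * c⁻¹) = c * (M₁.e y * M₁.e y) * c⁻¹ := by group
      _ = 1 := by rw [M₁.e_sq]; group
  | one => rw [one_mul]
  | mul x y hx hy h1 h2 =>
    have h3 := hcomm x hx y hy
    calc x * y * (x * y) = x * (y * x) * y := by group
      _ = (x * x) * (y * y) := by rw [← h3]; group
      _ = 1 := by rw [h1, h2, one_mul]
  | inv x _ h1 => rw [← mul_inv_rev, h1, inv_one]

theorem Ds_norm {f u : G} (hf : f ∈ centralizer ({M₁.e ss} : Set G)) (hu : u ∈ w.Ds) :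
    f * u * f⁻¹ ∈ w.Ds := by
  have h1 : w.Ds ≤ (w.Ds).comap (MulAut.conj f).toMonoidHom := by
    conv_lhs => rw [Ds]
    rw [closure_le]
    rintro _ ⟨c, hc, v, hv, rfl⟩
    refine subset_closure ⟨f * c, mul_mem hf hc, v, hv, ?_⟩
    show f * (c * v * c⁻¹) * f⁻¹ = _
    group
  exact h1 hu

/-- the second parity contradiction -/
theorem no_g₀ {g : G}
    (hg : g ∈ normalizer (((S : Subgroup G) ⊓ centralizer ({M₁.e nn} : Set G) : Subgroup G) : Set G))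
    (h0 : g * M₁.e nn * g⁻¹ = M₁.e aa)
    (h1 : g * M₁.e aa * g⁻¹ = M₁.e ss ∨ g * M₁.e aa * g⁻¹ = M₁.e ss * M₂.e ss)
    (h2 : g * M₂.e ss * g⁻¹ = M₂.e ss) : False := by
  obtain ⟨x, hx, hxi⟩ := w.exists_x
  have hxC : x ∈ centralizer ({M₁.e ss} : Set G) := mem_C.2 ((hxi.commute_iff _).2 (by decide))
  have hV := w.V₁_le_Ds
  have hkey : ∀ l, l * M₁.e aa = M₁.e aa * l → l * M₂.e ss = M₂.e ss * l →
      g * l * g⁻¹ ∈ centralizer ({M₁.e ss} : Set G) := by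
    intro l hl1 hl2
    rw [mem_C]
    rcases h1 with h1 | h1
    · rw [← h1]
      calc g * l * g⁻¹ * (g * M₁.e aa * g⁻¹) = g * (l * M₁.e aa) * g⁻¹ := by group
        _ = g * (M₁.e aa * l) * g⁻¹ := by rw [hl1]
        _ = g * M₁.e aa * g⁻¹ * (g * l * g⁻¹) := by group
    · have h3 : M₁.e ss = g * (M₁.e aa * M₂.e ss) * g⁻¹ := by
        calc M₁.e ss = M₁.e ss * (M₂.e ss * M₂.e ss) := by rw [M₂.e_sq, mul_one]
          _ = (g * M₁.e aa * g⁻¹) * (g * M₂.e ss * g⁻¹) := by rw [h1, h2, mul_assoc]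
          _ = g * (M₁.e aa * M₂.e ss) * g⁻¹ := by group
      rw [h3]
      calc g * l * g⁻¹ * (g * (M₁.e aa * M₂.e ss) * g⁻¹) = g * (l * M₁.e aa) * M₂.e ss * g⁻¹ := by group
        _ = g * M₁.e aa * (l * M₂.e ss) * g⁻¹ := by rw [hl1]; group
        _ = g * (M₁.e aa * M₂.e ss) * g⁻¹ * (g * l * g⁻¹) := by rw [hl2]; group
  refine Parity.false_of_list (F := centralizer ({M₁.e ss} : Set G)) (U := w.Ds)
    (T := (S : Subgroup G) ⊓ centralizer ({M₁.e nn} : Set G))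
    (v := M₁.e nn) (z := M₁.e ss) (s := x) (L := (th3.map M₁.e).map fun v => g * v * g⁻¹)
    w.Ds_comm w.Ds_sq (fun f hf u hu => w.Ds_norm hf hu) (hV (M₁.e_mem nn)) (s_ne M₁)
    (fun f hf => mem_C.1 hf) w.T_idx hxC ?_ ?_ ?_ ?_ ?_ ?_
  · rw [tt_n hxi, ← M₁.e_add, M₁.e_eq_iff]; decide
  · refine List.Nodup.map (fun a b h => mul_left_cancel (mul_right_cancel h)) ?_
    exact List.Nodup.map_on (fun x hx y hy h => th3_inj x hx y hy (M₁.e_eq_iff.1 h)) th3_nodup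
  · rw [List.length_map, List.length_map]; decide
  · rw [prod_map_conj, prod_map_e, th3_sum, M₁.e_zero]; group
  · intro y hy
    obtain ⟨v, hv, rfl⟩ := List.mem_map.1 hy
    obtain ⟨d, hd, rfl⟩ := List.mem_map.1 hv
    obtain ⟨p', h3, h4⟩ := th3_ex d hd
    obtain ⟨l, hl, hi⟩ := M₁.exists_lift p'
    have hi : M₁.Ind l p' := hi
    refine ⟨g * l * g⁻¹ * x, mul_mem (hkey l ((hi.commute_iff _).2 (Or.inl h4))
      (w.L₁_comm hl (M₂.e_mem ss))) hxC, ?_⟩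
    calc g * l * g⁻¹ * x * M₁.e nn * (g * l * g⁻¹ * x)⁻¹ =
        g * (l * (g⁻¹ * (x * M₁.e nn * x⁻¹) * g) * l⁻¹) * g⁻¹ := by group
      _ = g * (l * M₁.e nn * l⁻¹) * g⁻¹ := by rw [tt_n hxi, ← h0]; group
      _ = g * M₁.e d * g⁻¹ := by rw [hi, h3]
  · intro t ht y hy
    obtain ⟨v, hv, rfl⟩ := List.mem_map.1 hy
    obtain ⟨d, hd, rfl⟩ := List.mem_map.1 hv
    have h3 : g⁻¹ * t * g ∈ (S : Subgroup G) ⊓ centralizer ({M₁.e nn} : Set G) := by
      have := (mem_normalizer_iff.1 (inv_mem hg) t).1 ht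
      rwa [inv_inv] at this
    obtain ⟨p', q', hp', hi, -⟩ := w.T_ind h3
    have h4 : t * (g * M₁.e d * g⁻¹) * t⁻¹ = g * M₁.e (d ∘ p'.symm) * g⁻¹ := by
      rw [← hi]; group
    show t * (g * M₁.e d * g⁻¹) * t⁻¹ ∈ _
    rw [h4]
    exact List.mem_map_of_mem (List.mem_map_of_mem (th3_perm p' hp' d hd))

/-- no element of `N_G(T) ∖ T` generating a 2-group with `T` centralises `n` -/
theorem not_fix {g : G}
    (hg : g ∈ normalizer (((S : Subgroup G) ⊓ centralizer ({M₁.e nn} : Set G) : Subgroup G) : Set G))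
    (hg2 : IsPGroup 2 ((S : Subgroup G) ⊓ centralizer ({M₁.e nn} : Set G) ⊔ zpowers g : Subgroup G))
    (hgT : g ∉ (S : Subgroup G) ⊓ centralizer ({M₁.e nn} : Set G))
    (hgn : g * M₁.e nn * g⁻¹ = M₁.e nn) : False := by
  obtain ⟨x, hx, hxi⟩ := w.exists_x
  obtain ⟨s, hs, p, q, hsw⟩ := w.swap
  have hs2 := w.symm.sw_ss w.S_le hs (p := q) (q := p) ⟨hsw.2, hsw.1⟩
  have hxN : x ∈ normalizer (((S : Subgroup G) ⊓ centralizer ({M₁.e nn} : Set G) : Subgroup G) : Set G) :=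
    w.S₁_le_N ⟨hx.1, hxi.mem_normalizer⟩
  obtain ⟨t, ht⟩ := w.exists_act hg
  obtain ⟨h1, h2, -⟩ := w.act_props hg hg2 hgT ht
  have h3 : t.1 = e0 := w.zet_inj (by rw [← ht.e0, hgn, zet_e0])
  have hxs : x * M₁.e ss * x⁻¹ = M₁.e ss := by
    rw [(hxi.commute_iff _).2 (by decide), mul_inv_cancel_right]
  have hxt : x * M₂.e ss * x⁻¹ = M₂.e ss := by
    rw [w.L₁_comm hx.2 (M₂.e_mem ss), mul_inv_cancel_right]
  have hxz : x * (M₁.e ss * M₂.e ss) * x⁻¹ = M₁.e ss * M₂.e ss := by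
    calc x * (M₁.e ss * M₂.e ss) * x⁻¹ = (x * M₁.e ss * x⁻¹) * (x * M₂.e ss * x⁻¹) := by group
      _ = _ := by rw [hxs, hxt]
  have hgz : (lin t (1, 1, 1) = (1, 1, 1)) → g ∈ CZ (S : Subgroup G) := by
    intro h
    rw [w.mem_CZ]
    have h4 := ht (1, 1, 1)
    rw [h, zet_z, mul_inv_eq_iff_eq_mul] at h4
    exact h4
  have hxF : x ∈ CZ (S : Subgroup G) := le_centralizer_zc _ hx.1
  rcases ThreeLin.four t h1 h2 h3 with ⟨h4, h5⟩ | ⟨h4, h5⟩ | ⟨h4, h5⟩ | ⟨h4, h5⟩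
  · have ht' : t = ((1, 0, 0), (1, 1, 0), (1, 0, 1)) := Prod.ext h3 (Prod.ext h4 h5)
    have h6 := ht.e1
    rw [h4, zet_s] at h6
    refine w.not_conj_n (f := (g * x)⁻¹) (inv_mem (mul_mem (hgz (by rw [ht']; decide)) hxF)) ?_
    rw [← h6, ← tt_n hxi]; group
  · have ht' : t = ((1, 0, 0), (0, 0, 1), (0, 1, 0)) := Prod.ext h3 (Prod.ext h4 h5)
    have h6 := ht.e1
    have h7 : (0, 0, 1) = e2 := rfl
    rw [h4, h7, zet_e2] at h6
    refine w.not_conj_n (f := (s * g * x)⁻¹) (inv_mem (mul_mem (mul_mem (le_centralizer_zc _ hs)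
      (hgz (by rw [ht']; decide))) hxF)) ?_
    rw [← hs2, ← h6, ← tt_n hxi]; group
  · have h6 := ht.e1
    have h7 := ht.e2
    have h8 : (0, 0, 1) = e2 := rfl
    rw [h4, zet_s] at h6
    rw [h5, h8, zet_e2] at h7
    refine w.no_g₀ (g := x * g) (mul_mem hxN hg) ?_ (Or.inl ?_) ?_
    · rw [← tt_n hxi]; nth_rewrite 2 [← hgn]; group
    · calc x * g * M₁.e aa * (x * g)⁻¹ = x * (g * M₁.e aa * g⁻¹) * x⁻¹ := by group
        _ = M₁.e ss := by rw [h6, hxs]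
    · calc x * g * M₂.e ss * (x * g)⁻¹ = x * (g * M₂.e ss * g⁻¹) * x⁻¹ := by group
        _ = M₂.e ss := by rw [h7, hxt]
  · have h6 := ht.e1
    have h7 := ht.e2
    have h8 : (0, 0, 1) = e2 := rfl
    rw [h4, zet_z] at h6
    rw [h5, h8, zet_e2] at h7
    refine w.no_g₀ (g := x * g) (mul_mem hxN hg) ?_ (Or.inr ?_) ?_
    · rw [← tt_n hxi]; nth_rewrite 2 [← hgn]; group
    · calc x * g * M₁.e aa * (x * g)⁻¹ = x * (g * M₁.e aa * g⁻¹) * x⁻¹ := by group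
        _ = M₁.e ss * M₂.e ss := by rw [h6, hxz]
    · calc x * g * M₂.e ss * (x * g)⁻¹ = x * (g * M₂.e ss * g⁻¹) * x⁻¹ := by group
        _ = M₂.e ss := by rw [h7, hxt]

/-- **THEOREM (A): `T = C_S(n)` is a Sylow 2-subgroup of `C_G(n)`.** -/
theorem T_syl_n : Syl2 ((S : Subgroup G) ⊓ centralizer ({M₁.e nn} : Set G))
    (centralizer ({M₁.e nn} : Set G)) := by
  obtain ⟨R, hTR, hRC, hR2, hRs⟩ := Half.exists_sylow_le (S.isPGroup'.to_le inf_le_left)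
    (inf_le_right : (S : Subgroup G) ⊓ centralizer ({M₁.e nn} : Set G) ≤ centralizer ({M₁.e nn} : Set G))
  by_cases hne : R ≤ (S : Subgroup G) ⊓ centralizer ({M₁.e nn} : Set G)
  · rw [← le_antisymm hne hTR]
    exact ⟨hRC, hR2, hRs⟩
  · exfalso
    obtain ⟨g, hgR, hgT, hgN⟩ := exists_mem_normalizer hR2 hTR hne
    refine w.not_fix hgN (hR2.to_le (sup_le hTR (by rwa [zpowers_le]))) hgT ?_
    rw [mem_C.1 (hRC hgR), mul_inv_cancel_right]

theorem not_two_dvd : ¬ 2 ∣ ((S : Subgroup G) ⊓ centralizer ({M₁.e nn} : Set G)).relIndex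
    (centralizer ({M₁.e nn} : Set G)) := w.T_syl_n.odd

/-- **COR.** `g ∈ N_G(T) ∖ T` with `T⟨g⟩` a 2-group acts on `Ω₁(Z(T))` as `n ↔ a`, `τ ↦ τ`. -/
theorem act_xt {g : G}
    (hg : g ∈ normalizer (((S : Subgroup G) ⊓ centralizer ({M₁.e nn} : Set G) : Subgroup G) : Set G))
    (hg2 : IsPGroup 2 ((S : Subgroup G) ⊓ centralizer ({M₁.e nn} : Set G) ⊔ zpowers g : Subgroup G))
    (hgT : g ∉ (S : Subgroup G) ⊓ centralizer ({M₁.e nn} : Set G)) : Act M₁ M₂ g xt := by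
  obtain ⟨t, ht⟩ := w.exists_act hg
  obtain ⟨h1, h2, hc⟩ := w.act_props hg hg2 hgT ht
  rcases ThreeLin.three t h1 h2 with h3 | h3 | h3
  · rwa [h3] at ht
  · exfalso
    exact w.not_fix hg hg2 hgT (by rw [ht.e0, h3, zet_e0])
  · exfalso
    obtain ⟨x, hx, hxi⟩ := w.exists_x
    have hxS : x ∈ (S : Subgroup G) ⊓ normalizer (V₁ : Set G) := ⟨hx.1, hxi.mem_normalizer⟩
    have hcT := w.card_T₁
    have hTs := w.T_syl_n
    have hor := fun {y : G} => w.mem_or₁ (y := y) hx.1 hxi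
    have hfix : (g * (x * g)) * M₁.e nn * (g * (x * g))⁻¹ = M₁.e nn := by
      rw [(ht.mul ((w.act_x hx.2 hxi).mul ht)).e0, h3, zet_e0]
    set T := (S : Subgroup G) ⊓ centralizer ({M₁.e nn} : Set G) with hT
    set S₁ := (S : Subgroup G) ⊓ normalizer (V₁ : Set G) with hS₁
    have hS₁2 : IsPGroup 2 S₁ := S.isPGroup'.to_le inf_le_left
    have hgg : g * g ∈ T := by
      have hTR : T ≤ T ⊔ zpowers g := le_sup_left
      have hgR : g ∈ T ⊔ zpowers g := (le_sup_right : zpowers g ≤ _) (mem_zpowers g)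
      by_contra hcon
      have h4 := (index_two hTR hc.le hgR hgT).2 _ (mul_mem hgR hgR) hcon
      rw [inv_mul_cancel_left] at h4
      exact hgT h4
    have hy : g * x * g⁻¹ ∈ centralizer ({M₁.e nn} : Set G) := by
      have h4 : g * (x * g) ∈ centralizer ({M₁.e nn} : Set G) := mem_C.2 (by
        rwa [mul_inv_eq_iff_eq_mul] at hfix)
      have h6 : (g * g)⁻¹ ∈ centralizer ({M₁.e nn} : Set G) :=
        Subgroup.inv_mem _ ((inf_le_right : T ≤ centralizer ({M₁.e nn} : Set G)) hgg)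
      have h5 := mul_mem h4 h6
      have e : g * (x * g) * (g * g)⁻¹ = g * x * g⁻¹ := by group
      rwa [e] at h5
    have hR : cj g S₁ ≤ centralizer ({M₁.e nn} : Set G) := by
      rintro _ ⟨y, hy', rfl⟩
      show g * y * g⁻¹ ∈ _
      rcases hor hy' with h4 | h4
      · exact ((mem_normalizer_iff.1 hg y).1 h4).2
      · have h6 : g * (y * x) * g⁻¹ ∈ centralizer ({M₁.e nn} : Set G) :=
          (inf_le_right : T ≤ centralizer ({M₁.e nn} : Set G)) ((mem_normalizer_iff.1 hg _).1 h4)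
        have h5 := mul_mem h6 (inv_mem hy)
        have e : g * (y * x) * g⁻¹ * (g * x * g⁻¹)⁻¹ = g * y * g⁻¹ := by group
        rwa [e] at h5
    have h6 := card_le_of_syl hTs hR (hS₁2.map _)
    have h7 : Nat.card (cj g S₁) = Nat.card S₁ := card_map_of_injective (MulAut.conj g).injective
    have h8 : 0 < Nat.card T := Nat.card_pos
    omega

/-- **COR.** `g ∈ N_G(T) ∖ T` with `T⟨g⟩` a 2-group interchanges `n` and `a`. -/
theorem swap_of_two {g : G}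
    (hg : g ∈ normalizer (((S : Subgroup G) ⊓ centralizer ({M₁.e nn} : Set G) : Subgroup G) : Set G))
    (hg2 : IsPGroup 2 ((S : Subgroup G) ⊓ centralizer ({M₁.e nn} : Set G) ⊔ zpowers g : Subgroup G))
    (hgT : g ∉ (S : Subgroup G) ⊓ centralizer ({M₁.e nn} : Set G)) :
    g * M₁.e nn * g⁻¹ = M₁.e aa ∧ g * M₁.e aa * g⁻¹ = M₁.e nn ∧ g * M₂.e ss * g⁻¹ = M₂.e ss := by
  have h := w.act_xt hg hg2 hgT
  exact ⟨by rw [h.e0]; exact zet_e1, by rw [h.e1]; exact zet_e0, by rw [h.e2]; exact zet_e2⟩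

end fin

end Wr

end Cfsg.Agent.Omega.IId.LFour
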