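import Cfsg.Agent.Omega.IId.LFour.Def

/-!
# `Wr` from `FFThm.SymK` with `k = m = 2` (project OMEGA, II.d L4)
-/

set_option autoImplicit false

namespace Cfsg.Agent.Omega.IId.LFour

open Subgroup Pointwise Cfsg Cfsg.Agent.ZN Cfsg.Agent.Omega.MinPar Cfsg.Agent.Omega.FFThm
open Cfsg.Agent.ZN.ChoiceBase (cj mem_cj)
open Cfsg.Agent.Omega.S5.Mod Cfsg.Agent.Omega.S5.TT
open Cfsg.Agent.Omega.Half (Amb amb_of_loc)
open Cfsg.Agent.Omega.IId.LFour.SymF

universe u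

variable {G : Type u} [Group G] [Finite G]

/-- Labels of `V` such that `T` induces `D₈ = C((0 1)(2 3))` on `V` (`S5.Types.exists_relabel` for a Sylow
2-subgroup `T` of `L`). -/
theorem exists_relabel {V L T : Subgroup G} (M : FiveMod V L) (hT : IsPGroup 2 T) (hTL : T ≤ L)
    (hsy : ¬ 2 ∣ T.relIndex L) : ∃ σ : Equiv.Perm (Fin 5),
      (∀ g ∈ T, ∀ p, (M.relabel σ).Ind g p → p * dd = dd * p) ∧
      (∀ p, p * dd = dd * p → ∃ g ∈ T, (M.relabel σ).Ind g p) := by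
  have : Fact (Nat.Prime 2) := ⟨Nat.prime_two⟩
  set S1 : Sylow 2 L := (hT.comap_of_injective _ L.subtype_injective).toSylow hsy with hS1
  set P : Sylow 2 (Equiv.Perm (Fin 5)) := S1.mapSurjective M.pi_surjective with hP
  -- the centralizer of `dd`
  set D : Subgroup (Equiv.Perm (Fin 5)) := centralizer ({dd} : Set (Equiv.Perm (Fin 5))) with hD
  have hDcard : Nat.card D = 8 := by
    have h1 : Nat.card D = (Finset.univ.filter fun p : Equiv.Perm (Fin 5) => p * dd = dd * p).card := by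
      rw [← Fintype.card_subtype, ← Nat.card_eq_fintype_card]
      refine Nat.card_congr (Equiv.subtypeEquivRight fun p => ?_)
      exact mem_centralizer_singleton_iff
    rw [h1, S5.Types.card_D8]
  have hDp : IsPGroup 2 D := IsPGroup.of_card (n := 3) (by rw [hDcard]; norm_num)
  obtain ⟨Q, hQ⟩ := hDp.exists_le_sylow
  obtain ⟨τ, hτ⟩ := MulAction.exists_smul_eq (Equiv.Perm (Fin 5)) P Q
  have hQcard : Nat.card Q = 8 := by
    have h1 : Nat.card Q = 2 ^ (Nat.card (Equiv.Perm (Fin 5))).factorization 2 :=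
      Q.card_eq_multiplicity
    have h2 : Nat.card (Equiv.Perm (Fin 5)) = 120 := by
      rw [Nat.card_eq_fintype_card, Fintype.card_perm, Fintype.card_fin]; rfl
    have h3 : (120 : ℕ).factorization 2 = 3 := by
      have : (120 : ℕ) = 2 ^ 3 * 15 := by norm_num
      rw [this, Nat.factorization_mul (by norm_num) (by norm_num),
        Nat.Prime.factorization_pow Nat.prime_two]
      simp [Nat.factorization_eq_zero_of_not_dvd (show ¬ 2 ∣ 15 by norm_num)]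
    rw [h1, h2, h3]; norm_num
  have hQD : (Q : Subgroup (Equiv.Perm (Fin 5))) = D :=
    (Subgroup.eq_of_le_of_card_ge hQ (by rw [hDcard]; exact hQcard.le)).symm
  have hPmem : ∀ p, p ∈ (P : Subgroup (Equiv.Perm (Fin 5))) ↔ ∃ g ∈ T, M.Ind g p := by
    intro p
    constructor
    · intro hp
      have hp' : p ∈ (S1 : Subgroup L).map M.pi := hp
      obtain ⟨g, hg, rfl⟩ := hp'
      exact ⟨g, mem_subgroupOf.1 hg, M.pi_spec g⟩
    · rintro ⟨g, hg, hi⟩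
      have h1 : M.pi ⟨g, hTL hg⟩ ∈ (S1 : Subgroup L).map M.pi :=
        ⟨⟨g, hTL hg⟩, mem_subgroupOf.2 hg, rfl⟩
      rw [M.pi_eq (g := ⟨g, hTL hg⟩) hi] at h1
      exact h1
  have hQmem : ∀ p, p * dd = dd * p ↔ τ⁻¹ * p * τ ∈ (P : Subgroup (Equiv.Perm (Fin 5))) := by
    intro p
    have h0 : p * dd = dd * p ↔ p ∈ D := mem_centralizer_singleton_iff.symm
    rw [h0, ← hQD, ← hτ, Sylow.coe_subgroup_smul]
    change p ∈ (P : Subgroup (Equiv.Perm (Fin 5))).map (MulAut.conj τ).toMonoidHom ↔ _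
    exact mem_cj
  refine ⟨τ⁻¹, ?_, ?_⟩
  · intro g hg p hp
    have h1 := FiveMod.ind_of_relabel τ⁻¹ hp
    rw [inv_inv] at h1
    rw [hQmem, hPmem]
    exact ⟨g, hg, h1⟩
  · intro p hp
    rw [hQmem, hPmem] at hp
    obtain ⟨g, hg, hi⟩ := hp
    refine ⟨g, hg, ?_⟩
    have h1 := FiveMod.relabel_ind τ⁻¹ hi
    have e : τ⁻¹⁻¹ * (τ⁻¹ * p * τ) * τ⁻¹ = p := by group
    rwa [e] at h1

variable {T H V : Subgroup G} {k : ℕ} (M : SymK T H V ⊥ k 2) (hA : Amb T H V)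

/-- the `i`-th summand as a `FiveMod` -/
noncomputable def md (i : Fin k) : FiveMod (fac M i) (grp M i) :=
  S5.OfEven.ofEven (evenSet M (by norm_num) hA i)

theorem md_e (i : Fin k) : (md M hA i).e = lab M (by norm_num) i := rfl

theorem cof_eq {T H V : Subgroup G} {m : ℕ} (M : SymK T H V ⊥ 2 m) {i j : Fin 2} (hij : i ≠ j) :
    cof M i = fac M j := by
  apply le_antisymm
  · rintro v ⟨hv, h1⟩
    refine ⟨hv, fun l hl => ?_⟩
    have h2 : l = i := by omega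
    rw [h2, h1]
  · exact fac_le_cof M hij.symm

/-- **`Wr` from `SymK`.** -/
theorem exists_wr (hG : IsCharacteristicTwoType G) (S : Sylow 2 G) {P : Subgroup G}
    (hP : IsParS (S : Subgroup G) P) (M : SymK (S : Subgroup G) P (zl (S : Subgroup G) P) ⊥ 2 2)
    {i j : Fin 2} (hij : i ≠ j) : ∃ σ₁ σ₂ : Equiv.Perm (Fin 5),
      Wr S P ((md M (amb_of_loc hG S hP.isLoc) i).relabel σ₁)
        ((md M (amb_of_loc hG S hP.isLoc) j).relabel σ₂) := by
  have hA := amb_of_loc hG S hP.isLoc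
  have hSy : ¬ 2 ∣ (S : Subgroup G).relIndex P := MinSimple.Basic.not_dvd_relIndex S hP.isLoc.le
  have key : ∀ l : Fin 2, ∃ σ : Equiv.Perm (Fin 5),
      (∀ g ∈ (S : Subgroup G) ⊓ grp M l, ∀ p, ((md M hA l).relabel σ).Ind g p → p * dd = dd * p) ∧
      (∀ p, p * dd = dd * p → ∃ g ∈ (S : Subgroup G) ⊓ grp M l, ((md M hA l).relabel σ).Ind g p) := by
    intro l
    refine exists_relabel (md M hA l) (S.isPGroup'.to_le inf_le_left) inf_le_right ?_
    rw [inf_comm]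
    exact not_dvd_grp M (by norm_num) hA hSy l
  obtain ⟨σ₁, d₁, d₁'⟩ := key i
  obtain ⟨σ₂, d₂, d₂'⟩ := key j
  -- the labels
  have hlab : ∀ (l : Fin 2) (σ : Equiv.Perm (Fin 5)) (x : Vec), ((md M hA l).relabel σ).e x =
      lab M (by norm_num) l (x ∘ σ.symm) := fun l σ x => rfl
  have hconj : ∀ {g : G} (_ : g ∈ P) {σ : Equiv.Perm (Fin 2)} {τ : Fin 2 → Equiv.Perm (Fin 5)}
      (_ : ActsSym M.e (zl (S : Subgroup G) P) g σ τ) (l : Fin 2) (ρ ρ' : Equiv.Perm (Fin 5)) (x : Vec),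
      g * ((md M hA l).relabel ρ).e x * g⁻¹ = ((md M hA (σ l)).relabel ρ').e
        (x ∘ (ρ'⁻¹ * τ l * ρ).symm) := by
    intro g hg σ τ h l ρ ρ' x
    rw [hlab, hlab, conj_lab M _ (hA.HV hg) h]
    congr 1
    funext z
    change x (ρ⁻¹ ((τ l)⁻¹ z)) = x ((ρ'⁻¹ * τ l * ρ)⁻¹ (ρ'⁻¹ z))
    rw [← Equiv.Perm.mul_apply, ← Equiv.Perm.mul_apply]
    congr 2
    group
  have hsw : ∀ {g : G} (_ : g ∈ P) {σ : Equiv.Perm (Fin 2)} {τ : Fin 2 → Equiv.Perm (Fin 5)}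
      (_ : ActsSym M.e (zl (S : Subgroup G) P) g σ τ) (_ : σ i = j),
      ∃ p q, Sw ((md M hA i).relabel σ₁) ((md M hA j).relabel σ₂) g p q := by
    intro g hg σ τ h hσ
    have hσj : σ j = i := by
      have h1 : σ j ≠ j := fun h0 => hij (σ.injective (hσ.trans h0.symm))
      omega
    refine ⟨σ₂⁻¹ * τ i * σ₁, σ₁⁻¹ * τ j * σ₂, fun x => ?_, fun x => ?_⟩
    · have h1 := hconj hg h i σ₁ σ₂ x
      rw [h1]
      exact congrArg (fun l => ((md M hA l).relabel σ₂).e (x ∘ (σ₂⁻¹ * τ i * σ₁).symm)) hσ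
    · have h1 := hconj hg h j σ₂ σ₁ x
      rw [h1]
      exact congrArg (fun l => ((md M hA l).relabel σ₁).e (x ∘ (σ₁⁻¹ * τ j * σ₂).symm)) hσj
  refine ⟨σ₁, σ₂, ⟨hG, hP, ?_, ?_, ?_, ?_, ?_, ?_, d₁, d₁', d₂, d₂'⟩⟩
  · rw [← cof_eq M hij]; rfl
  · rw [← cof_eq M hij.symm]; rfl
  · rw [← cof_eq M hij]; exact (sup_eq M i).symm
  · rw [← cof_eq M hij]; exact fac_inf_cof M i
  · intro g hg
    obtain ⟨σ, τ, h⟩ := M.perm g hg
    by_cases hσ : σ i = i
    · left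
      have hσj : σ j = j := by
        have h1 : σ j ≠ i := fun h0 => hij (σ.injective (hσ.trans h0.symm))
        omega
      refine ⟨σ₁⁻¹ * τ i * σ₁, σ₂⁻¹ * τ j * σ₂, fun x => ?_, fun x => ?_⟩
      · rw [hconj hg h i σ₁ σ₁ x]
        exact congrArg (fun l => ((md M hA l).relabel σ₁).e (x ∘ (σ₁⁻¹ * τ i * σ₁).symm)) hσ
      · rw [hconj hg h j σ₂ σ₂ x]
        exact congrArg (fun l => ((md M hA l).relabel σ₂).e (x ∘ (σ₂⁻¹ * τ j * σ₂).symm)) hσj
    · right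
      exact hsw hg h (by omega)
  · obtain ⟨t, ht, σ, τ, h, hσ⟩ := M.trans i j
    obtain ⟨p, q, h1⟩ := hsw (hP.isLoc.le ht) h hσ
    exact ⟨t, ht, p, q, h1⟩

end Cfsg.Agent.Omega.IId.LFour
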