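import Cfsg.Agent.Omega.IId.LFour.LemX
import Cfsg.Agent.Omega.IId.LFour.Of
import Cfsg.Agent.Omega.IId.SMain
import Cfsg.Agent.Omega.IId.SymMain
import Cfsg.Agent.Omega.IId.MatchSym

/-!
# `SwTwo` (project OMEGA, II.d; helper84 #16986 (1))

`(P, P')` a pair, `P` of type `S₅ wr 2`, `P'` of type `S₅` or `S₅ wr 2`.

* `exists_duad` : two sums of even-subset modules: there is an element `n` of `V ∩ V'` which is a duad of a summand
  of `V` and of a summand of `V'`;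
* `card_eq_two` : `|[V, V']| = 2`, since `V ≤ O₂(C_G(n))` (LEMMA X) and `[O₂(C_G(n)) ∩ P', V'] ≤ ⟨n⟩`;
* `swTwo : SwTwo K`.
-/

set_option autoImplicit false
set_option linter.unusedSectionVars false

namespace Cfsg.Agent.Omega.IId.LFour

open Subgroup Pointwise Cfsg Cfsg.Agent.ZN Cfsg.Agent.Omega.MinPar Cfsg.Agent.Omega.FFThm
open Cfsg.Agent.ZN.ChoiceBase (cj mem_cj)
open Cfsg.Agent.Omega.S5.Mod Cfsg.Agent.Omega.S5.TT
open Cfsg.Agent.Omega.S5.TT.Pos (na ns as sn n_ne s_ne a_ne n_ne_a n_ne_s a_ne_s e_sq' mem_C)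
open Cfsg.Agent.Omega.Frame
open Cfsg.Agent.Omega.Half (Amb amb_of_loc)
open Cfsg.Agent.Omega.Half.SymA (Pt E E_mul E_one E_inv Mv pm mv_pm pm_swap zmod2 sep)
open Cfsg.Agent.Omega.IId.LFour.SymF
open Cfsg.Agent.MinSimple.VModule (le_normalizer_o2 o2_isPGroup o2_le le_o2)
open scoped commutatorElement Classical

universe u

variable {G : Type u} [Group G]

/-! ### Offenders on a sum of even-subset modules -/

section off

variable {T H V A : Subgroup G} {k m : ℕ} (M : SymK T H V ⊥ k m)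

/-- the support `{p, q}` -/
def Duad (n : G) (p q : Pt k m) : Prop :=
  n ∈ V ∧ p ≠ q ∧ p.1 = q.1 ∧ ∀ r, E M n r = (if r = p then 1 else 0) + (if r = q then 1 else 0)

variable {M}

theorem Duad.ne_one {n : G} {p q : Pt k m} (h : Duad M n p q) : n ≠ 1 := by
  rintro rfl
  have h1 := h.2.2.2 p
  rw [E_one, if_pos rfl, if_neg h.2.1] at h1
  exact zero_ne_one h1

/-- If `a ∈ A` does not commute with `v ∈ V`, then some `b ∈ A` acts as a transposition `(p q)` which is not fixed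
by `v`. -/
theorem exists_swap_of_ne (hA : Amb T H V) (hAT : A ≤ T) (ho : Off V A) {a v : G} (ha : a ∈ A)
    (hv : v ∈ V) (hne : ⁅a, v⁆ ≠ 1) : ∃ b ∈ A, ∃ p q : Pt k m, Mv M b (Equiv.swap p q) ∧ Duad M ⁅b, v⁆ p q := by
  obtain ⟨τ, hact, hτ⟩ := (M.off _ hAT ho).2 a ha
  have hmv := mv_pm M hact
  have hVa : ⁅a, v⁆ ∈ V := comm_mem hA (hA.TH (hAT ha)) hv
  obtain ⟨p, hp⟩ : ∃ p, E M v p + E M v (pm 1 τ p) ≠ 0 := by
    by_contra hcon
    push Not at hcon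
    apply hne
    refine Half.SymA.eq_one M hVa fun r => ?_
    obtain ⟨p, rfl⟩ := (pm 1 τ).surjective r
    rw [E_comm hA (hA.TH (hAT ha)) hmv hv p]
    exact hcon p
  have hpp : pm 1 τ p ≠ p := by
    intro h
    apply hp
    rw [h]
    exact CharTwo.add_self_eq_zero _
  have hp' : τ p.1 p.2 ≠ p.2 := fun h' => hpp (Prod.ext rfl h')
  obtain ⟨-, b, hb, h2⟩ := hτ p.1 p.2 hp'
  have h3 := mv_pm M h2
  have h4 : pm 1 (Function.update 1 p.1 (Equiv.swap p.2 (τ p.1 p.2))) = Equiv.swap p (pm 1 τ p) :=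
    pm_swap (q := pm 1 τ p) rfl
  rw [h4] at h3
  have hbH := hA.TH (hAT hb)
  refine ⟨b, hb, p, pm 1 τ p, h3, comm_mem hA hbH hv, Ne.symm hpp, rfl, ?_⟩
  refine (comm_swap hA hbH h3 hv).resolve_left fun h5 => hp ?_
  have h6 := E_comm hA hbH h3 hv p
  rw [h5, E_one, Equiv.swap_apply_left] at h6
  exact h6.symm

end off

/-! ### The matching -/

section matching

variable [Finite G] {S S' : Sylow 2 G} {P P' : Subgroup G} {k k' m m' : ℕ}

/-- **Matching**: a common duad of `V` and `V'`. -/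
theorem exists_duad (hc : IsCharacteristicTwoType G) (hp : Pair S S' P P')
    (hT : NoOver (zl (S : Subgroup G) P) P) (hT' : NoOver (zl (S' : Subgroup G) P') P')
    (M : SymK (S : Subgroup G) P (zl (S : Subgroup G) P) ⊥ k m)
    (M' : SymK (S' : Subgroup G) P' (zl (S' : Subgroup G) P') ⊥ k' m') :
    ∃ n, (∃ p q, Duad M n p q) ∧ ∃ p q, Duad M' n p q := by
  have hA := amb_of_loc hc S hp.star.isLoc
  have hA' := amb_of_loc hc S' hp.star'.isLoc
  have o1 := hp.off hc hT'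
  have o2 := hp.symm.off hc hT
  obtain ⟨v₀, hv₀, a₀, ha₀, hne⟩ : ∃ v ∈ zl (S : Subgroup G) P, ∃ a ∈ zl (S' : Subgroup G) P', ⁅v, a⁆ ≠ 1 := by
    by_contra hcon
    push Not at hcon
    apply hp.ne
    rw [eq_bot_iff, commutator_le]
    intro v hv a ha
    rw [mem_bot]
    exact hcon v hv a ha
  -- `v ∈ V` acts as a transposition on `V'`
  obtain ⟨v, hv, p', q', hvs, hd'⟩ := exists_swap_of_ne (M := M') hA' hp.le' o2 hv₀ ha₀ hne
  have hvP' := hA'.TH (hp.le' hv)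
  have hne2 : ⁅a₀, v⁆ ≠ 1 := by
    intro h
    apply hd'.ne_one
    rw [← commutatorElement_inv, h, inv_one]
  -- `b ∈ V'` acts as a transposition on `V`
  obtain ⟨b, hb, p, q, hbs, hd⟩ := exists_swap_of_ne (M := M) hA hp.le o1 ha₀ hv hne2
  refine ⟨⁅b, v⁆, ⟨p, q, hd⟩, p', q', ?_⟩
  have e : ⁅b, v⁆ = ⁅v, b⁆ := by
    have h1 := hA.sq _ hd.1
    rw [pow_two] at h1
    have h2 := inv_eq_of_mul_eq_one_left h1
    rw [commutatorElement_inv] at h2
    exact h2.symm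
  rw [e]
  refine ⟨comm_mem hA' hvP' hb, hd'.2.1, hd'.2.2.1, ?_⟩
  exact (comm_swap hA' hvP' hvs hb).resolve_left fun h => hd.ne_one (e.trans h)

end matching

/-! ### A duad in the labels of `FiveMod` -/

theorem exists_nn : ∀ a b : Fin 5, a ≠ b → ∃ ρ : Equiv.Perm (Fin 5),
    nn ∘ ρ.symm = Pi.single a 1 + Pi.single b 1 := by
  decide +kernel

section five

variable [Finite G] {T H V : Subgroup G} {k : ℕ} (M : SymK T H V ⊥ k 2) (hA : Amb T H V)

/-- a duad is the image of `nn` under relabelling -/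
theorem exists_relabel_eq {n : G} {p q : Pt k 2} (h : Duad M n p q) : n ∈ SymF.fac M p.1 ∧
    ∃ ρ : Equiv.Perm (Fin 5), n = (md M hA p.1).e (nn ∘ ρ.symm) := by
  obtain ⟨hn, hpq, h1, h2⟩ := h
  have h3 : p.2 ≠ q.2 := fun h => hpq (Prod.ext h1 h)
  have hf : n ∈ SymF.fac M p.1 := by
    refine ⟨hn, fun j hj => funext fun x => ?_⟩
    have h4 := h2 (j, x)
    rw [if_neg, if_neg, add_zero] at h4
    · exact h4
    · rintro rfl; exact hj h1.symm
    · rintro rfl; exact hj rfl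
  obtain ⟨ρ, hρ⟩ := exists_nn p.2 q.2 h3
  refine ⟨hf, ρ, ?_⟩
  rw [md_e, hρ, ← lab_e M (by norm_num) hf]
  congr 1
  funext x
  have h4 := h2 (p.1, x)
  rw [E] at h4
  change M.e n p.1 x = _
  rw [h4, Pi.add_apply, Pi.single_apply, Pi.single_apply]
  congr 1
  · refine if_congr ?_ rfl rfl
    exact ⟨fun h => congrArg Prod.snd h, fun h => Prod.ext rfl h⟩
  · refine if_congr ?_ rfl rfl
    exact ⟨fun h => congrArg Prod.snd h, fun h => Prod.ext h1 h⟩

end five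

section wr

variable [Finite G] {S : Sylow 2 G} {P : Subgroup G}

/-- `k = 2`: a duad is conjugate in `P` to the `n` of a structure `Wr`. -/
theorem exists_wr_duad (hc : IsCharacteristicTwoType G) (hP : IsParS (S : Subgroup G) P)
    (M : SymK (S : Subgroup G) P (zl (S : Subgroup G) P) ⊥ 2 2) {n : G} {p q : Pt 2 2} (h : Duad M n p q) :
    ∃ (V₁ V₂ L₁ L₂ : Subgroup G) (M₁ : FiveMod V₁ L₁) (M₂ : FiveMod V₂ L₂), Wr S P M₁ M₂ ∧
      ∃ g ∈ P, n = g * M₁.e nn * g⁻¹ := by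
  have hA := amb_of_loc hc S hP.isLoc
  obtain ⟨j, hij⟩ : ∃ j, p.1 ≠ j := ⟨1 - p.1, by generalize p.1 = i; revert i; decide⟩
  obtain ⟨σ₁, σ₂, wr⟩ := exists_wr hc S hP M hij
  obtain ⟨-, ρ, hρ⟩ := exists_relabel_eq M hA h
  obtain ⟨g, hg, hi⟩ := ((md M hA p.1).relabel σ₁).exists_lift (σ₁⁻¹ * ρ)
  refine ⟨_, _, _, _, _, _, wr, g, wr.L₁_le hg, ?_⟩
  have hi' : ((md M hA p.1).relabel σ₁).Ind g (σ₁⁻¹ * ρ) := hi
  rw [hi' nn, FiveMod.relabel_e, hρ]
  congr 1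
  funext x
  change nn (ρ⁻¹ x) = nn ((σ₁⁻¹ * ρ)⁻¹ (σ₁⁻¹ x))
  rw [← Equiv.Perm.mul_apply]
  congr 2
  group

/-- `V ≤ O₂(C_G(n))` for a duad `n`. -/
theorem zl_le_o2_duad (hc : IsCharacteristicTwoType G) (hP : IsParS (S : Subgroup G) P)
    (M : SymK (S : Subgroup G) P (zl (S : Subgroup G) P) ⊥ 2 2) {n : G} {p q : Pt 2 2} (h : Duad M n p q) :
    zl (S : Subgroup G) P ≤ o2 (centralizer ({n} : Set G)) := by
  obtain ⟨V₁, V₂, L₁, L₂, M₁, M₂, wr, g, hg, rfl⟩ := exists_wr_duad hc hP M h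
  have hA := amb_of_loc hc S hP.isLoc
  rw [Triangle.o2_cent_conj]
  intro v hv
  have h1 : g⁻¹ * v * g ∈ zl (S : Subgroup G) P := by
    have := hA.conj_mem (inv_mem hg) hv
    rwa [inv_inv] at this
  refine ⟨g⁻¹ * v * g, wr.zl_le_o2 h1, ?_⟩
  change g * (g⁻¹ * v * g) * g⁻¹ = v
  group

/-- `k = 2`: `[O₂(C_G(n)) ∩ P, V] ≤ ⟨n⟩` for a duad `n`. -/
theorem comm_two (hc : IsCharacteristicTwoType G) (hP : IsParS (S : Subgroup G) P)
    (M : SymK (S : Subgroup G) P (zl (S : Subgroup G) P) ⊥ 2 2) {n : G} {p q : Pt 2 2} (h : Duad M n p q)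
    {x v : G} (hx : x ∈ o2 (centralizer ({n} : Set G))) (hxP : x ∈ P) (hv : v ∈ zl (S : Subgroup G) P) :
    ⁅x, v⁆ = 1 ∨ ⁅x, v⁆ = n := by
  obtain ⟨V₁, V₂, L₁, L₂, M₁, M₂, wr, g, hg, rfl⟩ := exists_wr_duad hc hP M h
  have hA := amb_of_loc hc S hP.isLoc
  rw [Triangle.o2_cent_conj] at hx
  obtain ⟨y, hy, rfl⟩ := hx
  have hyP : y ∈ P := by
    have h1 : g⁻¹ * (g * y * g⁻¹) * g ∈ P := mul_mem (mul_mem (inv_mem hg) hxP) hg
    have e : g⁻¹ * (g * y * g⁻¹) * g = y := by group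
    rwa [e] at h1
  have h1 : g⁻¹ * v * g ∈ zl (S : Subgroup G) P := by
    have := hA.conj_mem (inv_mem hg) hv
    rwa [inv_inv] at this
  have e : ⁅(MulAut.conj g).toMonoidHom y, v⁆ = g * (y * (g⁻¹ * v * g) * y⁻¹ * (g⁻¹ * v * g)⁻¹) * g⁻¹ := by
    change ⁅g * y * g⁻¹, v⁆ = _
    rw [commutatorElement_def]
    group
  rw [e]
  rcases wr.comm_o2 hy hyP h1 with h2 | h2
  · left; rw [h2]; group
  · right; rw [h2]

/-- `k = 1`: `[O₂(C_G(n)) ∩ P, V] ≤ ⟨n⟩` for a duad `n`. -/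
theorem comm_one (hc : IsCharacteristicTwoType G) (hP : IsParS (S : Subgroup G) P)
    (M : SymK (S : Subgroup G) P (zl (S : Subgroup G) P) ⊥ 1 2) {n : G} {p q : Pt 1 2} (h : Duad M n p q)
    {x v : G} (hx : x ∈ o2 (centralizer ({n} : Set G))) (hxP : x ∈ P) (hv : v ∈ zl (S : Subgroup G) P) :
    ⁅x, v⁆ = 1 ∨ ⁅x, v⁆ = n := by
  have hA := amb_of_loc hc S hP.isLoc
  obtain ⟨hf, ρ, hρ⟩ := exists_relabel_eq M hA h
  set N := (md M hA p.1).relabel ρ with hN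
  have hn : N.e nn = n := hρ.symm
  obtain ⟨σ, τ, hact⟩ := M.perm x hxP
  have hi : (md M hA p.1).Ind x (τ p.1) := by
    intro y
    change x * lab M (by norm_num) p.1 y * x⁻¹ = lab M (by norm_num) p.1 _
    rw [conj_lab M _ (hA.HV hxP) hact, Subsingleton.elim (σ p.1) p.1]
  have hvf : v ∈ SymF.fac M p.1 := ⟨hv, fun j hj => absurd (Subsingleton.elim j p.1) hj⟩
  rw [← hn] at hx ⊢
  have h1 := LFour.comm_o2 N hx (FiveMod.relabel_ind ρ hi) hvf
  rwa [commutatorElement_def]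

end wr

/-! ### The theorem -/

section main

variable [Finite G] {S S' : Sylow 2 G} {P P' : Subgroup G} {k' : ℕ}

/-- **`|[V, V']| = 2`** for `S₅ wr 2` against `S₅` or `S₅ wr 2`. -/
theorem card_eq_two (hc : IsCharacteristicTwoType G) (hp : Pair S S' P P')
    (hT : NoOver (zl (S : Subgroup G) P) P) (hT' : NoOver (zl (S' : Subgroup G) P') P')
    (M : SymK (S : Subgroup G) P (zl (S : Subgroup G) P) ⊥ 2 2)
    (M' : SymK (S' : Subgroup G) P' (zl (S' : Subgroup G) P') ⊥ k' 2) (hk : 1 ≤ k') (hk' : k' ≤ 2) :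
    Nat.card ↥⁅zl (S : Subgroup G) P, zl (S' : Subgroup G) P'⁆ = 2 := by
  obtain ⟨n, ⟨p, q, hd⟩, p', q', hd'⟩ := exists_duad hc hp hT hT' M M'
  have hA := amb_of_loc hc S hp.star.isLoc
  have hVP' : zl (S : Subgroup G) P ≤ P' := hp.le'.trans hp.star'.isLoc.le
  have hO := zl_le_o2_duad hc hp.star M hd
  have hcomm : ∀ v ∈ zl (S : Subgroup G) P, ∀ a ∈ zl (S' : Subgroup G) P', ⁅v, a⁆ = 1 ∨ ⁅v, a⁆ = n := by
    intro v hv a ha
    obtain rfl | rfl : k' = 1 ∨ k' = 2 := by omega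
    · exact comm_one hc hp.star' M' hd' (hO hv) (hVP' hv) ha
    · exact comm_two hc hp.star' M' hd' (hO hv) (hVP' hv) ha
  have hn2 : n * n = 1 := by
    have := hA.sq n hd.1
    rwa [pow_two] at this
  have hle : ⁅zl (S : Subgroup G) P, zl (S' : Subgroup G) P'⁆ ≤ zpowers n := by
    rw [commutator_le]
    intro v hv a ha
    rw [Triangle.mem_zpowers_iff_of_sq hn2]
    exact hcomm v hv a ha
  have h1 : Nat.card (zpowers n) = 2 := by
    rw [Nat.card_zpowers]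
    exact orderOf_eq_prime (by rw [pow_two]; exact hn2) hd.ne_one
  have h2 := Subgroup.card_le_of_le hle
  have h3 : 1 < Nat.card ↥⁅zl (S : Subgroup G) P, zl (S' : Subgroup G) P'⁆ :=
    (Subgroup.one_lt_card_iff_ne_bot _).2 hp.ne
  omega

end main

/-- **`SwTwo K`.** -/
theorem swTwo (K : Cls.{u}) : SwTwo K := by
  intro G _ _ S S' hH P P' hp k' M M' hk hk' hne
  obtain ⟨t1, t2⟩ := Sym.typed_of hH.typed hp
  exact absurd (card_eq_two hH.ctx.char2 hp t1.noOver t2.noOver M M' hk hk') hne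

end Cfsg.Agent.Omega.IId.LFour
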