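import Cfsg.Agent.Omega.IId.LFour.AThree

/-!
# No triangle: `V₁ ≤ O₂(C_G(σ₁))` (project OMEGA, II.d L4; #14703 A (5))

`w : Wr S P M₁ M₂`, `S₁ = N_S(V₁)` a Sylow 2-subgroup of `C_G(σ₁)`, `Q_σ = O₂(C_G(σ₁))`.

* `Wr.Qs_ind` : `Q_σ` acts on `V₁` inside `V₄`;
* `Wr.V₁_le_Qs` : `V₁ ≤ Q_σ`;
* `Wr.comm_Ds` : `⟨V₁^{C_G(σ₁)}⟩` is elementary abelian;
* `Wr.comm_V₂` : it centralises `V₂`.
-/

set_option autoImplicit false
set_option linter.unusedSectionVars false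

namespace Cfsg.Agent.Omega.IId.LFour

open Subgroup Pointwise Cfsg Cfsg.Agent.ZN Cfsg.Agent.Omega.MinPar Cfsg.Agent.Omega.FFThm
open Cfsg.Agent.ZN.ChoiceBase (cj mem_cj)
open Cfsg.Agent.Omega.S5.Mod Cfsg.Agent.Omega.S5.TT
open Cfsg.Agent.Omega.S5.TT.Pos (na ns as sn n_ne s_ne a_ne n_ne_a n_ne_s a_ne_s e_sq' mem_C comm_E_aux)
open Cfsg.Agent.Omega.Half (Amb amb_of_loc)
open Cfsg.Agent.MinSimple.VModule (mem_zc zc_le zc_comm zc_sq zc_le_zl le_normalizer_o2 o2_isPGroup o2_le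
  le_o2 o2_le_of_sylow normalizer_le_normalizer_zc le_normalizer_zl)
open Cfsg.Agent.Omega.TwoFFour (Syl2)

universe u

variable {G : Type u} [Group G]

/-! ### Permutations -/

/-- `{0, 2}` -/
def ee : Vec := ![1, 0, 1, 0, 0]

theorem v4_fix : ∀ p : Equiv.Perm (Fin 5), V4p p → (nn ∘ p.symm = nn ∨ nn ∘ p.symm = nn + 1) →
    (ee ∘ p.symm = ee ∨ ee ∘ p.symm = ee + 1) → p = 1 := by
  decide +kernel

theorem v4_sq : ∀ p : Equiv.Perm (Fin 5), V4p p → p * p = 1 := by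
  decide +kernel

theorem v4_two : ∀ p q : Equiv.Perm (Fin 5), V4p p → V4p q → p ≠ 1 →
    (∀ i : Fin 5, (Pi.single i 1 + Pi.single i 1 ∘ p.symm : Vec) ∘ q.symm =
      Pi.single i 1 + Pi.single i 1 ∘ p.symm ∨
      (Pi.single i 1 + Pi.single i 1 ∘ p.symm : Vec) ∘ q.symm = Pi.single i 1 + Pi.single i 1 ∘ p.symm + 1) →
    q = 1 ∨ q = p := by
  decide +kernel

theorem v4_moves : ∀ p : Equiv.Perm (Fin 5), V4p p → p ≠ 1 → ∃ i j : Fin 5,
    ¬ ((Pi.single i 1 : Vec) ∘ p.symm = Pi.single i 1 ∨ (Pi.single i 1 : Vec) ∘ p.symm = Pi.single i 1 + 1) ∧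
    ¬ ((Pi.single j 1 : Vec) ∘ p.symm = Pi.single j 1 ∨ (Pi.single j 1 : Vec) ∘ p.symm = Pi.single j 1 + 1) ∧
    ¬ ((Pi.single i 1 + Pi.single j 1 : Vec) ∘ p.symm = Pi.single i 1 + Pi.single j 1 ∨
      (Pi.single i 1 + Pi.single j 1 : Vec) ∘ p.symm = Pi.single i 1 + Pi.single j 1 + 1) := by
  decide +kernel

namespace Wr

variable {S : Sylow 2 G} {P V₁ V₂ L₁ L₂ : Subgroup G} {M₁ : FiveMod V₁ L₁} {M₂ : FiveMod V₂ L₂}

section fin

variable [Finite G] (wr : Wr S P M₁ M₂)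
  (nt : Syl2 ((S : Subgroup G) ⊓ normalizer (V₁ : Set G)) (centralizer ({M₁.e ss} : Set G)))
include wr nt

theorem Qs_le : o2 (centralizer ({M₁.e ss} : Set G)) ≤ (S : Subgroup G) ⊓ normalizer (V₁ : Set G) :=
  o2_le_of_sylow nt.two nt.odd

/-- `Q_σ` acts inside `V₄` on `V₁` -/
theorem Qs_ind {q : G} (hq : q ∈ o2 (centralizer ({M₁.e ss} : Set G))) : ∃ p, V4p p ∧ M₁.Ind q p := by
  have hqS := wr.Qs_le nt hq
  obtain ⟨p, -, hp, -⟩ := wr.S₁_ind hqS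
  refine ⟨p, v4_of p (wr.dS wr.S_le hqS.1 hp) ?_, hp⟩
  obtain ⟨g, -, hg⟩ := M₁.exists_lift (Equiv.swap 1 2)
  have hg : M₁.Ind g (Equiv.swap 1 2) := hg
  have hgC : g ∈ centralizer ({M₁.e ss} : Set G) :=
    mem_C.2 ((hg.commute_iff _).2 (Or.inl (by decide)))
  have h1 : g * q * g⁻¹ ∈ o2 (centralizer ({M₁.e ss} : Set G)) :=
    (mem_normalizer_iff.1 (le_normalizer_o2 _ hgC) _).1 hq
  exact wr.dS wr.S_le (wr.Qs_le nt h1).1 ((hg.mul hp).mul hg.inv)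

theorem E_le {x : Vec} (hx : InE x) : M₁.e x ∈ o2 (centralizer ({M₁.e ss} : Set G)) := by
  refine le_o2_of_comm wr.hG (e_sq' M₁ ss) (s_ne M₁) (M₁.e_comm x ss) fun q hq => ?_
  have h1 : M₁.e x * q * (M₁.e x)⁻¹ * q⁻¹ = (q * M₁.e x * q⁻¹ * (M₁.e x)⁻¹)⁻¹ := by group
  rw [h1]
  obtain ⟨p, hp, hi⟩ := wr.Qs_ind nt hq
  rcases comm_E_aux hp hi hx with h2 | h2
  · left; rw [h2, inv_one]
  · right; rw [h2, M₁.e_inv]

/-- the conjugates of `V₂` under `C_G(σ₁)` centralise `V₁` -/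
theorem comm_V₂ {c v v' : G} (hc : c ∈ centralizer ({M₁.e ss} : Set G)) (hv : v ∈ V₁) (hv' : v' ∈ V₂) :
    c * v * c⁻¹ * v' = v' * (c * v * c⁻¹) := by
  obtain ⟨h1, h2⟩ := wr.symm.V₁_le_o2_centralizer
  have hn := le_normalizer_o2 (centralizer ({M₁.e ss} : Set G))
  set u := c⁻¹ * v' * c with hu
  have huQ : u ∈ o2 (centralizer ({M₁.e ss} : Set G)) := by
    have := (mem_normalizer_iff.1 (hn (inv_mem hc)) v').1 (h1 hv')
    rwa [inv_inv] at this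
  have huc : ∀ q ∈ o2 (centralizer ({M₁.e ss} : Set G)), u * q = q * u := by
    intro q hq
    have h3 := (mem_normalizer_iff.1 (hn hc) q).1 hq
    have h4 := mem_centralizer_iff.1 (h2 h3) v' hv'
    calc u * q = c⁻¹ * (v' * (c * q * c⁻¹)) * c := by rw [hu]; group
      _ = c⁻¹ * ((c * q * c⁻¹) * v') * c := by rw [h4]
      _ = q * u := by rw [hu]; group
  obtain ⟨p, hp, hi⟩ := wr.Qs_ind nt huQ
  have hp1 : p = 1 := by
    refine v4_fix p hp ((hi.commute_iff _).1 (huc _ (wr.E_le nt (by decide))))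
      ((hi.commute_iff _).1 (huc _ (wr.E_le nt (by decide))))
  rw [hp1] at hi
  have h3 : u * v = v * u := (mem_centralizer_iff.1 (FiveMod.ind_one_iff.1 hi) v hv).symm
  calc c * v * c⁻¹ * v' = c * (v * u) * c⁻¹ := by rw [hu]; group
    _ = c * (u * v) * c⁻¹ := by rw [h3]
    _ = v' * (c * v * c⁻¹) := by rw [hu]; group

/-- **`V₁ ≤ O₂(C_G(σ₁))`.** -/
theorem V₁_le_Qs : V₁ ≤ o2 (centralizer ({M₁.e ss} : Set G)) := by
  set C := centralizer ({M₁.e ss} : Set G) with hC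
  set Y := closure {u : G | ∃ c ∈ C, ∃ v ∈ V₁, u = c * v * c⁻¹} with hY
  have hV₁C : V₁ ≤ C := fun v hv => mem_C.2 (M₁.comm hv (M₁.e_mem ss))
  have hYC : Y ≤ C := by
    rw [hY, closure_le]
    rintro _ ⟨c, hc, v, hv, rfl⟩
    exact mul_mem (mul_mem hc (hV₁C hv)) (inv_mem hc)
  have hCY : C ≤ normalizer (Y : Set G) := by
    intro c hc
    refine MinSimple.VModule.mem_normalizer_of_map_le ?_
    rw [hY, MonoidHom.map_closure, closure_le]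
    rintro _ ⟨_, ⟨d, hd, v, hv, rfl⟩, rfl⟩
    refine subset_closure ⟨c * d, mul_mem hc hd, v, hv, ?_⟩
    change c * (d * v * d⁻¹) * c⁻¹ = _
    group
  have hYV : Y ≤ normalizer (V₂ : Set G) := by
    refine le_trans ?_ (centralizer_le_normalizer _)
    rw [hY, closure_le]
    rintro _ ⟨c, hc, v, hv, rfl⟩
    exact mem_centralizer_iff.2 fun v' hv' => (wr.comm_V₂ nt hc hv hv').symm
  have hV₁Y : V₁ ≤ Y := fun v hv => subset_closure ⟨1, one_mem _, v, hv, by group⟩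
  have h1 : V₁ ≤ o2 Y := by
    refine (le_inf wr.V₁_le_o2_normalizer hV₁Y).trans (le_o2 inf_le_right
      ((o2_isPGroup _).to_le inf_le_left) ?_)
    exact Half.le_normalizer_inf (hYV.trans (le_normalizer_o2 _)) le_normalizer
  exact h1.trans (NO3b.UMethod.o2_le_o2_of_normal hYC hCY)

/-- an element of `Q_σ` acts inside `V₄` on the conjugates of `V₁` -/
theorem Qs_ind_cj {c q : G} (hc : c ∈ centralizer ({M₁.e ss} : Set G))
    (hq : q ∈ o2 (centralizer ({M₁.e ss} : Set G))) : ∃ p, V4p p ∧ (M₁.cj c).Ind q p := by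
  have h1 := (mem_normalizer_iff.1 (le_normalizer_o2 _ (inv_mem hc)) q).1 hq
  rw [inv_inv] at h1
  obtain ⟨p, hp, hi⟩ := wr.Qs_ind nt h1
  refine ⟨p, hp, ?_⟩
  have h2 := M₁.cj_ind (g := c) hi
  have e : c * (c⁻¹ * q * c) * c⁻¹ = q := by group
  rwa [e] at h2

omit wr nt [Finite G] in
/-- the values of the action -/
theorem two_values {A B C D : Subgroup G} {M : FiveMod A B} {M' : FiveMod C D}
    (hC : ∀ q ∈ C, ∃ p, V4p p ∧ M.Ind q p) (hAC : A ≤ normalizer (C : Set G)) {u u' : G} (hu : u ∈ C)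
    (hu' : u' ∈ C) {p p' : Equiv.Perm (Fin 5)} (hp : M.Ind u p) (hp' : M.Ind u' p') (hp1 : p ≠ 1) :
    p' = 1 ∨ p' = p := by
  obtain ⟨q, hq, hqi⟩ := hC u hu
  obtain ⟨q', hq', hqi'⟩ := hC u' hu'
  obtain rfl := hp.unique hqi
  obtain rfl := hp'.unique hqi'
  refine v4_two p p' hq hq' hp1 fun i => ?_
  rw [← hqi'.commute_iff]
  have h1 : M.e (Pi.single i 1 + Pi.single i 1 ∘ p.symm) =
      (M.e (Pi.single i 1) * u * (M.e (Pi.single i 1))⁻¹) * u⁻¹ := by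
    rw [M.e_add, ← hp, M.e_inv]; group
  have h2 : M.e (Pi.single i 1 + Pi.single i 1 ∘ p.symm) ∈ C := by
    rw [h1]
    exact mul_mem ((mem_normalizer_iff.1 (hAC (M.e_mem _)) u).1 hu) (inv_mem hu)
  exact M'.comm hu' h2

/-- **`⟨V₁^{C_G(σ₁)}⟩` is elementary abelian.** -/
theorem comm_Ds {c v v' : G} (hc : c ∈ centralizer ({M₁.e ss} : Set G)) (hv : v ∈ V₁) (hv' : v' ∈ V₁) :
    v * (c * v' * c⁻¹) = c * v' * c⁻¹ * v := by
  have hVQ := wr.V₁_le_Qs nt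
  have hcV : cj c V₁ ≤ o2 (centralizer ({M₁.e ss} : Set G)) := by
    rintro _ ⟨x, hx, rfl⟩
    exact (mem_normalizer_iff.1 (le_normalizer_o2 _ hc) x).1 (hVQ hx)
  have hA : ∀ q ∈ cj c V₁, ∃ p, V4p p ∧ M₁.Ind q p := fun q hq => wr.Qs_ind nt (hcV hq)
  have hB : ∀ q ∈ V₁, ∃ p, V4p p ∧ (M₁.cj c).Ind q p := fun q hq => wr.Qs_ind_cj nt hc (hVQ hq)
  have hnA : V₁ ≤ normalizer ((cj c V₁ : Subgroup G) : Set G) := fun q hq => by
    obtain ⟨p, -, hp⟩ := hB q hq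
    exact hp.mem_normalizer
  have hnB : cj c V₁ ≤ normalizer (V₁ : Set G) := fun q hq => by
    obtain ⟨p, -, hp⟩ := hA q hq
    exact hp.mem_normalizer
  set u := c * v' * c⁻¹ with hu
  have huC : u ∈ cj c V₁ := ⟨v', hv', rfl⟩
  obtain ⟨p, hp, hi⟩ := hA u huC
  by_cases hp1 : p = 1
  · rw [hp1] at hi
    exact mem_centralizer_iff.1 (FiveMod.ind_one_iff.1 hi) v hv
  · exfalso
    obtain ⟨i, j, h1, h2, h3⟩ := v4_moves p hp hp1
    rw [← hi.commute_iff] at h1 h2 h3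
    obtain ⟨a, ha, hai⟩ := hB _ (M₁.e_mem (Pi.single i 1))
    obtain ⟨b, hb, hbi⟩ := hB _ (M₁.e_mem (Pi.single j 1))
    have key : ∀ {q : G} {r : Equiv.Perm (Fin 5)}, (M₁.cj c).Ind q r → r = 1 → u * q = q * u := by
      intro q r hr h1
      rw [h1] at hr
      exact mem_centralizer_iff.1 (FiveMod.ind_one_iff.1 hr) u huC
    have ha1 : a ≠ 1 := fun h => h1 (key hai h)
    have hb1 : b ≠ 1 := fun h => h2 (key hbi h)
    have hab := (two_values (M' := M₁) hB hnB (M₁.e_mem _) (M₁.e_mem _) hai hbi ha1).resolve_left hb1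
    refine h3 (key (r := a * b) ?_ ?_)
    · rw [M₁.e_add]; exact hai.mul hbi
    · rw [hab]; exact v4_sq a ha

end fin

end Wr

end Cfsg.Agent.Omega.IId.LFour
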