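import Cfsg.Agent.Omega.IId.LFour.Quarter

/-!
# `V₁ ≤ Z(O₂(H))` for every 2-local `H ≥ L₁ S₁` (project OMEGA, II.d L4; #14703 A (1))

`w : Wr S P M₁ M₂`, `S₁ = N_S(V₁)`.

* `centralizer_o2_le` : `C_G(O₂(P)) ≤ O₂(P)` for `P ∈ L(S)`;
* `Wr.half` : a 2-group normalised by `L₁` and `S₁` centralises `V₁`;
* `Wr.half_le` : `V₁ ≤ O₂(H)` for `H ≥ L₁ S₁` of characteristic 2;
* `Wr.nt_symm` : 'no triangle' (`S₁` Sylow in `C_G(σ₁)`) is symmetric in `V₁`, `V₂`.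
-/

set_option autoImplicit false
set_option linter.unusedSectionVars false

namespace Cfsg.Agent.Omega.IId.LFour

open Subgroup Pointwise Cfsg Cfsg.Agent.ZN Cfsg.Agent.Omega.MinPar Cfsg.Agent.Omega.FFThm
open Cfsg.Agent.ZN.ChoiceBase (cj mem_cj)
open Cfsg.Agent.Omega.S5.Mod Cfsg.Agent.Omega.S5.TT
open Cfsg.Agent.Omega.S5.TT.Pos (na ns as sn n_ne s_ne a_ne n_ne_a n_ne_s a_ne_s e_sq' mem_C)
open Cfsg.Agent.Omega.Half (Amb amb_of_loc)
open Cfsg.Agent.MinSimple.VModule (mem_zc zc_le zc_comm zc_sq zc_le_zl le_normalizer_o2 o2_isPGroup o2_le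
  normalizer_le_normalizer_zc le_normalizer_zl)

universe u

variable {G : Type u} [Group G]

/-- `C_G(O₂(L)) ≤ O₂(L)` for `L ∈ L(S)`. -/
theorem centralizer_o2_le [Finite G] (hG : IsCharacteristicTwoType G) (S : Sylow 2 G) {L : Subgroup G}
    (h : IsLoc (S : Subgroup G) L) : centralizer (o2 L : Set G) ≤ o2 L := by
  have hN := h.normalizer_o2 S
  have h1 : o2 (normalizer (o2 L : Set G)) ≤ o2 L := o2_le_o2 S h.le (le_normalizer_o2 L)
  intro x hx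
  exact h1 (hN.char2 S hG ⟨centralizer_le_normalizer _ hx, centralizer_le h1 hx⟩)

namespace Wr

variable {S : Sylow 2 G} {P V₁ V₂ L₁ L₂ : Subgroup G} {M₁ : FiveMod V₁ L₁} {M₂ : FiveMod V₂ L₂}

section fin

variable [Finite G] (wr : Wr S P M₁ M₂)
include wr

theorem S₁_ind {g : G} (hg : g ∈ (S : Subgroup G) ⊓ normalizer (V₁ : Set G)) :
    ∃ p q, M₁.Ind g p ∧ M₂.Ind g q := wr.ind_of_norm (wr.S_le hg.1) hg.2

theorem S₁_eq : (S : Subgroup G) ⊓ normalizer (V₁ : Set G) = (S : Subgroup G) ⊓ normalizer (V₂ : Set G) := by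
  apply le_antisymm
  · intro g hg
    obtain ⟨p, q, -, hq⟩ := wr.S₁_ind hg
    exact ⟨hg.1, hq.mem_normalizer⟩
  · intro g hg
    obtain ⟨p, q, -, hq⟩ := wr.symm.S₁_ind hg
    exact ⟨hg.1, hq.mem_normalizer⟩

theorem S₁_le_normalizer_L₁ : (S : Subgroup G) ⊓ normalizer (V₁ : Set G) ≤ normalizer (L₁ : Set G) := by
  intro t ht
  obtain ⟨p, q, -, hq⟩ := wr.S₁_ind ht
  refine MinSimple.VModule.mem_normalizer_of_map_le ?_
  rintro _ ⟨l, hl, rfl⟩
  exact wr.conj_L₁ (wr.S_le ht.1) hq hl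

theorem S₁_le_normalizer_L₂ : (S : Subgroup G) ⊓ normalizer (V₁ : Set G) ≤ normalizer (L₂ : Set G) := by
  rw [wr.S₁_eq]
  exact wr.symm.S₁_le_normalizer_L₁

theorem S₁_twist : ∀ t ∈ (S : Subgroup G) ⊓ normalizer (V₁ : Set G), ∃ q, M₁.Ind t q ∧ ss ∘ q = ss := by
  intro t ht
  obtain ⟨p, q, hp, -⟩ := wr.S₁_ind ht
  exact ⟨p, hp, ss_comp p (wr.dS wr.S_le ht.1 hp)⟩

theorem o2P_le_S₁ : o2 P ≤ (S : Subgroup G) ⊓ normalizer (V₁ : Set G) := wr.o2P_le_T.trans wr.T_le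

theorem S₁_comm_s₁ {g : G} (hg : g ∈ (S : Subgroup G) ⊓ normalizer (V₁ : Set G)) :
    g * M₁.e ss = M₁.e ss * g := wr.comm_ss wr.S_le hg.1 hg.2

theorem S₁_comm_s₂ {g : G} (hg : g ∈ (S : Subgroup G) ⊓ normalizer (V₁ : Set G)) :
    g * M₂.e ss = M₂.e ss * g := by
  rw [wr.S₁_eq] at hg
  exact wr.symm.S₁_comm_s₁ hg

theorem V₁_le_S₁ : V₁ ≤ (S : Subgroup G) ⊓ normalizer (V₁ : Set G) := le_inf wr.V₁_le_S le_normalizer

theorem V₂_le_S₁ : V₂ ≤ (S : Subgroup G) ⊓ normalizer (V₁ : Set G) := by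
  rw [wr.S₁_eq]; exact wr.symm.V₁_le_S₁

theorem V₁_ne_V₂ {v : G} (h1 : v ∈ V₁) (h2 : v ∈ V₂) : v = 1 := by
  have : v ∈ V₁ ⊓ V₂ := ⟨h1, h2⟩
  rwa [wr.inf, mem_bot] at this

/-- the elements of `Z(S₁)` of order two which are fixed by `L₂` -/
theorem zS₁_fixed {g : G} (hg : g ∈ L₂) (hi : M₂.Ind g c5) {x : G}
    (hx : x ∈ zc ((S : Subgroup G) ⊓ normalizer (V₁ : Set G))) (hgx : g * x = x * g) :
    x = 1 ∨ x = M₁.e ss := by
  have h1 : g * M₁.e ss = M₁.e ss * g := wr.L₂_comm hg (M₁.e_mem ss)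
  have h0 := (Hom5.base M₂ (zpowers g)).eq_one_of_fixed (mem_zpowers g) hi (x := ss)
  rcases wr.zS₁_le hx with h | h | h | h
  · exact Or.inl h
  · exact Or.inr h
  · exfalso
    rw [h] at hgx
    exact s_ne M₂ (h0 hgx)
  · exfalso
    rw [h] at hgx
    refine s_ne M₂ (h0 ?_)
    refine mul_left_cancel (a := M₁.e ss) ?_
    calc M₁.e ss * (g * M₂.e ss) = (g * M₁.e ss) * M₂.e ss := by rw [h1]; group
      _ = M₁.e ss * (M₂.e ss * g) := by rw [← mul_assoc, ← hgx]; group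

/-- **A 2-group normalised by `L₁` and `S₁` centralises `V₁`.** -/
theorem half {W : Subgroup G} (hW2 : IsPGroup 2 W) (hLW : L₁ ≤ normalizer (W : Set G))
    (hSW : (S : Subgroup G) ⊓ normalizer (V₁ : Set G) ≤ normalizer (W : Set G)) :
    W ≤ centralizer (V₁ : Set G) := by
  set T := (S : Subgroup G) ⊓ normalizer (V₁ : Set G) with hT
  have hTW2 : IsPGroup 2 (T ⊔ W : Subgroup G) :=
    (S.isPGroup'.to_le inf_le_left).to_sup_of_normal_right' hW2 hSW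
  have hLT : L₁ ⊔ T ≤ P ⊓ normalizer (V₁ : Set G) :=
    sup_le (le_inf wr.L₁_le M₁.le_normalizer) (inf_le_inf_right _ wr.S_le)
  have hW₀ : W ⊓ (L₁ ⊔ T) ≤ centralizer (V₁ : Set G) := by
    refine le_centralizer_of_normal M₁ (hW2.to_le inf_le_left) ?_ fun g hg => ?_
    · exact Half.le_normalizer_inf hLW (le_sup_left.trans le_normalizer)
    · have h1 := hLT hg.2
      obtain ⟨p, q, hp, -⟩ := wr.ind_of_norm h1.1 h1.2
      exact ⟨p, hp⟩
  have hc1 := Block.card_sup_mul_card_inf (H := T) (N := W) hSW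
  have hc2 := Half.card_le_sylow S hTW2
  rw [wr.card_S₁] at hc2
  have hc3 : Nat.card W ≤ 4 * Nat.card (T ⊓ W : Subgroup G) := by
    have h3 : Nat.card T * Nat.card W ≤ Nat.card T * (4 * Nat.card (T ⊓ W : Subgroup G)) := by
      rw [← hc1]
      calc _ ≤ 2 * Nat.card T * Nat.card (T ⊓ W : Subgroup G) := Nat.mul_le_mul_right _ hc2
        _ ≤ 4 * Nat.card T * Nat.card (T ⊓ W : Subgroup G) :=
          Nat.mul_le_mul_right _ (Nat.mul_le_mul_right _ (by norm_num))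
        _ = _ := by ring
    exact Nat.le_of_mul_le_mul_left h3 Nat.card_pos
  have qd : QD M₁ W (W ⊓ (L₁ ⊔ T)) :=
    { VL := wr.V₁_le_L₁
      LW := hLW
      W₀W := inf_le_left
      L0 := Half.le_normalizer_inf hLW (le_sup_left.trans le_normalizer)
      W₀V := hW₀
      card := hc3.trans (Nat.mul_le_mul_left _
        (Subgroup.card_le_of_le (le_inf inf_le_right (inf_le_left.trans le_sup_right)))) }
  obtain ⟨c, hc, -, hc1, hcT⟩ := qd.exists_fixed_hom hTW2 wr.S₁_le_normalizer_L₁ hSW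
    (Half.le_normalizer_inf hSW (le_sup_right.trans le_normalizer)) wr.S₁_twist
  obtain ⟨g, hg, hi⟩ := qd.exists_five
  have hgL : g ∈ L₁ := Ker_le hg
  have hgσ : g * M₂.e ss = M₂.e ss * g := wr.L₁_comm hgL (M₂.e_mem ss)
  -- the value at `ss` lies in `Z(S₁)`
  have hcS : c ss ∈ zc T := by
    refine mem_zc.2 ⟨wr.o2P_le_S₁ (centralizer_o2_le wr.hG S wr.star.isLoc
      (mem_centralizer_iff.2 fun x hx => hcT x ((le_sup_left : T ≤ T ⊔ W) (wr.o2P_le_S₁ hx)))),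
      fun y hy => hcT y ((le_sup_left : T ≤ T ⊔ W) hy), by rw [pow_two]; exact hc.sq ss⟩
  have hprod : Hom5 M₁ (Ker L₁ W (W ⊓ (L₁ ⊔ T))) fun z => c z * M₁.e z :=
    hc.mul (Hom5.base _ _) fun z z' =>
      (hc.comm_of_mem (qd.V_le_Ker (M₁.e_mem z')) (M₁.e_mem z') z).symm
  have hcs : c ss = M₁.e ss := by
    rcases wr.zS₁_le hcS with h1 | h1 | h1 | h1
    · exact absurd h1 hc1
    · exact h1
    · exact absurd (hc.eq_one_of_fixed hg hi (by rw [h1]; exact hgσ)) hc1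
    · exfalso
      have h2 : c ss * M₁.e ss = M₂.e ss := by
        rw [h1, ← wr.comm (M₁.e_mem ss) (M₂.e_mem ss) |>.symm, mul_assoc, M₁.e_sq, mul_one]
      have h3 := hprod.eq_one_of_fixed hg hi (x := ss) (by rw [h2]; exact hgσ)
      rw [h2] at h3
      exact s_ne M₂ h3
  -- `W` centralises `σ₁`, so all of `V₁`
  have hW1 : ∀ w ∈ W, w * M₁.e ss = M₁.e ss * w := fun w hw => by
    have := hcT w ((le_sup_right : W ≤ T ⊔ W) hw)
    rwa [hcs] at this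
  have key := (Hom5.base M₁ (Ker L₁ W (W ⊓ (L₁ ⊔ T)))).mem_of_mem hg hi (X := centralizer (W : Set G))
    (fun u hu => by
      refine mem_centralizer_iff.2 fun w hw => ?_
      have h1 : g⁻¹ * w * g⁻¹⁻¹ ∈ W := (mem_normalizer_iff.1 (inv_mem (hLW hgL)) w).1 hw
      rw [inv_inv] at h1
      have h2 := mem_centralizer_iff.1 hu _ h1
      calc w * (g * u * g⁻¹) = g * ((g⁻¹ * w * g) * u) * g⁻¹ := by group
        _ = g * (u * (g⁻¹ * w * g)) * g⁻¹ := by rw [h2]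
        _ = g * u * g⁻¹ * w := by group)
    ss_ne.1 ss_ne.2 (mem_centralizer_iff.2 hW1)
  intro w hw
  refine mem_centralizer_iff.2 fun v hv => ?_
  obtain ⟨z, rfl⟩ := (M₁.mem_iff v).1 hv
  exact (mem_centralizer_iff.1 (key z) w hw).symm

/-- **`V₁ ≤ O₂(H)` for `H ≥ L₁ S₁` of characteristic 2.** -/
theorem half_le {H : Subgroup G} (hH : H ⊓ centralizer (o2 H : Set G) ≤ o2 H) (hL : L₁ ≤ H)
    (hS : (S : Subgroup G) ⊓ normalizer (V₁ : Set G) ≤ H) : V₁ ≤ o2 H := fun v hv =>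
  hH ⟨hL (wr.V₁_le_L₁ hv), mem_centralizer_iff.2 fun x hx =>
    (mem_centralizer_iff.1 (wr.half (o2_isPGroup H) (hL.trans (le_normalizer_o2 H))
      (hS.trans (le_normalizer_o2 H)) hx) v hv).symm⟩

theorem half_cent {H : Subgroup G} (hL : L₁ ≤ H) (hS : (S : Subgroup G) ⊓ normalizer (V₁ : Set G) ≤ H) :
    o2 H ≤ centralizer (V₁ : Set G) :=
  wr.half (o2_isPGroup H) (hL.trans (le_normalizer_o2 H)) (hS.trans (le_normalizer_o2 H))

/-- `V₁ ≤ O₂(N_G(V₂))`, `O₂(N_G(V₂)) ≤ C(V₁)` -/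
theorem V₁_le_o2_normalizer : V₁ ≤ o2 (normalizer (V₂ : Set G)) := by
  refine wr.half_le ?_ ?_ ?_
  · refine MinSimple.Basic.char2_normalizer wr.hG M₂.isPGroup fun h => ?_
    exact s_ne M₂ (mem_bot.1 (h.le (M₂.e_mem ss)))
  · exact fun g hg => centralizer_le_normalizer _ (mem_centralizer_iff.2 fun v hv =>
      (wr.L₁_comm hg hv).symm)
  · rw [wr.S₁_eq]; exact inf_le_right

/-- `V₁ ≤ O₂(C_G(v))` for `v ∈ V₂` fixed by `S₁`. -/
theorem V₁_le_o2_centralizer : V₁ ≤ o2 (centralizer ({M₂.e ss} : Set G)) ∧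
    o2 (centralizer ({M₂.e ss} : Set G)) ≤ centralizer (V₁ : Set G) := by
  have h1 : L₁ ≤ centralizer ({M₂.e ss} : Set G) := fun g hg => mem_C.2 (wr.L₁_comm hg (M₂.e_mem ss))
  have h2 : (S : Subgroup G) ⊓ normalizer (V₁ : Set G) ≤ centralizer ({M₂.e ss} : Set G) := fun g hg =>
    mem_C.2 (wr.S₁_comm_s₂ hg)
  refine ⟨fun v hv => ?_, wr.half_cent h1 h2⟩
  refine le_o2_of_comm wr.hG (e_sq' M₂ ss) (s_ne M₂) (wr.comm hv (M₂.e_mem ss)) fun q hq => Or.inl ?_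
  have h3 := mem_centralizer_iff.1 (wr.half_cent h1 h2 hq) v hv
  rw [h3]
  group

/-- 'No triangle' is symmetric. -/
theorem nt_symm (h : ¬ 2 ∣ ((S : Subgroup G) ⊓ normalizer (V₁ : Set G)).relIndex
    (centralizer ({M₁.e ss} : Set G))) :
    ¬ 2 ∣ ((S : Subgroup G) ⊓ normalizer (V₂ : Set G)).relIndex (centralizer ({M₂.e ss} : Set G)) := by
  obtain ⟨s, hs, p, q, hsw⟩ := wr.swap
  have h1 := wr.sw_ss wr.S_le hs hsw
  set φ := MulAut.conj s with hφ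
  have e1 : φ • ((S : Subgroup G) ⊓ normalizer (V₁ : Set G)) =
      (S : Subgroup G) ⊓ normalizer (V₂ : Set G) := by
    have key : ∀ {V V' : Subgroup G} {t : G} (_ : t ∈ (S : Subgroup G)) (_ : ∀ v ∈ V', t⁻¹ * v * t ∈ V)
        (_ : ∀ v ∈ V, t * v * t⁻¹ ∈ V') {g : G}, g ∈ (S : Subgroup G) ⊓ normalizer (V : Set G) →
        t * g * t⁻¹ ∈ (S : Subgroup G) ⊓ normalizer (V' : Set G) := by
      intro V V' t ht h1 h2 g hg
      refine ⟨(S : Subgroup G).mul_mem ((S : Subgroup G).mul_mem ht hg.1) ((S : Subgroup G).inv_mem ht), ?_⟩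
      refine MinSimple.VModule.mem_normalizer_of_map_le ?_
      rintro _ ⟨v, hv, rfl⟩
      have h3 := h2 _ ((mem_normalizer_iff.1 hg.2 _).1 (h1 v hv))
      have e : t * (g * (t⁻¹ * v * t) * g⁻¹) * t⁻¹ = t * g * t⁻¹ * v * (t * g * t⁻¹)⁻¹ := by group
      rwa [e] at h3
    have h12 : ∀ v ∈ V₁, s * v * s⁻¹ ∈ V₂ := by
      intro v hv
      obtain ⟨x, rfl⟩ := (M₁.mem_iff v).1 hv
      rw [hsw.1]; exact M₂.e_mem _
    have h21 : ∀ v ∈ V₂, s⁻¹ * v * s ∈ V₁ := by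
      intro v hv
      obtain ⟨x, rfl⟩ := (M₂.mem_iff v).1 hv
      have e1 := hsw.1 (x ∘ p)
      have e2 : (x ∘ p) ∘ p.symm = x := by funext i; simp
      rw [e2] at e1
      rw [← e1]
      have e3 : s⁻¹ * (s * M₁.e (x ∘ p) * s⁻¹) * s = M₁.e (x ∘ p) := by group
      rw [e3]; exact M₁.e_mem _
    apply le_antisymm
    · rintro _ ⟨g, hg, rfl⟩
      exact key hs h21 h12 hg
    · intro g hg
      have := key (inv_mem hs) (by rwa [inv_inv]) (by rw [inv_inv]; exact h21) hg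
      rw [inv_inv] at this
      exact ⟨s⁻¹ * g * s, this, by
        change s * (s⁻¹ * g * s) * s⁻¹ = g
        group⟩
  have e2 : φ • (centralizer ({M₁.e ss} : Set G)) = centralizer ({M₂.e ss} : Set G) := by
    apply le_antisymm
    · rintro _ ⟨g, hg, rfl⟩
      refine mem_C.2 ?_
      change s * g * s⁻¹ * M₂.e ss = M₂.e ss * (s * g * s⁻¹)
      rw [← h1]
      calc s * g * s⁻¹ * (s * M₁.e ss * s⁻¹) = s * (g * M₁.e ss) * s⁻¹ := by group
        _ = s * (M₁.e ss * g) * s⁻¹ := by rw [mem_C.1 hg]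
        _ = s * M₁.e ss * s⁻¹ * (s * g * s⁻¹) := by group
    · intro g hg
      refine ⟨s⁻¹ * g * s, mem_C.2 ?_, by
        change s * (s⁻¹ * g * s) * s⁻¹ = g
        group⟩
      have h2 := mem_C.1 hg
      rw [← h1] at h2
      calc s⁻¹ * g * s * M₁.e ss = s⁻¹ * (g * (s * M₁.e ss * s⁻¹)) * s := by group
        _ = s⁻¹ * (s * M₁.e ss * s⁻¹ * g) * s := by rw [h2]
        _ = M₁.e ss * (s⁻¹ * g * s) := by group
  rw [← e1, ← e2, relIndex_pointwise_smul]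
  exact h

end fin

end Wr

end Cfsg.Agent.Omega.IId.LFour
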