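import Cfsg.Agent.Omega.IId.LFour.AOne
import Cfsg.Agent.Omega.TwoFFour.Syl

/-!
# `Q_n ≤ T_n` centralises `n^⊥ V₂` (project OMEGA, II.d L4; #14703 A (3), no Sylow condition: #16990 (A))

`w : Wr S P M₁ M₂`, `S₁ = N_S(V₁)`, `n = M₁.e nn`, `T = C_S(n)`, `Q_n = O₂(C_G(n))`.

* `Wr.perp_cent` : `Q_n` centralises `n^⊥ = {M₁.e y | y 0 = y 1}`;
* `Wr.Q_le_T` : `Q_n ≤ T`;
* `Wr.Q_ind` : `Q_n` acts on `V₁` as a subgroup of `⟨(0 1)⟩` and trivially on `V₂`;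
* `Wr.V₁_le_Q`, `Wr.quarter` : `V ≤ Q_n`;
* `Wr.S₁_syl` : `S₁` is Sylow in `C(σ₁) ∩ C(σ₂)`; `Wr.T_syl` : `T` is Sylow in `C(n) ∩ C(σ₁) ∩ C(σ₂)`.
-/

set_option autoImplicit false
set_option linter.unusedSectionVars false

namespace Cfsg.Agent.Omega.IId.LFour

open Subgroup Pointwise Cfsg Cfsg.Agent.ZN Cfsg.Agent.Omega.MinPar Cfsg.Agent.Omega.FFThm
open Cfsg.Agent.ZN.ChoiceBase (cj mem_cj)
open Cfsg.Agent.Omega.S5.Mod Cfsg.Agent.Omega.S5.TT
open Cfsg.Agent.Omega.S5.TT.Pos (na ns as sn n_ne s_ne a_ne n_ne_a n_ne_s a_ne_s e_sq' mem_C)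
open Cfsg.Agent.Omega.Half (Amb amb_of_loc)
open Cfsg.Agent.MinSimple.VModule (mem_zc zc_le zc_comm zc_sq zc_le_zl le_normalizer_o2 o2_isPGroup o2_le
  normalizer_le_normalizer_zc le_normalizer_zl)
open Cfsg.Agent.Omega.TwoFFour (Syl2)

universe u

variable {G : Type u} [Group G]

/-! ### Permutations -/

theorem stab_normal : ∀ p : Equiv.Perm (Fin 5), (nn ∘ p.symm = nn ∨ nn ∘ p.symm = nn + 1) →
    (p = 1 ∨ p = Equiv.swap 0 1) ∨ ∃ a b : Fin 5,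
    nn ∘ (Equiv.swap a b).symm = nn ∧ p * (Equiv.swap a b * p⁻¹ * (Equiv.swap a b)⁻¹) ≠ 1 ∧
    (p * (Equiv.swap a b * p⁻¹ * (Equiv.swap a b)⁻¹)) ^ 3 = 1 := by
  decide +kernel

/-- `b = {3, 4}` -/
def bb : Vec := ![0, 0, 0, 1, 1]

theorem perp_span : ∀ y : Vec, y 0 = y 1 → ∃ b₀ b₁ b₂ : Bool,
    cond b₀ nn 0 + cond b₁ aa 0 + cond b₂ bb 0 = y ∨ cond b₀ nn 0 + cond b₁ aa 0 + cond b₂ bb 0 = y + 1 := by
  decide +kernel

theorem perp_swap (y : Vec) (h : y 0 = y 1) : y ∘ (Equiv.swap 0 1 : Equiv.Perm (Fin 5)).symm = y := by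
  revert h; revert y; decide +kernel

/-- the commutators of `(0 1)` -/
theorem swap_add : ∀ y : Vec, y ∘ (Equiv.swap 0 1 : Equiv.Perm (Fin 5)).symm + y = 0 ∨
    y ∘ (Equiv.swap 0 1 : Equiv.Perm (Fin 5)).symm + y = nn := by
  decide +kernel

theorem card_le_of_syl [Finite G] {Q L R : Subgroup G} (h : Syl2 Q L) (hR : R ≤ L) (h2 : IsPGroup 2 R) :
    Nat.card R ≤ Nat.card Q := by
  obtain ⟨x, -, hx⟩ := h.exists_conj_le hR h2
  refine Nat.card_le_card_of_injective (fun r : R => (⟨x * r * x⁻¹, hx r r.2⟩ : Q)) ?_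
  intro r r' hrr
  have h1 : x * r * x⁻¹ = x * r' * x⁻¹ := congrArg Subtype.val hrr
  exact Subtype.ext (by simpa using h1)

theorem syl_of_card [Finite G] {Q L R : Subgroup G} (h : Syl2 Q L) (hR : R ≤ L) (h2 : IsPGroup 2 R)
    (hc : Nat.card R = Nat.card Q) : Syl2 R L := by
  refine ⟨hR, h2, fun hd => h.odd ?_⟩
  have h3 := Half.card_mul_relIndex h.le
  have h4 := Half.card_mul_relIndex hR
  rw [hc] at h4
  have h5 : Q.relIndex L = R.relIndex L := Nat.eq_of_mul_eq_mul_left Nat.card_pos (h3.trans h4.symm)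
  rwa [h5]

/-- an element acting as `1` or `(0 1)` centralises `n^⊥` -/
theorem comm_perp {V L : Subgroup G} {M : FiveMod V L} {g : G}
    (h : M.Ind g 1 ∨ M.Ind g (Equiv.swap 0 1)) {y : Vec} (hy : y 0 = y 1) :
    g * M.e y = M.e y * g := by
  rcases h with h | h
  · exact (h.commute_iff _).2 (Or.inl rfl)
  · exact (h.commute_iff _).2 (Or.inl (perp_swap y hy))

/-- `|R : T| = 2` -/
theorem index_two [Finite G] {T R : Subgroup G} (hTR : T ≤ R) (hc : Nat.card R ≤ 2 * Nat.card T) {w : G}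
    (hw : w ∈ R) (hwT : w ∉ T) :
    (∀ b ∈ R, ∀ t ∈ T, b * t * b⁻¹ ∈ T) ∧ ∀ a ∈ R, a ∉ T → w⁻¹ * a ∈ T := by
  have h1 : Nat.card T * T.relIndex R = Nat.card R := Half.card_mul_relIndex hTR
  have h3 : T.relIndex R = 2 := by
    have h4 : T.relIndex R ≠ 1 := fun h => hwT ((relIndex_eq_one.1 h) hw)
    have h5 : T.relIndex R ≠ 0 := fun h => by
      rw [h, mul_zero] at h1
      exact Nat.card_pos.ne h1
    have h6 : T.relIndex R ≤ 2 := by
      by_contra h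
      push Not at h
      have h7 : 2 * Nat.card T < Nat.card T * T.relIndex R := by
        rw [mul_comm]
        exact Nat.mul_lt_mul_of_pos_left h Nat.card_pos
      omega
    omega
  have h4 : (T.subgroupOf R).index = 2 := h3
  have hnor := normal_of_index_eq_two h4
  refine ⟨fun b hb t ht => ?_, fun a ha haT => ?_⟩
  · have h5 := hnor.conj_mem (⟨t, hTR ht⟩ : R) (mem_subgroupOf.2 ht) ⟨b, hb⟩
    exact mem_subgroupOf.1 h5
  · have h5 := mul_mem_iff_of_index_two h4 (a := (⟨w, hw⟩ : R)⁻¹) (b := ⟨a, ha⟩)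
    rw [inv_mem_iff] at h5
    have h6 := h5.mpr (iff_of_false (fun h => hwT (mem_subgroupOf.mp h)) (fun h => haT (mem_subgroupOf.mp h)))
    exact mem_subgroupOf.mp h6

namespace Wr

variable {S : Sylow 2 G} {P V₁ V₂ L₁ L₂ : Subgroup G} {M₁ : FiveMod V₁ L₁} {M₂ : FiveMod V₂ L₂}

section fin

variable [Finite G] (wr : Wr S P M₁ M₂)
include wr

theorem syl_symm (h : Syl2 ((S : Subgroup G) ⊓ normalizer (V₁ : Set G)) (centralizer ({M₁.e ss} : Set G))) :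
    Syl2 ((S : Subgroup G) ⊓ normalizer (V₂ : Set G)) (centralizer ({M₂.e ss} : Set G)) := by
  refine ⟨?_, S.isPGroup'.to_le inf_le_left, wr.nt_symm h.odd⟩
  exact fun g hg => mem_C.2 (wr.symm.S₁_comm_s₁ hg)

/-- `σ₁, σ₂ ≠ n` -/
theorem n_not_mem : ¬ (M₁.e nn = 1 ∨ M₁.e nn = M₁.e ss ∨ M₁.e nn = M₂.e ss ∨
    M₁.e nn = M₁.e ss * M₂.e ss) := by
  rintro (h | h | h | h)
  · exact n_ne M₁ h
  · exact n_ne_s M₁ h
  · exact n_ne M₁ (wr.V₁_ne_V₂ (M₁.e_mem nn) (by rw [h]; exact M₂.e_mem ss))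
  · have h1 : M₂.e ss = M₁.e ss * M₁.e nn := by rw [h, ← mul_assoc, M₁.e_sq, one_mul]
    refine s_ne M₂ (wr.V₁_ne_V₂ ?_ (M₂.e_mem ss))
    rw [h1]
    exact mul_mem (M₁.e_mem _) (M₁.e_mem _)

/-! ### The subgroup `X = C_{L₁}(n) L₂ T` -/

theorem X_le : (L₁ ⊓ centralizer ({M₁.e nn} : Set G)) ⊔ L₂ ⊔
    ((S : Subgroup G) ⊓ centralizer ({M₁.e nn} : Set G)) ≤ P ⊓ centralizer ({M₁.e nn} : Set G) :=
  sup_le (sup_le (inf_le_inf_right _ wr.L₁_le) (le_inf wr.L₂_le wr.L₂_le_C)) (inf_le_inf_right _ wr.S_le)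

theorem X_ind {g : G} (hg : g ∈ (L₁ ⊓ centralizer ({M₁.e nn} : Set G)) ⊔ L₂ ⊔
    ((S : Subgroup G) ⊓ centralizer ({M₁.e nn} : Set G))) : ∃ p q, M₁.Ind g p ∧ M₂.Ind g q ∧
      (nn ∘ p.symm = nn ∨ nn ∘ p.symm = nn + 1) := by
  have h1 := wr.X_le hg
  obtain ⟨p, q, hp, hq⟩ := wr.ind_of_comm h1.1 (M₁.e_mem nn) (n_ne M₁) (mem_C.1 h1.2)
  exact ⟨p, q, hp, hq, (hp.commute_iff _).1 (mem_C.1 h1.2)⟩

/-- a normal 2-subgroup of `X` acts as `⟨(0 1)⟩` on `V₁` -/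
theorem X_normal {N : Subgroup G} (hN2 : IsPGroup 2 N)
    (hNX : N ≤ (L₁ ⊓ centralizer ({M₁.e nn} : Set G)) ⊔ L₂ ⊔
      ((S : Subgroup G) ⊓ centralizer ({M₁.e nn} : Set G)))
    (hn : L₁ ⊓ centralizer ({M₁.e nn} : Set G) ≤ normalizer (N : Set G)) {g : G} (hg : g ∈ N) :
    M₁.Ind g 1 ∨ M₁.Ind g (Equiv.swap 0 1) := by
  obtain ⟨p, -, hp, -, hnp⟩ := wr.X_ind (hNX hg)
  rcases stab_normal p hnp with (h | h) | ⟨a, b, hab, hr1, hr⟩
  · left; rwa [h] at hp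
  · right; rwa [h] at hp
  · exfalso
    set r := Equiv.swap a b
    obtain ⟨l, hl, hi⟩ := M₁.exists_lift r
    have hi : M₁.Ind l r := hi
    have hln : l ∈ L₁ ⊓ centralizer ({M₁.e nn} : Set G) :=
      ⟨hl, mem_C.2 ((hi.commute_iff _).2 (Or.inl hab))⟩
    have h1 : g * (l * g⁻¹ * l⁻¹) ∈ N :=
      mul_mem hg ((mem_normalizer_iff.1 (hn hln) _).1 (inv_mem hg))
    have h2 : M₁.Ind (g * (l * g⁻¹ * l⁻¹)) (p * (r * p⁻¹ * r⁻¹)) := hp.mul ((hi.mul hp.inv).mul hi.inv)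
    obtain ⟨k, hk⟩ := hN2 ⟨_, h1⟩
    have hk' : (g * (l * g⁻¹ * l⁻¹)) ^ (2 ^ k) = 1 := congrArg Subtype.val hk
    have key : ∀ m : ℕ, M₁.Ind ((g * (l * g⁻¹ * l⁻¹)) ^ m) ((p * (r * p⁻¹ * r⁻¹)) ^ m) := by
      intro m
      induction m with
      | zero => rw [pow_zero, pow_zero]; exact M₁.ind_one
      | succ m ih => rw [pow_succ, pow_succ]; exact ih.mul h2
    have h3 : (p * (r * p⁻¹ * r⁻¹)) ^ (2 ^ k) = 1 := by
      have h4 := key (2 ^ k)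
      rw [hk'] at h4
      exact FiveMod.Ind.unique h4 M₁.ind_one
    have h5 : orderOf (p * (r * p⁻¹ * r⁻¹)) ∣ Nat.gcd (2 ^ k) 3 :=
      Nat.dvd_gcd (orderOf_dvd_of_pow_eq_one h3) (orderOf_dvd_of_pow_eq_one hr)
    have h6 : Nat.gcd (2 ^ k) 3 = 1 := Nat.Coprime.pow_left k (by norm_num)
    rw [h6, Nat.dvd_one, orderOf_eq_one_iff] at h5
    exact hr1 h5

/-- **The key step of A (3).** -/
theorem perp_aux {w : G} (hw : w ∈ o2 (centralizer ({M₁.e nn} : Set G)))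
    (hwT' : ∀ t ∈ (S : Subgroup G) ⊓ centralizer ({M₁.e nn} : Set G),
      w * t * w⁻¹ ∈ (S : Subgroup G) ⊓ centralizer ({M₁.e nn} : Set G))
    (hX : ∀ l ∈ (L₁ ⊓ centralizer ({M₁.e nn} : Set G)) ⊔ L₂ ⊔
      ((S : Subgroup G) ⊓ centralizer ({M₁.e nn} : Set G)), ∀ y : Vec, y 0 = y 1 →
        w⁻¹ * (l * w * l⁻¹) * M₁.e y = M₁.e y * (w⁻¹ * (l * w * l⁻¹)))
    {y : Vec} (hy : y 0 = y 1) : w * M₁.e y = M₁.e y * w := by
  set T := (S : Subgroup G) ⊓ centralizer ({M₁.e nn} : Set G) with hT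
  set X := (L₁ ⊓ centralizer ({M₁.e nn} : Set G)) ⊔ L₂ ⊔ T with hXdef
  have hwn : w * M₁.e nn = M₁.e nn * w := mem_C.1 (o2_le _ hw)
  -- equivariance
  have heq : ∀ l ∈ X, ∀ (z z' : Vec), z' 0 = z' 1 → l * M₁.e z * l⁻¹ = M₁.e z' →
      l * (w * M₁.e z * w⁻¹) * l⁻¹ = w * M₁.e z' * w⁻¹ := by
    intro l hl z z' hz' h
    have h1 := hX l hl z' hz'
    calc l * (w * M₁.e z * w⁻¹) * l⁻¹ =
        w * ((w⁻¹ * (l * w * l⁻¹)) * (l * M₁.e z * l⁻¹)) * (l * w⁻¹ * l⁻¹) := by group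
      _ = w * (M₁.e z' * (w⁻¹ * (l * w * l⁻¹))) * (l * w⁻¹ * l⁻¹) := by rw [h, h1]
      _ = w * M₁.e z' * w⁻¹ := by group
  have hcomm : ∀ l ∈ X, ∀ z : Vec, z 0 = z 1 → l * M₁.e z = M₁.e z * l →
      l * (w * M₁.e z * w⁻¹) = w * M₁.e z * w⁻¹ * l := by
    intro l hl z hz h
    have h1 := heq l hl z z hz (by rw [h, mul_inv_cancel_right])
    rwa [mul_inv_eq_iff_eq_mul] at h1
  have hTX : T ≤ X := le_sup_right
  have hL₂X : L₂ ≤ X := le_sup_right.trans le_sup_left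
  have hL₁X : L₁ ⊓ centralizer ({M₁.e nn} : Set G) ≤ X := le_sup_left.trans le_sup_left
  set u := w * M₁.e aa * w⁻¹ with hu
  have haa : aa 0 = aa 1 := by decide
  have haT : M₁.e aa ∈ T := ⟨wr.V₁_le_S (M₁.e_mem aa), mem_C.2 (M₁.e_comm aa nn)⟩
  have huT : u ∈ T := hwT' _ haT
  have huu : u * u = 1 := by
    calc u * u = w * (M₁.e aa * M₁.e aa) * w⁻¹ := by rw [hu]; group
      _ = 1 := by rw [M₁.e_sq]; group
  have huc : ∀ t ∈ T, t * u = u * t := fun t ht => hcomm t (hTX ht) aa haa (wr.T_comm_a ht)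
  have huL : ∀ l ∈ L₂, l * u = u * l := fun l hl =>
    hcomm l (hL₂X hl) aa haa (wr.L₂_comm hl (M₁.e_mem aa))
  -- `x`
  obtain ⟨x, hx, hxi⟩ := wr.exists_x
  have hxi' : M₁.Ind x⁻¹ tt := by
    have := hxi.inv
    rwa [tt_inv] at this
  have hxx : x * x ∈ T := mem_T_of_ind (mul_mem hx.1 hx.1) (Or.inl rfl) (by
    have := hxi.mul hxi
    rwa [tt_tt] at this)
  obtain ⟨g, hgL, hgi⟩ := M₂.exists_lift c5
  have hgi : M₂.Ind g c5 := hgi
  have hgxL : x⁻¹ * g * x ∈ L₂ := by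
    have := wr.conj_L₂ (inv_mem (wr.S_le hx.1)) hxi' hgL
    rwa [inv_inv] at this
  have huc' : ∀ t ∈ T, t * (x * u * x⁻¹) = x * u * x⁻¹ * t := by
    intro t ht
    have h1 := huc _ (wr.conj_T (inv_mem hx.1) hxi' ht)
    rw [inv_inv] at h1
    calc t * (x * u * x⁻¹) = x * ((x⁻¹ * t * x) * u) * x⁻¹ := by group
      _ = x * (u * (x⁻¹ * t * x)) * x⁻¹ := by rw [h1]
      _ = x * u * x⁻¹ * t := by group
  have hug : g * u = u * g := huL g hgL
  have hug' : g * (x * u * x⁻¹) = x * u * x⁻¹ * g := by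
    have h1 := huL _ hgxL
    calc g * (x * u * x⁻¹) = x * ((x⁻¹ * g * x) * u) * x⁻¹ := by group
      _ = x * (u * (x⁻¹ * g * x)) * x⁻¹ := by rw [h1]
      _ = x * u * x⁻¹ * g := by group
  have hTS : T ≤ (S : Subgroup G) ⊓ normalizer (V₁ : Set G) := wr.T_le
  have hxuT : x * u * x⁻¹ ∈ T := wr.conj_T hx.1 hxi huT
  have huxu : u * (x * u * x⁻¹) = x * u * x⁻¹ * u := huc' u huT
  have hmk : ∀ {v : G}, v ∈ T → (∀ t ∈ T, t * v = v * t) → x * v = v * x → v * v = 1 → g * v = v * g →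
      v = 1 ∨ v = M₁.e ss := by
    intro v hv hvt hvx hvv hgv
    refine wr.zS₁_fixed hgL hgi (mem_zc.2 ⟨hTS hv, fun b hb => ?_, by rw [pow_two]; exact hvv⟩) hgv
    rcases wr.mem_or₁ hx.1 hxi hb with h1 | h1
    · exact hvt b h1
    · have h2 := hvt _ h1
      have h3 : b * v * x = v * b * x := by
        calc b * v * x = b * (v * x) := by group
          _ = b * x * v := by rw [← hvx]; group
          _ = v * (b * x) := h2
          _ = v * b * x := by group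
      exact mul_right_cancel h3
  have hu1 : u ≠ 1 := by
    rw [hu, Ne, mul_inv_eq_one, mul_eq_left]
    exact a_ne M₁
  -- `u ∈ {σ₁, a}`
  have hcase : u = M₁.e ss ∨ u = M₁.e aa := by
    have hδT : u * (x * u * x⁻¹) ∈ T := mul_mem huT hxuT
    have hδc : ∀ t ∈ T, t * (u * (x * u * x⁻¹)) = u * (x * u * x⁻¹) * t := by
      intro t ht
      calc t * (u * (x * u * x⁻¹)) = (t * u) * (x * u * x⁻¹) := by group
        _ = u * (t * (x * u * x⁻¹)) := by rw [huc t ht]; group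
        _ = u * (x * u * x⁻¹) * t := by rw [huc' t ht]; group
    have hδx : x * (u * (x * u * x⁻¹)) = u * (x * u * x⁻¹) * x := by
      have h1 := huc _ hxx
      calc x * (u * (x * u * x⁻¹)) = (x * u * x⁻¹) * ((x * x) * u) * x⁻¹ := by group
        _ = (x * u * x⁻¹ * u) * x := by rw [h1]; group
        _ = u * (x * u * x⁻¹) * x := by rw [huxu]
    have hδδ : u * (x * u * x⁻¹) * (u * (x * u * x⁻¹)) = 1 := by
      calc u * (x * u * x⁻¹) * (u * (x * u * x⁻¹)) = u * ((x * u * x⁻¹) * u) * (x * u * x⁻¹) := by group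
        _ = (u * u) * (x * (u * u) * x⁻¹) := by rw [← huxu]; group
        _ = 1 := by rw [huu]; group
    have hδg : g * (u * (x * u * x⁻¹)) = u * (x * u * x⁻¹) * g := by
      calc g * (u * (x * u * x⁻¹)) = (g * u) * (x * u * x⁻¹) := by group
        _ = u * (g * (x * u * x⁻¹)) := by rw [hug]; group
        _ = u * (x * u * x⁻¹) * g := by rw [hug']; group
    rcases hmk hδT hδc hδx hδδ hδg with h1 | h1
    · left
      have h2 : x * u * x⁻¹ = u := by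
        have h3 := eq_inv_of_mul_eq_one_right h1
        rw [h3]
        exact inv_eq_of_mul_eq_one_left huu
      rw [mul_inv_eq_iff_eq_mul] at h2
      rcases hmk huT huc h2 huu hug with h3 | h3
      · exact absurd h3 hu1
      · exact h3
    · -- `u a` commutes with `x`
      have h2 : x * u * x⁻¹ = u * M₁.e ss := by
        calc x * u * x⁻¹ = (u * u) * (x * u * x⁻¹) := by rw [huu, one_mul]
          _ = u * (u * (x * u * x⁻¹)) := by group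
          _ = u * M₁.e ss := by rw [h1]
      have hua : u * M₁.e aa = M₁.e aa * u := (huc _ haT).symm
      have h3 : x * (u * M₁.e aa) = u * M₁.e aa * x := by
        have h4 := tt_a hxi
        calc x * (u * M₁.e aa) = (x * u * x⁻¹) * (x * M₁.e aa * x⁻¹) * x := by group
          _ = u * (M₁.e ss * M₁.e nn) * x := by rw [h2, h4]; group
          _ = u * M₁.e aa * x := by rw [sn]
      have h4 : u * M₁.e aa * (u * M₁.e aa) = 1 := by
        calc u * M₁.e aa * (u * M₁.e aa) = u * (M₁.e aa * u) * M₁.e aa := by group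
          _ = (u * u) * (M₁.e aa * M₁.e aa) := by rw [← hua]; group
          _ = 1 := by rw [huu, M₁.e_sq, one_mul]
      have h5 : g * (u * M₁.e aa) = u * M₁.e aa * g := by
        calc g * (u * M₁.e aa) = (g * u) * M₁.e aa := by group
          _ = u * (g * M₁.e aa) := by rw [hug]; group
          _ = u * M₁.e aa * g := by rw [wr.L₂_comm hgL (M₁.e_mem aa)]; group
      have h6 : ∀ t ∈ T, t * (u * M₁.e aa) = u * M₁.e aa * t := by
        intro t ht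
        calc t * (u * M₁.e aa) = (t * u) * M₁.e aa := by group
          _ = u * (t * M₁.e aa) := by rw [huc t ht]; group
          _ = u * M₁.e aa * t := by rw [wr.T_comm_a ht]; group
      rcases hmk (mul_mem huT haT) h6 h3 h4 h5 with h7 | h7
      · right
        have h8 := eq_inv_of_mul_eq_one_left h7
        rwa [M₁.e_inv] at h8
      · exfalso
        have h8 : u = M₁.e nn := by
          have h9 : u = M₁.e ss * M₁.e aa := by
            rw [← h7, mul_assoc, M₁.e_sq, mul_one]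
          rw [h9, M₁.e_comm, as]
        rw [hu, mul_inv_eq_iff_eq_mul, ← hwn] at h8
        exact n_ne_a M₁ (mul_left_cancel h8).symm
  -- the conjugates of `a`
  obtain ⟨l₁, hl₁, i₁⟩ := M₁.exists_lift (Equiv.swap 2 4)
  have i₁ : M₁.Ind l₁ (Equiv.swap 2 4) := i₁
  have hl₁X : l₁ ∈ X := hL₁X ⟨hl₁, mem_C.2 ((i₁.commute_iff _).2 (Or.inl (by decide)))⟩
  have hb : l₁ * M₁.e aa * l₁⁻¹ = M₁.e bb := by rw [i₁, M₁.e_eq_iff]; decide
  have hbw := heq l₁ hl₁X aa bb (by decide) hb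
  have hua : u = M₁.e aa := by
    rcases hcase with h1 | h1
    swap
    · exact h1
    exfalso
    obtain ⟨l₂, hl₂, i₂⟩ := M₁.exists_lift (Equiv.swap 3 4)
    have i₂ : M₁.Ind l₂ (Equiv.swap 3 4) := i₂
    have hl₂X : l₂ ∈ X := hL₁X ⟨hl₂, mem_C.2 ((i₂.commute_iff _).2 (Or.inl (by decide)))⟩
    have hb' : l₂ * M₁.e aa * l₂⁻¹ = M₁.e (aa + bb) := by rw [i₂, M₁.e_eq_iff]; decide
    have hbw' := heq l₂ hl₂X aa (aa + bb) (by decide) hb'
    have h2 : w * M₁.e (aa + bb) * w⁻¹ = (w * M₁.e aa * w⁻¹) * (w * M₁.e bb * w⁻¹) := by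
      rw [M₁.e_add]; group
    rw [← hbw, ← hbw', ← hu, h1, i₁, i₂, ← M₁.e_add, M₁.e_eq_iff] at h2
    revert h2
    decide
  have hwa : w * M₁.e aa = M₁.e aa * w := by rwa [hu, mul_inv_eq_iff_eq_mul] at hua
  have hwb : w * M₁.e bb = M₁.e bb * w := by
    rw [← hu, hua, hb] at hbw
    have := hbw.symm
    rwa [mul_inv_eq_iff_eq_mul] at this
  -- the span
  have key : ∀ (b : Bool) (z : Vec), w * M₁.e z = M₁.e z * w → w * M₁.e (cond b z 0) =
      M₁.e (cond b z 0) * w := by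
    intro b z hz
    cases b
    · have h1 : M₁.e (cond false z 0) = 1 := M₁.e_zero
      rw [h1, mul_one, one_mul]
    · exact hz
  obtain ⟨b₀, b₁, b₂, h1⟩ := perp_span y hy
  have h2 : M₁.e y = M₁.e (cond b₀ nn 0) * M₁.e (cond b₁ aa 0) * M₁.e (cond b₂ bb 0) := by
    rw [← M₁.e_add, ← M₁.e_add, M₁.e_eq_iff]
    rcases h1 with h1 | h1
    · exact Or.inl h1.symm
    · right
      rw [h1, add_assoc, add_self, add_zero]
  rw [h2]
  calc w * (M₁.e (cond b₀ nn 0) * M₁.e (cond b₁ aa 0) * M₁.e (cond b₂ bb 0)) =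
      (w * M₁.e (cond b₀ nn 0)) * M₁.e (cond b₁ aa 0) * M₁.e (cond b₂ bb 0) := by group
    _ = M₁.e (cond b₀ nn 0) * (w * M₁.e (cond b₁ aa 0)) * M₁.e (cond b₂ bb 0) := by
      rw [key _ _ hwn]; group
    _ = M₁.e (cond b₀ nn 0) * M₁.e (cond b₁ aa 0) * (w * M₁.e (cond b₂ bb 0)) := by
      rw [key _ _ hwa]; group
    _ = _ := by rw [key _ _ hwb]; group

/-- A 2-subgroup with two involutions in its centre is not a Sylow 2-subgroup of `G`. -/
theorem card_le_half {R : Subgroup G} (hR2 : IsPGroup 2 R) {a b : G} (ha : a ∈ R) (hb : b ∈ R)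
    (haR : ∀ r ∈ R, r * a = a * r) (hbR : ∀ r ∈ R, r * b = b * r) (ha2 : a ^ 2 = 1) (hb2 : b ^ 2 = 1)
    (ha1 : a ≠ 1) (hb1 : b ≠ 1) (hab : a ≠ b) :
    Nat.card R ≤ 2 * Nat.card ((S : Subgroup G) ⊓ centralizer ({M₁.e nn} : Set G) : Subgroup G) := by
  have h1 := Half.card_le_sylow S hR2
  have h2 : Nat.card R ≠ Nat.card (S : Subgroup G) := by
    intro h0
    have hz2 : Nat.card (zc R) ≤ 2 := by
      rw [Half.card_zc_of_card_eq S hR2 h0]
      exact wr.card_zS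
    exact hab (eq_of_card_le_two hz2 (mem_zc.2 ⟨ha, haR, ha2⟩) (mem_zc.2 ⟨hb, hbR, hb2⟩) ha1 hb1)
  have h3 := wr.card_T
  obtain ⟨a, ha⟩ := IsPGroup.iff_card.1 hR2
  obtain ⟨b, hb⟩ := IsPGroup.iff_card.1 S.isPGroup'
  rw [ha, hb] at h1 h2
  rw [hb] at h3
  rw [ha]
  have h4 : a < b := by
    rcases lt_trichotomy a b with h | h | h
    · exact h
    · exact absurd (by rw [h]) h2
    · exact absurd ((Nat.pow_le_pow_iff_right (by norm_num : 1 < 2)).1 h1) (by omega)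
  have h5 : 2 ^ (a + 1) ≤ 2 ^ b := Nat.pow_le_pow_right (by norm_num) h4
  rw [pow_succ] at h5
  omega

/-- `S₁` is a Sylow 2-subgroup of `C(σ₁) ∩ C(σ₂)`. -/
theorem S₁_syl : Syl2 ((S : Subgroup G) ⊓ normalizer (V₁ : Set G))
    (centralizer ({M₁.e ss} : Set G) ⊓ centralizer ({M₂.e ss} : Set G)) := by
  have h0 : (S : Subgroup G) ⊓ normalizer (V₁ : Set G) ≤ centralizer ({M₁.e ss} : Set G) ⊓
      centralizer ({M₂.e ss} : Set G) := fun g hg =>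
    ⟨mem_C.2 (wr.S₁_comm_s₁ hg), mem_C.2 (wr.S₁_comm_s₂ hg)⟩
  obtain ⟨R, hSR, hRH, hR2, hRs⟩ := Half.exists_sylow_le (S.isPGroup'.to_le inf_le_left) h0
  have h1 := wr.card_le_half hR2 (hSR (wr.V₁_le_S₁ (M₁.e_mem ss))) (hSR (wr.V₂_le_S₁ (M₂.e_mem ss)))
    (fun r hr => mem_C.1 (hRH hr).1) (fun r hr => mem_C.1 (hRH hr).2) (e_sq' M₁ ss) (e_sq' M₂ ss)
    (s_ne M₁) (s_ne M₂) fun h => s_ne M₁ (wr.V₁_ne_V₂ (M₁.e_mem ss) (by rw [h]; exact M₂.e_mem ss))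
  rw [← wr.card_T₁] at h1
  have h2 := eq_of_le_of_card_ge hSR h1
  rw [h2]
  exact ⟨hRH, hR2, hRs⟩

/-- **`Q_n` centralises `n^⊥`.** -/
theorem perp_cent {w : G} (hw : w ∈ o2 (centralizer ({M₁.e nn} : Set G))) {y : Vec} (hy : y 0 = y 1) :
    w * M₁.e y = M₁.e y * w := by
  set T := (S : Subgroup G) ⊓ centralizer ({M₁.e nn} : Set G) with hT
  set W := o2 (centralizer ({M₁.e nn} : Set G)) with hW
  set X := (L₁ ⊓ centralizer ({M₁.e nn} : Set G)) ⊔ L₂ ⊔ T with hX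
  have hXC : X ≤ P ⊓ centralizer ({M₁.e nn} : Set G) := wr.X_le
  have hXW : X ≤ normalizer (W : Set G) := (hXC.trans inf_le_right).trans (le_normalizer_o2 _)
  have hXn : X ≤ normalizer ((W ⊓ X : Subgroup G) : Set G) := Half.le_normalizer_inf hXW le_normalizer
  have hL₁X : L₁ ⊓ centralizer ({M₁.e nn} : Set G) ≤ X := le_sup_left.trans le_sup_left
  have hTX : T ≤ X := le_sup_right
  have hW₀ : ∀ g ∈ W ⊓ X, M₁.Ind g 1 ∨ M₁.Ind g (Equiv.swap 0 1) := fun g hg =>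
    wr.X_normal ((o2_isPGroup _).to_le inf_le_left) inf_le_right (hL₁X.trans hXn) hg
  by_cases hwX : w ∈ X
  · exact comm_perp (hW₀ w ⟨hw, hwX⟩) hy
  have hTW : Nat.card (T ⊔ W : Subgroup G) ≤ 2 * Nat.card T := wr.card_TW_le
  have hwTW : w ∈ T ⊔ W := (le_sup_right : W ≤ T ⊔ W) hw
  obtain ⟨h1, h2⟩ := index_two (le_sup_left : T ≤ T ⊔ W) hTW hwTW fun h => hwX (hTX h)
  refine wr.perp_aux hw (fun t ht => h1 w hwTW t ht) (fun l hl y hy => ?_) hy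
  have h3 : l * w * l⁻¹ ∈ W := (mem_normalizer_iff.1 (hXW hl) w).1 hw
  have h4 : l * w * l⁻¹ ∉ T := by
    intro h5
    apply hwX
    have h6 := X.mul_mem (X.mul_mem (X.inv_mem hl) (hTX h5)) hl
    have e : l⁻¹ * (l * w * l⁻¹) * l = w := by group
    rwa [e] at h6
  have h5 := h2 _ ((le_sup_right : W ≤ T ⊔ W) h3) h4
  exact comm_perp (hW₀ _ ⟨W.mul_mem (W.inv_mem hw) h3, hTX h5⟩) hy

/-- `T` is a maximal 2-subgroup of `C(n) ∩ C(σ₁) ∩ C(σ₂)`. -/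
theorem T_max
    {R : Subgroup G} (hR2 : IsPGroup 2 R) (hTR : (S : Subgroup G) ⊓ centralizer ({M₁.e nn} : Set G) ≤ R)
    (hn : R ≤ centralizer ({M₁.e nn} : Set G)) (h₁ : R ≤ centralizer ({M₁.e ss} : Set G))
    (h₂ : R ≤ centralizer ({M₂.e ss} : Set G)) :
    R = (S : Subgroup G) ⊓ centralizer ({M₁.e nn} : Set G) := by
  set T := (S : Subgroup G) ⊓ centralizer ({M₁.e nn} : Set G) with hT
  set S₁ := (S : Subgroup G) ⊓ normalizer (V₁ : Set G) with hS₁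
  have hc : Nat.card R ≤ 2 * Nat.card T := wr.card_le_half hR2 (hTR wr.n_mem_T)
    (hTR (wr.V₂_le_T (M₂.e_mem ss))) (fun r hr => mem_C.1 (hn hr)) (fun r hr => mem_C.1 (h₂ hr))
    (e_sq' M₁ nn) (e_sq' M₂ ss) (n_ne M₁) (s_ne M₂) fun h =>
      wr.n_not_mem (Or.inr (Or.inr (Or.inl h)))
  by_contra hne
  have h1 : Nat.card T * T.relIndex R = Nat.card R := Half.card_mul_relIndex hTR
  have h2 : T.relIndex R ≠ 1 := fun h => hne (le_antisymm (relIndex_eq_one.1 h) hTR)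
  have h3 : T.relIndex R ≠ 0 := fun h => by
    rw [h, mul_zero] at h1
    exact Nat.card_pos.ne h1
  have h4 : 2 * Nat.card T ≤ Nat.card R := by
    rw [← h1, mul_comm]
    exact Nat.mul_le_mul_left _ (by omega)
  have h5 : Nat.card R = Nat.card S₁ := by
    have h6 : Nat.card S₁ = 2 * Nat.card T := wr.card_T₁
    omega
  have hD : Syl2 S₁ (centralizer ({M₁.e ss} : Set G) ⊓ centralizer ({M₂.e ss} : Set G)) := wr.S₁_syl
  have hD' := syl_of_card hD (le_inf h₁ h₂) hR2 h5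
  obtain ⟨x, hx, hx1, hx2⟩ := hD'.exists_conj hD
  have hnR : M₁.e nn ∈ R := hTR wr.n_mem_T
  have h6 : x * M₁.e nn * x⁻¹ ∈ zc S₁ := by
    refine mem_zc.2 ⟨hx1 _ hnR, fun b hb => ?_, ?_⟩
    · have h7 := mem_C.1 (hn (hx2 b hb))
      calc b * (x * M₁.e nn * x⁻¹) = x * ((x⁻¹ * b * x) * M₁.e nn) * x⁻¹ := by group
        _ = x * (M₁.e nn * (x⁻¹ * b * x)) * x⁻¹ := by rw [h7]
        _ = x * M₁.e nn * x⁻¹ * b := by group
    · rw [pow_two]
      calc x * M₁.e nn * x⁻¹ * (x * M₁.e nn * x⁻¹) = x * (M₁.e nn * M₁.e nn) * x⁻¹ := by group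
        _ = 1 := by rw [M₁.e_sq]; group
  have e1 := mem_C.1 hx.1
  have e2 := mem_C.1 hx.2
  have hback : ∀ {v : G}, x * v = v * x → x * M₁.e nn * x⁻¹ = v → M₁.e nn = v := by
    intro v hv h7
    rw [mul_inv_eq_iff_eq_mul, ← hv] at h7
    exact mul_left_cancel h7
  apply wr.n_not_mem
  rcases wr.zS₁_le h6 with h7 | h7 | h7 | h7
  · exact Or.inl (hback (by group) h7)
  · exact Or.inr (Or.inl (hback e1 h7))
  · exact Or.inr (Or.inr (Or.inl (hback e2 h7)))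
  · refine Or.inr (Or.inr (Or.inr (hback ?_ h7)))
    calc x * (M₁.e ss * M₂.e ss) = (x * M₁.e ss) * M₂.e ss := by group
      _ = M₁.e ss * (x * M₂.e ss) := by rw [e1]; group
      _ = M₁.e ss * M₂.e ss * x := by rw [e2]; group

/-- **`Q_n ≤ T`.** -/
theorem Q_le_T :
    o2 (centralizer ({M₁.e nn} : Set G)) ≤ (S : Subgroup G) ⊓ centralizer ({M₁.e nn} : Set G) := by
  have h1 := wr.T_max wr.TW_isPGroup le_sup_left (sup_le inf_le_right (o2_le _))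
    (sup_le (fun t ht => mem_C.2 (wr.T_comm_s₁ ht)) fun t ht =>
      mem_C.2 (wr.perp_cent ht (by decide)))
    (sup_le (fun t ht => mem_C.2 (wr.T_comm_s₂ ht)) fun t ht =>
      mem_C.2 (mem_centralizer_iff.1 (wr.quarter_cent ht) _ (M₂.e_mem ss)).symm)
  exact le_sup_right.trans h1.le

/-- `T` is a Sylow 2-subgroup of `C(n) ∩ C(σ₁) ∩ C(σ₂)`. -/
theorem T_syl :
    Syl2 ((S : Subgroup G) ⊓ centralizer ({M₁.e nn} : Set G))
      (centralizer ({M₁.e nn} : Set G) ⊓ centralizer ({M₁.e ss} : Set G) ⊓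
        centralizer ({M₂.e ss} : Set G)) := by
  have h0 : (S : Subgroup G) ⊓ centralizer ({M₁.e nn} : Set G) ≤ centralizer ({M₁.e nn} : Set G) ⊓
      centralizer ({M₁.e ss} : Set G) ⊓ centralizer ({M₂.e ss} : Set G) := fun t ht =>
    ⟨⟨ht.2, mem_C.2 (wr.T_comm_s₁ ht)⟩, mem_C.2 (wr.T_comm_s₂ ht)⟩
  obtain ⟨R, hTR, hRH, hR2, hRs⟩ := Half.exists_sylow_le (S.isPGroup'.to_le inf_le_left) h0
  have h1 := wr.T_max hR2 hTR (hRH.trans (inf_le_left.trans inf_le_left))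
    (hRH.trans (inf_le_left.trans inf_le_right)) (hRH.trans inf_le_right)
  rw [← h1]
  exact ⟨hRH, hR2, hRs⟩

/-- **`Q_n` acts on `V₁` inside `⟨(0 1)⟩`.** -/
theorem Q_ind {q : G} (hq : q ∈ o2 (centralizer ({M₁.e nn} : Set G))) :
    M₁.Ind q 1 ∨ M₁.Ind q (Equiv.swap 0 1) :=
  wr.X_normal (o2_isPGroup _) (wr.Q_le_T.trans le_sup_right) (inf_le_right.trans (le_normalizer_o2 _)) hq

theorem Q_ind₂ {q : G} (hq : q ∈ o2 (centralizer ({M₁.e nn} : Set G))) : M₂.Ind q 1 :=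
  FiveMod.ind_one_iff.2 (wr.quarter_cent hq)

/-- **`V₁ ≤ Q_n`.** -/
theorem V₁_le_Q :
    V₁ ≤ o2 (centralizer ({M₁.e nn} : Set G)) := by
  intro v hv
  obtain ⟨y, rfl⟩ := (M₁.mem_iff v).1 hv
  refine le_o2_of_comm wr.hG (e_sq' M₁ nn) (n_ne M₁) (M₁.e_comm y nn) fun q hq => ?_
  have h1 : M₁.e y * q * (M₁.e y)⁻¹ * q⁻¹ = (q * M₁.e y * q⁻¹ * (M₁.e y)⁻¹)⁻¹ := by group
  rw [h1]
  rcases wr.Q_ind hq with h2 | h2
  · left
    rw [h2.comm_eq]
    have e : y ∘ (1 : Equiv.Perm (Fin 5)).symm + y = 0 := add_self y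
    rw [e, M₁.e_zero, inv_one]
  · rw [h2.comm_eq, M₁.e_inv]
    rcases swap_add y with h3 | h3
    · left; rw [h3, M₁.e_zero]
    · right; rw [h3]

end fin

end Wr

end Cfsg.Agent.Omega.IId.LFour
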