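import Cfsg.Agent.Omega.IId.LFour.AThree
import Cfsg.Agent.Omega.IId.One

/-!
# The supply: `V ≤ K_n` (project OMEGA, II.d L4; #14703 A (3), no Sylow condition)

`w : Wr S P M₁ M₂`, `n = M₁.e nn`, `K_n = One.Kk n = {g ∈ C_G(n) : [O₂(C_G(n)), g] ≤ ⟨n⟩}`.

* `Wr.V₁_le_Kk`, `Wr.V₂_le_Kk`, `Wr.zl_le_Kk` : `V ≤ K_n`;
* `Wr.Kk_le_Q` : `K_n ≤ Q_n`.
-/

set_option autoImplicit false
set_option linter.unusedSectionVars false

namespace Cfsg.Agent.Omega.IId.LFour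

open Subgroup Cfsg Cfsg.Agent.ZN Cfsg.Agent.Omega.MinPar
open Cfsg.Agent.Omega.S5.Mod Cfsg.Agent.Omega.S5.TT
open Cfsg.Agent.Omega.S5.TT.Pos (na ns as sn n_ne s_ne a_ne n_ne_a n_ne_s a_ne_s e_sq' mem_C)
open Cfsg.Agent.MinSimple.VModule (mem_zc zc_le zc_comm zc_sq zc_le_zl le_normalizer_o2 o2_isPGroup o2_le
  normalizer_le_normalizer_zc le_normalizer_zl)
open Cfsg.Agent.Omega.IId.One (Kk mem_Kk)

universe u

variable {G : Type u} [Group G]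

/-- `x ^ k ∈ {1, z}` for an involution `z` -/
theorem mem_zpowers_of_sq {z x : G} (hz : z * z = 1) : x ∈ zpowers z ↔ x = 1 ∨ x = z := by
  constructor
  · rintro ⟨k, rfl⟩
    change z ^ k = 1 ∨ z ^ k = z
    rcases Int.even_or_odd' k with ⟨m, rfl | rfl⟩
    · left
      rw [zpow_mul, zpow_ofNat, pow_two, hz, one_zpow]
    · right
      rw [zpow_add, zpow_mul, zpow_ofNat, pow_two, hz, one_zpow, one_mul, zpow_one]
  · rintro (rfl | rfl)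
    · exact one_mem _
    · exact mem_zpowers _

/-- `K_z ≤ O₂(C_G(z))` in characteristic 2 -/
theorem Kk_le_o2 [Finite G] (hG : IsCharacteristicTwoType G) {z : G} (hz : z ^ 2 = 1) (hz1 : z ≠ 1) :
    Kk z ≤ o2 (centralizer ({z} : Set G)) := by
  intro g hg
  refine le_o2_of_comm hG hz hz1 (mem_C.1 hg.1) fun q hq => ?_
  have h1 := hg.2 q hq
  rwa [mem_zpowers_of_sq (by rw [← pow_two]; exact hz)] at h1

namespace Wr

variable {S : Sylow 2 G} {P V₁ V₂ L₁ L₂ : Subgroup G} {M₁ : FiveMod V₁ L₁} {M₂ : FiveMod V₂ L₂}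

section fin

variable [Finite G] (wr : Wr S P M₁ M₂)
include wr

/-- **`V₁ ≤ K_n`.** -/
theorem V₁_le_Kk : V₁ ≤ Kk (M₁.e nn) := by
  intro v hv
  obtain ⟨y, rfl⟩ := (M₁.mem_iff v).1 hv
  refine ⟨mem_C.2 (M₁.e_comm y nn), fun q hq => ?_⟩
  rw [mem_zpowers_of_sq (M₁.e_sq nn)]
  have h1 : M₁.e y * q * (M₁.e y)⁻¹ * q⁻¹ = (q * M₁.e y * q⁻¹ * (M₁.e y)⁻¹)⁻¹ := by group
  rw [h1]
  rcases wr.Q_ind hq with h2 | h2
  · left
    rw [h2.comm_eq]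
    have e : y ∘ (1 : Equiv.Perm (Fin 5)).symm + y = 0 := add_self y
    rw [e, M₁.e_zero, inv_one]
  · rw [h2.comm_eq, M₁.e_inv]
    rcases swap_add y with h3 | h3
    · left; rw [h3, M₁.e_zero]
    · right; rw [h3]

/-- **`V₂ ≤ K_n`.** -/
theorem V₂_le_Kk : V₂ ≤ Kk (M₁.e nn) := by
  intro v hv
  refine ⟨mem_C.2 (wr.comm (M₁.e_mem nn) hv).symm, fun q hq => ?_⟩
  have h1 := mem_centralizer_iff.1 (wr.quarter_cent hq) v hv
  rw [h1, mul_assoc, mul_assoc, mul_inv_cancel_left, mul_inv_cancel]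
  exact one_mem _

theorem zl_le_Kk : zl (S : Subgroup G) P ≤ Kk (M₁.e nn) := by
  rw [wr.sup]
  exact sup_le wr.V₁_le_Kk wr.V₂_le_Kk

/-- `K_n ≤ Q_n` -/
theorem Kk_le_Q : Kk (M₁.e nn) ≤ o2 (centralizer ({M₁.e nn} : Set G)) :=
  Kk_le_o2 wr.hG (e_sq' M₁ nn) (n_ne M₁)

/-- `K_n` acts on `V₁` inside `⟨(0 1)⟩` -/
theorem Kk_ind {q : G} (hq : q ∈ Kk (M₁.e nn)) : M₁.Ind q 1 ∨ M₁.Ind q (Equiv.swap 0 1) :=
  wr.Q_ind (wr.Kk_le_Q hq)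

theorem Kk_ind₂ {q : G} (hq : q ∈ Kk (M₁.e nn)) : M₂.Ind q 1 := wr.Q_ind₂ (wr.Kk_le_Q hq)

end fin

end Wr

end Cfsg.Agent.Omega.IId.LFour
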