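import Cfsg.Agent.Omega.IId.LFour.CAbs
import Cfsg.Agent.Omega.IId.LFour.AFive
import Cfsg.Agent.Omega.IId.LFour.Supply
import Cfsg.Agent.Omega.TTn.Base

/-!
# (C) of #14703 (II.d L4, `S₅ wr 2`): the case `U_n ≤ O₂(C(a))`, the calculus (helper430)

`w : Wr S P M₁ M₂`, `n = M₁.e nn`, `a = M₁.e aa`, `b = M₁.e bb`, `K_x = One.Kk x`, `U = UU n a = ⟨n, a ^ C(n)⟩`,
`E = ⟨V₁ ^ C(σ)⟩`. `CH`: no triangle, `K_n` moves `V₁`, `U ≤ O₂(C(a))`.

* `Wr.flip` : `n` and `a` exchanged;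
* `CH.calcN` : `Calc.Dat` on `U`; `CH.E_le_Q` : `E ≤ O₂(C(n))`; `CH.calcM` : `Calc.Dat` on `E`;
* `CH.a_mem_Q_iff`, `CH.n_mem_Q_iff` : `K_a ∩ Q_n = C(V₁)`, `K_n ∩ Q_a = C(V₁)`;
* `CH.chi` : the data of `ChiConst`; `CH.same` : the characters of `K_n` are constant along edges.
-/

set_option autoImplicit false
set_option linter.unusedSectionVars false

namespace Cfsg.Agent.Omega.IId.LFour

open Subgroup Pointwise Cfsg Cfsg.Agent.ZN Cfsg.Agent.Omega.MinPar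
open Cfsg.Agent.ZN.ChoiceBase (cj mem_cj mem_normalizer_of_cj_le)
open Cfsg.Agent.Omega.S5.Mod Cfsg.Agent.Omega.S5.TT
open Cfsg.Agent.Omega.S5.TT.Pos (na ns as sn n_ne s_ne a_ne n_ne_a n_ne_s a_ne_s e_sq' mem_C)
open Cfsg.Agent.MinSimple.VModule (o2_isPGroup le_o2 o2_le le_normalizer_o2 mem_zc zc_le zc_comm)
open Cfsg.Agent.Omega.TwoFFour (Syl2)
open Cfsg.Agent.Omega.IId.One (Kk mem_Kk Kk_conj conj_Kk)
open Cfsg.Agent.Omega.S5.ChiConst (cls)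
open Cfsg.Agent.Omega.TTn (WW UU mem_WW₁ le_WW₁ WW_le WW_norm self_mem_UU mem_UU mem_UU_self UU_le UU_norm Q)
open Cfsg.Agent.Omega.TTn.Base (rel_nn rel_aa rel_ss)
open Cfsg.Agent.Omega.TTn.Calc (conj_eq_iff comm_conj_iff)
open Cfsg.Agent.Omega.TTn.BZero (Adj cls_conj a_cls conj_b)

universe u

variable {G : Type u} [Group G]

/-! ### `n` and `a` exchanged -/

/-- Exchange `n` and `a`. -/
theorem Wr.flip {S : Sylow 2 G} {P V₁ V₂ L₁ L₂ : Subgroup G} {M₁ : FiveMod V₁ L₁} {M₂ : FiveMod V₂ L₂}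
    (w : Wr S P M₁ M₂) : Wr S P (M₁.relabel tt) M₂ where
  hG := w.hG
  star := w.star
  L₁_eq := w.L₁_eq
  L₂_eq := w.L₂_eq
  sup := w.sup
  inf := w.inf
  mov g hg := by
    rcases w.mov g hg with ⟨p, q, h1, h2⟩ | ⟨p, q, h1, h2⟩
    · exact Or.inl ⟨_, q, FiveMod.relabel_ind tt h1, h2⟩
    · refine Or.inr ⟨p * tt, tt⁻¹ * q, fun x => ?_, fun x => ?_⟩
      · rw [FiveMod.relabel_e, h1]
        rfl
      · rw [FiveMod.relabel_e, h2]
        congr 1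
        funext i
        change x (q⁻¹ i) = x ((tt⁻¹ * q)⁻¹ (tt⁻¹ i))
        rw [← Equiv.Perm.mul_apply]
        congr 2
        group
  swap := by
    obtain ⟨s, hs, p, q, h1, h2⟩ := w.swap
    refine ⟨s, hs, p * tt, tt⁻¹ * q, fun x => ?_, fun x => ?_⟩
    · rw [FiveMod.relabel_e, h1]
      rfl
    · rw [FiveMod.relabel_e, h2]
      congr 1
      funext i
      change x (q⁻¹ i) = x ((tt⁻¹ * q)⁻¹ (tt⁻¹ i))
      rw [← Equiv.Perm.mul_apply]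
      congr 2
      group
  d₁ g hg p hp := TTn.tt_conj_dd p (w.d₁ g hg _ (FiveMod.ind_of_relabel tt hp))
  d₁' p hp := by
    obtain ⟨g, hg, hi⟩ := w.d₁' (tt * p * tt⁻¹) (TTn.tt_conj_dd' p hp)
    refine ⟨g, hg, ?_⟩
    have h1 := FiveMod.relabel_ind tt hi
    have h2 : tt⁻¹ * (tt * p * tt⁻¹) * tt = p := by group
    rwa [h2] at h1
  d₂ := w.d₂
  d₂' := w.d₂'

theorem Kk_conj_iff {g c y : G} : g⁻¹ * y * g ∈ Kk c ↔ y ∈ Kk (g * c * g⁻¹) := by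
  constructor
  · intro hy
    have := conj_Kk (s := g) rfl hy
    have e : g * (g⁻¹ * y * g) * g⁻¹ = y := by group
    rwa [e] at this
  · intro hy
    have := conj_Kk (s := g⁻¹) (w := c) (by group) hy
    rwa [inv_inv] at this

theorem mem_Q_conj [Finite G] {g y c : G} : g⁻¹ * y * g ∈ Q c ↔ y ∈ Q (g * c * g⁻¹) := by
  rw [Q, Q, ← o2_conj g c, mem_cj]

namespace Wr

variable {S : Sylow 2 G} {P V₁ V₂ L₁ L₂ : Subgroup G} {M₁ : FiveMod V₁ L₁} {M₂ : FiveMod V₂ L₂}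

section fin

variable [Finite G] (wr : Wr S P M₁ M₂)
include wr

/-! ### The point `a` -/

theorem V₁_le_Kka : V₁ ≤ Kk (M₁.e aa) := by
  have := wr.flip.V₁_le_Kk
  rwa [rel_nn] at this

theorem V₂_le_Kka : V₂ ≤ Kk (M₁.e aa) := by
  have := wr.flip.V₂_le_Kk
  rwa [rel_nn] at this

theorem Kka_le_Qa : Kk (M₁.e aa) ≤ Q (M₁.e aa) := by
  have := wr.flip.Kk_le_Q
  rwa [rel_nn] at this

theorem Qa_le_S {q : G} (hq : q ∈ Q (M₁.e aa)) : q ∈ (S : Subgroup G) ∧ q * M₁.e nn = M₁.e nn * q ∧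
    q * M₁.e ss = M₁.e ss * q := by
  have h1 := wr.flip.Q_le_T (by rw [rel_nn]; exact hq)
  have h2 := wr.flip.T_comm_a h1
  have h3 := wr.flip.T_comm_s₁ h1
  rw [rel_aa] at h2
  rw [rel_ss] at h3
  exact ⟨h1.1, h2, h3⟩

/-- `Q_a` acts on `V₁` inside `⟨(2 3)⟩`. -/
theorem Qa_ind {q : G} (hq : q ∈ Q (M₁.e aa)) : M₁.Ind q 1 ∨ M₁.Ind q (Equiv.swap 2 3) := by
  rcases wr.flip.Q_ind (q := q) (by rw [rel_nn]; exact hq) with h | h
  · left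
    have := FiveMod.ind_of_relabel tt h
    rwa [show tt * 1 * tt⁻¹ = 1 by decide] at this
  · right
    have := FiveMod.ind_of_relabel tt h
    rwa [show tt * Equiv.swap 0 1 * tt⁻¹ = Equiv.swap 2 3 by decide] at this

/-! ### `U = ⟨n, a ^ C(n)⟩ ≤ Z(Q_n)` -/

theorem a_mem_Q : M₁.e aa ∈ Q (M₁.e nn) := wr.Kk_le_Q (wr.V₁_le_Kk (M₁.e_mem aa))

theorem n_mem_Q : M₁.e nn ∈ Q (M₁.e nn) := wr.Kk_le_Q (wr.V₁_le_Kk (M₁.e_mem nn))

omit wr in
theorem Q_conj {g q : G} (hg : g * M₁.e nn = M₁.e nn * g) (hq : q ∈ Q (M₁.e nn)) :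
    g * q * g⁻¹ ∈ Q (M₁.e nn) :=
  (mem_normalizer_iff.1 (le_normalizer_o2 _ (mem_C.2 hg)) _).1 hq

omit wr in
theorem Q_conj' {g q : G} (hg : g * M₁.e nn = M₁.e nn * g) (hq : q ∈ Q (M₁.e nn)) :
    g⁻¹ * q * g ∈ Q (M₁.e nn) := by
  have h1 : g⁻¹ * M₁.e nn = M₁.e nn * g⁻¹ := by
    rw [inv_mul_eq_iff_eq_mul, ← mul_assoc, hg, mul_inv_cancel_right]
  have h2 := Q_conj h1 hq
  rwa [inv_inv] at h2

theorem UU_le_Q : UU (M₁.e nn) (M₁.e aa) ≤ Q (M₁.e nn) :=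
  UU_le wr.n_mem_Q fun _ hg => Q_conj hg wr.a_mem_Q

theorem UU_comm_Q {u q : G} (hu : u ∈ UU (M₁.e nn) (M₁.e aa)) (hq : q ∈ Q (M₁.e nn)) :
    u * q = q * u := by
  have key : UU (M₁.e nn) (M₁.e aa) ≤ centralizer (Q (M₁.e nn) : Set G) := by
    refine UU_le ?_ ?_
    · rw [mem_centralizer_iff]
      intro q hq
      exact mem_C.1 (o2_le _ hq)
    · intro g hg
      rw [mem_centralizer_iff]
      intro q hq
      have h1 := wr.perp_cent (Q_conj' hg hq) (y := aa) (by decide)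
      calc q * (g * M₁.e aa * g⁻¹) = g * (g⁻¹ * q * g * M₁.e aa) * g⁻¹ := by group
        _ = g * (M₁.e aa * (g⁻¹ * q * g)) * g⁻¹ := by rw [h1]
        _ = g * M₁.e aa * g⁻¹ * q := by group
  exact (mem_centralizer_iff.1 (key hu) q hq).symm

theorem UU_comm {u v : G} (hu : u ∈ UU (M₁.e nn) (M₁.e aa)) (hv : v ∈ UU (M₁.e nn) (M₁.e aa)) :
    u * v = v * u :=
  wr.UU_comm_Q hu (wr.UU_le_Q hv)

theorem UU_sq {u : G} (hu : u ∈ UU (M₁.e nn) (M₁.e aa)) : u * u = 1 := by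
  induction hu using closure_induction with
  | mem x hx =>
    rcases hx with rfl | ⟨g, -, rfl⟩
    · exact M₁.e_sq _
    · have h1 : g * M₁.e aa * g⁻¹ * (g * M₁.e aa * g⁻¹) = g * (M₁.e aa * M₁.e aa) * g⁻¹ := by group
      rw [h1, M₁.e_sq]; group
  | one => exact one_mul 1
  | mul x y hx hy h1 h2 =>
    have h3 : x * y = y * x := wr.UU_comm hx hy
    calc x * y * (x * y) = x * (y * x) * y := by group
      _ = (x * x) * (y * y) := by rw [← h3]; group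
      _ = 1 := by rw [h1, h2, one_mul]
  | inv x _ h1 => rw [← mul_inv_rev, h1, inv_one]

/-! ### The family `K_c` over `a ^ C(n)` -/

omit [Finite G] wr in
theorem mem_Kk_a {g w : G} : w ∈ Kk (g * M₁.e aa * g⁻¹) ↔ g⁻¹ * w * g ∈ Kk (M₁.e aa) := Kk_conj_iff.symm

/-- `[K_a, Q_a] ≤ ⟨a⟩` -/
theorem Kka_act {w q : G} (hw : w ∈ Kk (M₁.e aa)) (hq : q ∈ Q (M₁.e aa)) :
    w * q * w⁻¹ = q ∨ w * q * w⁻¹ = q * M₁.e aa := by
  rcases Kk_conj (M₁.e_sq aa) hw hq with h | h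
  · exact Or.inl h
  · right
    rw [h]
    exact (mem_C.1 (o2_le _ hq)).symm

theorem Kkn_act {w q : G} (hw : w ∈ Kk (M₁.e nn)) (hq : q ∈ Q (M₁.e nn)) :
    w * q * w⁻¹ = q ∨ w * q * w⁻¹ = q * M₁.e nn := by
  rcases Kk_conj (M₁.e_sq nn) hw hq with h | h
  · exact Or.inl h
  · right
    rw [h]
    exact (mem_C.1 (o2_le _ hq)).symm

theorem Kka_comm_n {w : G} (hw : w ∈ Kk (M₁.e aa)) : w * M₁.e nn = M₁.e nn * w :=
  (wr.Qa_le_S (wr.Kka_le_Qa hw)).2.1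

/-- the calculus on `U`, on a larger group `A ≤ O₂(C(a))` -/
theorem calc_of {A : Subgroup G} (hc : ∀ u ∈ A, ∀ v ∈ A, u * v = v * u) (hs : ∀ u ∈ A, u * u = 1)
    (hN : ∀ g, g * M₁.e nn = M₁.e nn * g → ∀ u ∈ A, g * u * g⁻¹ ∈ A) (ha : M₁.e aa ∈ A)
    (hA : A ≤ Q (M₁.e aa)) : TTn.Calc.Dat (centralizer ({M₁.e nn} : Set G)) A
      (cls (centralizer ({M₁.e nn} : Set G)) (M₁.e aa)) Kk where
  comm := hc
  sq := hs
  norm g hg u hu := hN g (mem_C.1 hg) u hu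
  OmA := by
    rintro _ ⟨g, hg, rfl⟩
    exact hN g (mem_C.1 hg) _ ha
  OmX := fun g hg c hc => cls_conj hc hg
  trans := by
    rintro _ ⟨g, hg, rfl⟩ _ ⟨k, hk, rfl⟩
    exact ⟨k * g⁻¹, mul_mem hk (inv_mem hg), by group⟩
  WX := by
    rintro _ ⟨g, hg, rfl⟩ w hw
    rw [mem_Kk_a] at hw
    have h1 := mem_C.2 (wr.Kka_comm_n hw)
    have h2 := mul_mem (mul_mem hg h1) (inv_mem hg)
    have e : g * (g⁻¹ * w * g) * g⁻¹ = w := by group
    rwa [e] at h2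
  eqv g hg c hc w hw := conj_Kk rfl hw
  cen := by
    rintro c hc w hw
    exact mem_C.1 hw.1
  act := by
    rintro _ ⟨g, hg, rfl⟩ w hw u hu
    rw [mem_Kk_a] at hw
    have hg' : g⁻¹ * M₁.e nn = M₁.e nn * g⁻¹ := mem_C.1 (inv_mem hg)
    have h1 : g⁻¹ * u * g ∈ A := by
      have := hN _ hg' u hu
      rwa [inv_inv] at this
    rcases wr.Kka_act hw (hA h1) with h2 | h2
    · left
      calc w * u * w⁻¹ = g * (g⁻¹ * w * g * (g⁻¹ * u * g) * (g⁻¹ * w * g)⁻¹) * g⁻¹ := by group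
        _ = u := by rw [h2]; group
    · right
      calc w * u * w⁻¹ = g * (g⁻¹ * w * g * (g⁻¹ * u * g) * (g⁻¹ * w * g)⁻¹) * g⁻¹ := by group
        _ = u * (g * M₁.e aa * g⁻¹) := by rw [h2]; group

/-- the calculus on `U` -/
theorem calcN (hU : UU (M₁.e nn) (M₁.e aa) ≤ Q (M₁.e aa)) :
    TTn.Calc.Dat (centralizer ({M₁.e nn} : Set G)) (UU (M₁.e nn) (M₁.e aa))
      (cls (centralizer ({M₁.e nn} : Set G)) (M₁.e aa)) Kk :=
  wr.calc_of (fun _ hu _ hv => wr.UU_comm hu hv) (fun _ hu => wr.UU_sq hu) (fun _ hg _ hu => UU_norm hg hu)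
    (mem_UU_self _ _) hU

/-! ### `K_c` is faithful on `U` modulo `Q_n` -/

omit wr in
theorem centralizer_UU_le : centralizer (UU (M₁.e nn) (M₁.e aa) : Set G) ≤
    centralizer ({M₁.e nn} : Set G) ⊓ centralizer ({M₁.e aa} : Set G) := by
  intro g hg
  rw [mem_centralizer_iff] at hg
  exact mem_inf.2 ⟨mem_C.2 (hg _ (self_mem_UU _ _)).symm, mem_C.2 (hg _ (mem_UU_self _ _)).symm⟩

omit wr in
theorem normalizer_centralizer_UU : centralizer ({M₁.e nn} : Set G) ≤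
    normalizer (centralizer (UU (M₁.e nn) (M₁.e aa) : Set G) : Set G) := by
  intro g hg
  refine mem_normalizer_of_cj_le ?_
  rintro _ ⟨x, hx, rfl⟩
  refine mem_centralizer_iff.2 fun u hu => ?_
  have hg' : g⁻¹ * M₁.e nn = M₁.e nn * g⁻¹ := by
    rw [inv_mul_eq_iff_eq_mul, ← mul_assoc, mem_C.1 hg, mul_inv_cancel_right]
  have h1 := UU_norm (y := M₁.e aa) hg' hu
  rw [inv_inv] at h1
  have h2 := mem_centralizer_iff.1 hx _ h1
  change u * (g * x * g⁻¹) = g * x * g⁻¹ * u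
  calc u * (g * x * g⁻¹) = g * (g⁻¹ * u * g * x) * g⁻¹ := by group
    _ = g * (x * (g⁻¹ * u * g)) * g⁻¹ := by rw [h2]
    _ = g * x * g⁻¹ * u := by group

omit wr in
theorem o2_centralizer_UU_le : o2 (centralizer (UU (M₁.e nn) (M₁.e aa) : Set G)) ≤ Q (M₁.e nn) :=
  NO3b.UMethod.o2_le_o2_of_normal (centralizer_UU_le.trans inf_le_left) normalizer_centralizer_UU

/-- `C_{K_c}(U) ≤ Q_n` -/
theorem Kk_faithful : ∀ c ∈ cls (centralizer ({M₁.e nn} : Set G)) (M₁.e aa), ∀ w ∈ Kk c,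
    (∀ u ∈ UU (M₁.e nn) (M₁.e aa), w * u = u * w) → w ∈ Q (M₁.e nn) := by
  have key : ∀ w ∈ Kk (M₁.e aa), (∀ u ∈ UU (M₁.e nn) (M₁.e aa), w * u = u * w) → w ∈ Q (M₁.e nn) := by
    intro w hw hu
    have h1 : Kk (M₁.e aa) ⊓ centralizer (UU (M₁.e nn) (M₁.e aa) : Set G) ≤
        o2 (centralizer (UU (M₁.e nn) (M₁.e aa) : Set G)) := by
      refine le_o2 inf_le_right ((o2_isPGroup _).to_le (inf_le_left.trans wr.Kka_le_Qa)) ?_
      intro x hx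
      refine mem_normalizer_of_cj_le ?_
      rintro _ ⟨y, hy, rfl⟩
      refine mem_inf.2 ⟨?_, mul_mem (mul_mem hx hy.2) (inv_mem hx)⟩
      refine conj_Kk ?_ hy.1
      rw [mem_C.1 (centralizer_UU_le hx).2, mul_inv_cancel_right]
    exact o2_centralizer_UU_le (h1 ⟨hw, mem_centralizer_iff.2 fun u hu' => (hu u hu').symm⟩)
  rintro _ ⟨g, hg, rfl⟩ w hw hu
  rw [mem_Kk_a] at hw
  have h2 := key _ hw (fun u hu' => by
    have h3 := hu _ (UU_norm (mem_C.1 hg) hu')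
    calc g⁻¹ * w * g * u = g⁻¹ * (w * (g * u * g⁻¹)) * g := by group
      _ = u * (g⁻¹ * w * g) := by rw [h3]; group)
  have h4 := Q_conj (mem_C.1 hg) h2
  have e : g * (g⁻¹ * w * g) * g⁻¹ = w := by group
  rwa [e] at h4

end fin

end Wr

end Cfsg.Agent.Omega.IId.LFour
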