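import Cfsg.Agent.Omega.IId.LFour.CKey

/-!
# (C) of #14703 (II.d L4, `S₅ wr 2`): the end, `m_3(G) ≤ 2` (helper430)

* `CH.false_of_rank` : no triangle, `U_n ≤ O₂(C(a))`, `V₁`, `V₁ ^ s` (`s ∈ C(n)`) do not commute, `m_3(G) ≤ 2`:
  contradiction.

`y = k_a k_b` (`k_c ∈ K_c`) has order 3 modulo `Q_n`, `[Z(Q_n), y] ≤ ⟨a, b⟩`, and commutes modulo `Q_n` with
`X = C(n) ∩ C(a) ∩ C(b)`. The characters of `K_n` show that `y ^ s ∈ X`. Let `e ∈ C(V₁)` of order 3 induce a 3-cycle on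
`V₂`. As `m_3(G) ≤ 2`, `⟨e⟩ ^ g = ⟨y ^ s⟩` modulo `Q_n` for some `g ∈ X`; `V₂ ≤ Z(Q_n)`, so a duad `m'` of `V₂` is conjugate
to `a` under `C(n)`, and `V₁ ≤ Z(O₂(C(m')))`.
-/

set_option autoImplicit false
set_option linter.unusedSectionVars false

namespace Cfsg.Agent.Omega.IId.LFour

open Subgroup Pointwise Cfsg Cfsg.Agent.ZN Cfsg.Agent.Omega.MinPar
open Cfsg.Agent.ZN.ChoiceBase (cj mem_cj mem_normalizer_of_cj_le)
open Cfsg.Agent.Omega.S5.Mod Cfsg.Agent.Omega.S5.TT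
open Cfsg.Agent.Omega.S5.TT.Pos (na ns as sn n_ne s_ne a_ne n_ne_a n_ne_s a_ne_s e_sq' mem_C)
open Cfsg.Agent.MinSimple.VModule (o2_isPGroup le_o2 o2_le le_normalizer_o2 mem_zc zc_le zc_comm)
open Cfsg.Agent.Omega.TwoFFour (Syl2)
open Cfsg.Agent.Omega.IId.One (Kk mem_Kk Kk_conj conj_Kk)
open Cfsg.Agent.Omega.S5.ChiConst (cls)
open Cfsg.Agent.Omega.TTn (WW UU mem_WW₁ le_WW₁ WW_le WW_norm self_mem_UU mem_UU mem_UU_self UU_le UU_norm Q)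
open Cfsg.Agent.Omega.TTn.Calc (conj_eq_iff comm_conj_iff)
open Cfsg.Agent.Omega.TTn.BZero (Adj cls_conj a_cls conj_b)

universe u

variable {G : Type u} [Group G]

theorem pow_cyc (p : Equiv.Perm (Fin 5)) (hp : p * p * p = 1) (j : ℕ) : p ^ 2 ^ j = p ∨ p ^ 2 ^ j = p⁻¹ := by
  induction j with
  | zero => left; rw [pow_zero, pow_one]
  | succ j ih =>
    have h1 : p * p = p⁻¹ := by rw [eq_inv_iff_mul_eq_one, hp]
    rw [pow_succ, pow_mul, pow_two]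
    rcases ih with h | h
    · right; rw [h, h1]
    · left; rw [h, ← mul_inv_rev, h1, inv_inv]

theorem ind_pow {V L : Subgroup G} {M : FiveMod V L} {g : G} {p : Equiv.Perm (Fin 5)} (h : M.Ind g p) (j : ℕ) :
    M.Ind (g ^ j) (p ^ j) := by
  induction j with
  | zero => rw [pow_zero, pow_zero]; exact M.ind_one
  | succ j ih => rw [pow_succ, pow_succ]; exact ih.mul h

theorem norm_cent {V : Subgroup G} {g : G} (hg : g ∈ normalizer (V : Set G)) :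
    g ∈ normalizer (centralizer (V : Set G) : Set G) := by
  rw [mem_normalizer_iff]
  intro y
  have := cent_conj_iff (y := y) (inv_mem hg)
  rw [inv_inv] at this
  exact this.symm

theorem single_ne : ∀ i j : Fin 5, i ≠ j →
    ¬ ((Pi.single i 1 + Pi.single j 1 : Vec) = 0 ∨ (Pi.single i 1 + Pi.single j 1 : Vec) = 1) := by
  decide

/-! ### The second factor -/

namespace Wr

variable {S : Sylow 2 G} {P V₁ V₂ L₁ L₂ : Subgroup G} {M₁ : FiveMod V₁ L₁} {M₂ : FiveMod V₂ L₂}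

section fin

variable [Finite G] (wr : Wr S P M₁ M₂)
include wr

/-- `K_m` moves `V₂` for the duad `m = M₂.e nn` -/
theorem exists_ex₂ (h : ∃ k ∈ Kk (M₁.e nn), M₁.Ind k (Equiv.swap 0 1)) :
    ∃ k ∈ Kk (M₂.e nn), M₂.Ind k (Equiv.swap 0 1) := by
  obtain ⟨k, hk, hki⟩ := h
  obtain ⟨s, hs, p, q, hsw⟩ := wr.swap
  obtain ⟨l, hl, hli⟩ := M₂.exists_lift p⁻¹
  have hli : M₂.Ind l p⁻¹ := hli
  refine ⟨l * (s * k * s⁻¹) * l⁻¹, conj_Kk ?_ (conj_Kk (hsw.1 nn) hk), ?_⟩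
  · rw [hli]
    congr 1
    funext i
    change nn (p⁻¹ ((p⁻¹)⁻¹ i)) = nn i
    rw [← Equiv.Perm.mul_apply]
    simp
  · intro x
    have e1 : ∀ x, s⁻¹ * M₂.e x * s = M₁.e (x ∘ p) := by
      intro x
      have h1 := hsw.1 (x ∘ p)
      have h2 : (x ∘ p) ∘ p.symm = x := by funext i; simp
      rw [h2] at h1
      rw [← h1]; group
    have e2 : M₂.Ind (s * k * s⁻¹) (p * Equiv.swap 0 1 * p⁻¹) := by
      intro x
      calc s * k * s⁻¹ * M₂.e x * (s * k * s⁻¹)⁻¹ = s * (k * (s⁻¹ * M₂.e x * s) * k⁻¹) * s⁻¹ := by group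
        _ = M₂.e (((x ∘ p) ∘ (Equiv.swap 0 1 : Equiv.Perm (Fin 5)).symm) ∘ p.symm) := by
          rw [e1, hki, hsw.1]
    have e3 := (hli.mul e2).mul hli.inv
    have e4 : p⁻¹ * (p * Equiv.swap 0 1 * p⁻¹) * p⁻¹⁻¹ = Equiv.swap 0 1 := by group
    rw [e4] at e3
    exact e3 x

/-- `K_v ∩ C(V₂) ≤ O₂(C(V₂))`, `1 ≠ v ∈ V₂` -/
theorem Kk_inf_le {v : G} (hv : v ∈ V₂) (hv1 : v ≠ 1) : Kk v ⊓ centralizer (V₂ : Set G) ≤
    o2 (centralizer (V₂ : Set G)) := by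
  have hv2 : v ^ 2 = 1 := by rw [pow_two]; exact M₂.sq hv
  refine le_o2 inf_le_right ((o2_isPGroup _).to_le (inf_le_left.trans (Kk_le_o2 wr.hG hv2 hv1))) ?_
  refine Half.le_normalizer_inf ?_ le_normalizer
  exact (centralizer_le (by rintro _ rfl; exact hv)).trans (One.le_normalizer_Kk v)

/-- An element of order 3 in `C(V₁)` inducing a 3-cycle on `V₂`. -/
theorem exists_e (h : ∃ k ∈ Kk (M₁.e nn), M₁.Ind k (Equiv.swap 0 1)) : ∃ e ∈ centralizer (V₁ : Set G),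
    e ^ 3 = 1 ∧ ∃ i j : Fin 5, i ≠ j ∧ e * M₂.e (Pi.single 0 1) * e⁻¹ * (M₂.e (Pi.single 0 1))⁻¹ =
      M₂.e (Pi.single i 1 + Pi.single j 1) := by
  obtain ⟨k₁, hk₁, hi₁⟩ := wr.exists_ex₂ h
  obtain ⟨g, hgL, hg⟩ := M₂.exists_lift (Equiv.swap 0 2)
  have hg : M₂.Ind g (Equiv.swap 0 2) := hg
  set k₂ := g * k₁ * g⁻¹ with hk₂
  have hi₂ : M₂.Ind k₂ (Equiv.swap 1 2) := by
    have := (hg.mul hi₁).mul hg.inv
    rwa [show Equiv.swap 0 2 * Equiv.swap 0 1 * (Equiv.swap 0 2)⁻¹ = (Equiv.swap 1 2 : Equiv.Perm (Fin 5)) by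
      decide] at this
  have hc₁ : k₁ ∈ centralizer (V₁ : Set G) := wr.symm.quarter_cent (wr.symm.Kk_le_Q hk₁)
  have hc₂ : k₂ ∈ centralizer (V₁ : Set G) := by
    have h1 : g ∈ centralizer (V₁ : Set G) := mem_centralizer_iff.2 fun v hv => (wr.L₂_comm hgL hv).symm
    exact mul_mem (mul_mem h1 hc₁) (inv_mem h1)
  set R := o2 (centralizer (V₂ : Set G)) with hR
  have hnR : ∀ {k : G} {p : Equiv.Perm (Fin 5)}, M₂.Ind k p → k ∈ normalizer (R : Set G) := by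
    intro k p hk
    refine normalizer_le_normalizer_o2' _ ?_
    exact norm_cent hk.mem_normalizer
  have hd : ∀ {k k' : G} {i j : Fin 5}, i ≠ j → k ∈ Kk (M₂.e (Pi.single i 1 + Pi.single j 1)) →
      k' ∈ Kk (M₂.e (Pi.single i 1 + Pi.single j 1)) → M₂.Ind (k * k') 1 → k * k' ∈ R := by
    intro k k' i j hij hk hk' hkk
    refine wr.Kk_inf_le (M₂.e_mem _) ?_ ⟨mul_mem hk hk', FiveMod.ind_one_iff.1 hkk⟩
    rw [Ne, M₂.ker]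
    exact single_ne i j hij
  have e01 : M₂.e nn = M₂.e (Pi.single 0 1 + Pi.single 1 1) := by
    congr 1; decide
  have e12 : g * M₂.e nn * g⁻¹ = M₂.e (Pi.single 1 1 + Pi.single 2 1) := by
    rw [hg, M₂.e_eq_iff]; left; decide
  have hk₂K : k₂ ∈ Kk (M₂.e (Pi.single 1 1 + Pi.single 2 1)) := conj_Kk e12 hk₁
  have hk₁K : k₁ ∈ Kk (M₂.e (Pi.single 0 1 + Pi.single 1 1)) := e01 ▸ hk₁
  have hcube : (k₁ * k₂) ^ 3 ∈ R := by
    refine CAbs.cube_mem (hnR hi₁) (hnR hi₂) ?_ ?_ ?_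
    · refine hd (by decide) hk₁K hk₁K ?_
      have := hi₁.mul hi₁
      rwa [Equiv.swap_mul_self] at this
    · refine hd (by decide) hk₂K hk₂K ?_
      have := hi₂.mul hi₂
      rwa [Equiv.swap_mul_self] at this
    · refine hd (i := 0) (j := 2) (by decide) (conj_Kk ?_ hk₂K) (conj_Kk ?_ hk₁K) ?_
      · rw [hi₁, M₂.e_eq_iff]; left; decide
      · rw [hi₂, M₂.e_eq_iff]; left; decide
      · have := ((hi₁.mul hi₂).mul hi₁.inv).mul ((hi₂.mul hi₁).mul hi₂.inv)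
        rwa [show Equiv.swap 0 1 * Equiv.swap 1 2 * (Equiv.swap 0 1)⁻¹ *
          (Equiv.swap 1 2 * Equiv.swap 0 1 * (Equiv.swap 1 2)⁻¹) = (1 : Equiv.Perm (Fin 5)) by decide] at this
  obtain ⟨j, hj⟩ := CAbs.exists_pow_two (o2_isPGroup _) hcube
  refine ⟨(k₁ * k₂) ^ 2 ^ j, pow_mem (mul_mem hc₁ hc₂) _, hj, ?_⟩
  have hi := ind_pow (hi₁.mul hi₂) (2 ^ j)
  rcases pow_cyc (Equiv.swap 0 1 * Equiv.swap 1 2) (by decide) j with h1 | h1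
  · rw [h1] at hi
    refine ⟨0, 1, by decide, ?_⟩
    rw [hi, M₂.e_inv, ← M₂.e_add, M₂.e_eq_iff]
    left; decide
  · rw [h1] at hi
    refine ⟨0, 2, by decide, ?_⟩
    rw [hi, M₂.e_inv, ← M₂.e_add, M₂.e_eq_iff]
    left; decide

/-- `O₂(C(m')) ≤ C(V₁)` for every duad `m'` of `V₂` -/
theorem quarter_duad {i j : Fin 5} (hij : i ≠ j) :
    Q (M₂.e (Pi.single i 1 + Pi.single j 1)) ≤ centralizer (V₁ : Set G) := by
  have hp : ∀ i j : Fin 5, i ≠ j → ∃ p : Equiv.Perm (Fin 5), nn ∘ p.symm = Pi.single i 1 + Pi.single j 1 := by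
    decide +kernel
  obtain ⟨p, hp⟩ := hp i j hij
  obtain ⟨l, hl, hli⟩ := M₂.exists_lift p
  have hli : M₂.Ind l p := hli
  have hlc : l ∈ centralizer (V₁ : Set G) := mem_centralizer_iff.2 fun v hv => (wr.L₂_comm hl hv).symm
  intro q hq
  rw [← hp, ← hli nn, ← mem_Q_conj] at hq
  have h1 := mul_mem (mul_mem hlc (wr.symm.quarter_cent hq)) (inv_mem hlc)
  have e : l * (l⁻¹ * q * l) * l⁻¹ = q := by group
  rwa [e] at h1

end fin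

end Wr

/-- the elements whose commutators with `Z` lie in `D` -/
theorem pow_act {N Z D : Subgroup G} {y : G} (hy : y ∈ N) (hZ : ∀ g ∈ N, ∀ u ∈ Z, g * u * g⁻¹ ∈ Z)
    (hD : D ≤ Z) (h : ∀ u ∈ Z, y * u * y⁻¹ * u⁻¹ ∈ D) :
    ∀ k ∈ zpowers y, ∀ u ∈ Z, k * u * k⁻¹ * u⁻¹ ∈ D := by
  let B : Subgroup G :=
    { carrier := {g | g ∈ N ∧ ∀ u ∈ Z, g * u * g⁻¹ * u⁻¹ ∈ D}
      one_mem' := ⟨one_mem _, fun u _ => by
        have e : (1 : G) * u * 1⁻¹ * u⁻¹ = 1 := by group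
        rw [e]; exact one_mem _⟩
      mul_mem' := by
        rintro g h ⟨hg, hg'⟩ ⟨hh, hh'⟩
        refine ⟨mul_mem hg hh, fun u hu => ?_⟩
        have h1 := hh' u hu
        have h2 := hg' _ (hD h1)
        have h3 := hg' u hu
        have e : g * h * u * (g * h)⁻¹ * u⁻¹ = (g * (h * u * h⁻¹ * u⁻¹) * g⁻¹ * (h * u * h⁻¹ * u⁻¹)⁻¹) *
            (h * u * h⁻¹ * u⁻¹) * (g * u * g⁻¹ * u⁻¹) := by group
        rw [e]
        exact mul_mem (mul_mem h2 h1) h3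
      inv_mem' := by
        rintro g ⟨hg, hg'⟩
        refine ⟨inv_mem hg, fun u hu => ?_⟩
        have h2 := hg' _ (hZ g⁻¹ (inv_mem hg) u hu)
        have e : g⁻¹ * u * g⁻¹⁻¹ * u⁻¹ =
            (g * (g⁻¹ * u * g⁻¹⁻¹) * g⁻¹ * (g⁻¹ * u * g⁻¹⁻¹)⁻¹)⁻¹ := by group
        rw [e]
        exact inv_mem h2 }
  have hB : zpowers y ≤ B := by
    rw [zpowers_le]; exact ⟨hy, h⟩
  exact fun k hk => (hB hk).2

namespace CH

variable [Finite G] {S : Sylow 2 G} {P V₁ V₂ L₁ L₂ : Subgroup G} {M₁ : FiveMod V₁ L₁} {M₂ : FiveMod V₂ L₂}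
  (b : CH S P M₁ M₂)
include b

/-- `K_c ∩ C(V₁) ≤ Q_n`, `c` conjugate to `a` under `L₁ ∩ C(n)` -/
theorem c_mem_Q {g w c : G} (hg : g ∈ centralizer ({M₁.e nn} : Set G)) (hgL : g ∈ L₁)
    (hc : c = g * M₁.e aa * g⁻¹) (hw : w ∈ Kk c) (hwV : w ∈ centralizer (V₁ : Set G)) :
    w ∈ Q (M₁.e nn) := by
  subst hc
  have h1 : g⁻¹ * w * g ∈ Kk (M₁.e aa) := Kk_conj_iff.2 hw
  have h2 : g⁻¹ * w * g ∈ Q (M₁.e nn) :=
    (b.a_mem_Q_iff h1).2 ((cent_conj_iff (M₁.le_normalizer hgL)).2 hwV)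
  have h3 := Wr.Q_conj (mem_C.1 hg) h2
  have e : g * (g⁻¹ * w * g) * g⁻¹ = w := by group
  rwa [e] at h3

theorem comm_a {w g : G} (hw : w ∈ Kk (M₁.e aa)) (hg : g * M₁.e nn = M₁.e nn * g)
    (hga : g * M₁.e aa = M₁.e aa * g) : w * g * w⁻¹ * g⁻¹ ∈ Q (M₁.e nn) := by
  have h1 : g * w⁻¹ * g⁻¹ ∈ Kk (M₁.e aa) := conj_Kk (by rw [hga, mul_inv_cancel_right]) (inv_mem hw)
  have e : w * g * w⁻¹ * g⁻¹ = w * (g * w⁻¹ * g⁻¹) := by group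
  rw [e]
  by_cases h2 : w ∈ Q (M₁.e nn)
  · exact mul_mem h2 (Wr.Q_conj hg (inv_mem h2))
  · refine b.a_mul_mem hw h1 h2 fun h3 => h2 ?_
    have h4 := Wr.Q_conj' hg h3
    have e2 : g⁻¹ * (g * w⁻¹ * g⁻¹) * g = w⁻¹ := by group
    rw [e2] at h4
    exact inv_mem_iff.1 h4

/-- `[K_c, C(n) ∩ C(c)] ≤ Q_n`, `c ∈ a ^ C(n)` -/
theorem comm_c {w g h c : G} (hh : h ∈ centralizer ({M₁.e nn} : Set G)) (hc : c = h * M₁.e aa * h⁻¹)
    (hw : w ∈ Kk c) (hg : g * M₁.e nn = M₁.e nn * g) (hgc : g * c = c * g) :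
    w * g * w⁻¹ * g⁻¹ ∈ Q (M₁.e nn) := by
  subst hc
  have h1 := b.comm_a (w := h⁻¹ * w * h) (g := h⁻¹ * g * h) (Kk_conj_iff.2 hw)
    (mem_C.1 (mul_mem (mul_mem (inv_mem hh) (mem_C.2 hg)) hh)) (by
      calc h⁻¹ * g * h * M₁.e aa = h⁻¹ * (g * (h * M₁.e aa * h⁻¹)) * h := by group
        _ = M₁.e aa * (h⁻¹ * g * h) := by rw [hgc]; group)
  have h2 := Wr.Q_conj (mem_C.1 hh) h1
  have e : h * (h⁻¹ * w * h * (h⁻¹ * g * h) * (h⁻¹ * w * h)⁻¹ * (h⁻¹ * g * h)⁻¹) * h⁻¹ =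
      w * g * w⁻¹ * g⁻¹ := by group
  rwa [e] at h2

/-- There are no edges between `{a, b, ab}` and `s {a, b, ab} s⁻¹`. -/
theorem not_adj {s v' : G} (hs : s * M₁.e nn = M₁.e nn * s) (hv' : v' ∈ V₁)
    (hm : s * v' * s⁻¹ ∉ centralizer (V₁ : Set G)) {c d w : G}
    (hc : c ∈ cls (centralizer ({M₁.e nn} : Set G)) (M₁.e aa))
    (hcw : ∀ y ∈ Kk (M₁.e nn), (y ∈ Q c ↔ y ∈ Q (M₁.e aa)))
    (hd : d ∈ cls (centralizer ({M₁.e nn} : Set G)) (M₁.e aa))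
    (hdw : ∀ y ∈ Kk (M₁.e nn), (y ∈ Q d ↔ y ∈ Q (M₁.e aa))) (hw : w ∈ Kk (s * c * s⁻¹)) :
    w * d = d * w := by
  by_contra h0
  have h1 := b.chi.same_of_move' (cls_conj hc (mem_C.2 hs)) hd hw h0
  have hy : s * v' * s⁻¹ ∈ Kk (M₁.e nn) := conj_Kk (by rw [hs, mul_inv_cancel_right]) (b.wr.V₁_le_Kk hv')
  have h2 := h1 _ hy
  have e : s⁻¹ * (s * v' * s⁻¹) * s = v' := by group
  rw [hdw _ hy, ← mem_Q_conj, e, hcw v' (b.wr.V₁_le_Kk hv')] at h2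
  exact hm ((b.n_mem_Q_iff hy).1 (h2.2 (b.wr.Kka_le_Qa (b.wr.V₁_le_Kka hv'))))

omit b [Finite G] in
theorem mem_D {d : G} (hd : d ∈ closure ({M₁.e aa, M₁.e bb} : Set G)) :
    ∃ x ∈ ({0, aa, bb, aa + bb} : Finset Vec), d = M₁.e x := by
  induction hd using closure_induction with
  | mem x hx =>
    rcases hx with rfl | rfl
    · exact ⟨aa, by decide, rfl⟩
    · exact ⟨bb, by decide, rfl⟩
  | one => exact ⟨0, by decide, M₁.e_zero.symm⟩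
  | mul x y _ _ h1 h2 =>
    obtain ⟨x, hx, rfl⟩ := h1
    obtain ⟨y, hy, rfl⟩ := h2
    have key : ∀ x ∈ ({0, aa, bb, aa + bb} : Finset Vec), ∀ y ∈ ({0, aa, bb, aa + bb} : Finset Vec),
        x + y ∈ ({0, aa, bb, aa + bb} : Finset Vec) := by decide
    exact ⟨x + y, key x hx y hy, (M₁.e_add x y).symm⟩
  | inv x _ h1 =>
    obtain ⟨x, hx, rfl⟩ := h1
    exact ⟨x, hx, M₁.e_inv x⟩

/-- an element of `⟨a, b⟩#` is conjugate to `a` under `L₁ ∩ C(n)` -/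
theorem D_conj {d : G} (hd : d ∈ closure ({M₁.e aa, M₁.e bb} : Set G)) (hd1 : d ≠ 1) :
    ∃ l ∈ L₁, l ∈ centralizer ({M₁.e nn} : Set G) ∧ d = l * M₁.e aa * l⁻¹ := by
  obtain ⟨x, hx, rfl⟩ := mem_D hd
  simp only [Finset.mem_insert, Finset.mem_singleton] at hx
  rcases hx with rfl | rfl | rfl | rfl
  · exact absurd M₁.e_zero hd1
  · exact ⟨1, one_mem _, one_mem _, by group⟩
  · obtain ⟨g, hg, hgL, -, h⟩ := exists_ab (M₁ := M₁)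
    exact ⟨g, hgL, hg, h⟩
  · obtain ⟨g, hg, hgL, -, h⟩ := exists_ac (M₁ := M₁)
    exact ⟨g, hgL, hg, by rw [M₁.e_add]; exact h⟩

/-- `Z(Q_n) ≤ Q_a` -/
theorem Z_le {u : G} (hu : u ∈ Q (M₁.e nn)) (hu' : ∀ q ∈ Q (M₁.e nn), q * u = u * q) :
    u ∈ Kk (M₁.e nn) ∧ u ∈ Q (M₁.e aa) := by
  have h1 : u ∈ Kk (M₁.e nn) := by
    refine mem_Kk.2 ⟨o2_le _ hu, fun q hq => ?_⟩
    have e : u * q * u⁻¹ * q⁻¹ = 1 := by
      rw [← hu' q hq]; group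
    rw [e]
    exact one_mem _
  refine ⟨h1, (b.n_mem_Q_iff h1).2 (mem_centralizer_iff.2 fun v hv => hu' v (b.wr.Kk_le_Q (b.wr.V₁_le_Kk hv)))⟩

/-- **(C)**: `m_3(G) ≤ 2`, no triangle, `U_n ≤ O₂(C(a))`: `V₁` commutes with `V₁ ^ s`, `s ∈ C(n)`. -/
theorem false_of_rank (hr : PRankLE 3 2 G) {s v v' : G} (hs : s * M₁.e nn = M₁.e nn * s) (hv : v ∈ V₁)
    (hv' : v' ∈ V₁) (hne : v * (s * v' * s⁻¹) ≠ s * v' * s⁻¹ * v) : False := by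
  have hm : s * v' * s⁻¹ ∉ centralizer (V₁ : Set G) := fun h => hne (mem_centralizer_iff.1 h v hv)
  obtain ⟨ka, hka, hia⟩ := b.exa
  obtain ⟨g₂, hg₂, hg₂L, hg₂i, hbb⟩ := exists_ab (M₁ := M₁)
  obtain ⟨g₃, hg₃, hg₃L, hg₃i, hab⟩ := exists_ac (M₁ := M₁)
  obtain ⟨kb, hkbd⟩ : ∃ kb, kb = g₂ * ka * g₂⁻¹ := ⟨_, rfl⟩
  have hkb : kb ∈ Kk (M₁.e bb) := by rw [hkbd]; exact conj_Kk hbb.symm hka
  have hib : M₁.Ind kb (Equiv.swap 3 4) := by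
    have := (hg₂i.mul hia).mul hg₂i.inv
    rw [show Equiv.swap 2 4 * Equiv.swap 2 3 * (Equiv.swap 2 4)⁻¹ = (Equiv.swap 3 4 : Equiv.Perm (Fin 5)) by
      decide] at this
    rw [hkbd]; exact this
  have hQn : centralizer ({M₁.e nn} : Set G) ≤ normalizer (Q (M₁.e nn) : Set G) := le_normalizer_o2 _
  have hkaN : ka ∈ centralizer ({M₁.e nn} : Set G) := mem_C.2 (b.wr.Kka_comm_n hka)
  have hkbN : kb ∈ centralizer ({M₁.e nn} : Set G) := by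
    rw [hkbd]; exact mul_mem (mul_mem hg₂ hkaN) (inv_mem hg₂)
  -- `y = k_a k_b`
  obtain ⟨y, hyd⟩ : ∃ y, y = ka * kb := ⟨_, rfl⟩
  have hyN : y ∈ centralizer ({M₁.e nn} : Set G) := by rw [hyd]; exact mul_mem hkaN hkbN
  have hyi : M₁.Ind y (Equiv.swap 2 3 * Equiv.swap 3 4) := by rw [hyd]; exact hia.mul hib
  have hy3 : y ^ 3 ∈ Q (M₁.e nn) := by
    rw [hyd]
    refine CAbs.cube_mem (hQn hkaN) (hQn hkbN) ?_ ?_ ?_
    · refine b.c_mem_Q (one_mem _) (one_mem _) (by group) (mul_mem hka hka) ((FiveMod.ind_one_iff (M := M₁)).1 ?_)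
      have := hia.mul hia
      rwa [Equiv.swap_mul_self] at this
    · refine b.c_mem_Q hg₂ hg₂L hbb (mul_mem hkb hkb) ((FiveMod.ind_one_iff (M := M₁)).1 ?_)
      have := hib.mul hib
      rwa [Equiv.swap_mul_self] at this
    · refine b.c_mem_Q hg₃ hg₃L hab (mul_mem (conj_Kk ?_ hkb) (conj_Kk ?_ hka)) ((FiveMod.ind_one_iff (M := M₁)).1 ?_)
      · rw [hia, ← M₁.e_add, M₁.e_eq_iff]; left; decide
      · rw [hib, ← M₁.e_add, M₁.e_eq_iff]; left; decide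
      · have := ((hia.mul hib).mul hia.inv).mul ((hib.mul hia).mul hib.inv)
        rwa [show Equiv.swap 2 3 * Equiv.swap 3 4 * (Equiv.swap 2 3)⁻¹ *
          (Equiv.swap 3 4 * Equiv.swap 2 3 * (Equiv.swap 3 4)⁻¹) = (1 : Equiv.Perm (Fin 5)) by decide] at this
  have hya : y * M₁.e aa ≠ M₁.e aa * y := by
    rw [Ne, hyi.commute_iff]
    decide
  have hQa : ∀ q ∈ Q (M₁.e nn), q * M₁.e aa = M₁.e aa * q := fun q hq => b.wr.perp_cent hq (y := aa) (by decide)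
  have hy1 : y ∉ Q (M₁.e nn) := fun h => hya (hQa y h)
  -- `X = C(n) ∩ C(a) ∩ C(b)`
  obtain ⟨X, hX⟩ : ∃ X : Subgroup G, X = centralizer ({M₁.e nn} : Set G) ⊓ centralizer ({M₁.e aa} : Set G) ⊓
    centralizer ({M₁.e bb} : Set G) := ⟨_, rfl⟩
  have hXN : X ≤ centralizer ({M₁.e nn} : Set G) := by rw [hX]; exact inf_le_left.trans inf_le_left
  have hXa : ∀ g ∈ X, g * M₁.e aa = M₁.e aa * g := by
    intro g hg; rw [hX] at hg; exact mem_C.1 hg.1.2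
  have hXb : ∀ g ∈ X, g * M₁.e bb = M₁.e bb * g := by
    intro g hg; rw [hX] at hg; exact mem_C.1 hg.2
  have hXy : ∀ g ∈ X, y * g * y⁻¹ * g⁻¹ ∈ Q (M₁.e nn) := by
    intro g hg
    have h1 := b.comm_c (one_mem _) (by group) hka (mem_C.1 (hXN hg)) (hXa g hg)
    have h2 := b.comm_c hg₂ hbb hkb (mem_C.1 (hXN hg)) (hXb g hg)
    have h3 := Wr.Q_conj (mem_C.1 hkaN) h2
    have e : y * g * y⁻¹ * g⁻¹ = ka * (kb * g * kb⁻¹ * g⁻¹) * ka⁻¹ * (ka * g * ka⁻¹ * g⁻¹) := by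
      rw [hyd]; group
    rw [e]
    exact mul_mem h3 h1
  -- `z = s y s⁻¹`
  have hbA : M₁.e bb ∈ cls (centralizer ({M₁.e nn} : Set G)) (M₁.e aa) := bA
  have haA : M₁.e aa ∈ cls (centralizer ({M₁.e nn} : Set G)) (M₁.e aa) := a_cls
  obtain ⟨z, hzd⟩ : ∃ z, z = s * y * s⁻¹ := ⟨_, rfl⟩
  have hzN : z ∈ centralizer ({M₁.e nn} : Set G) := by
    rw [hzd]; exact mul_mem (mul_mem (mem_C.2 hs) hyN) (inv_mem (mem_C.2 hs))
  have hzX : z ∈ X := by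
    have h1 : s * ka * s⁻¹ ∈ Kk (s * M₁.e aa * s⁻¹) := conj_Kk rfl hka
    have h2 : s * kb * s⁻¹ ∈ Kk (s * M₁.e bb * s⁻¹) := conj_Kk rfl hkb
    have e : z = s * ka * s⁻¹ * (s * kb * s⁻¹) := by rw [hzd, hyd]; group
    have hid : ∀ y ∈ Kk (M₁.e nn), (y ∈ Q (M₁.e aa) ↔ y ∈ Q (M₁.e aa)) := fun _ _ => Iff.rfl
    rw [hX, e]
    refine ⟨⟨e ▸ hzN, mul_mem ?_ ?_⟩, mul_mem ?_ ?_⟩
    · exact mem_C.2 (b.not_adj hs hv' hm haA hid haA hid h1)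
    · exact mem_C.2 (b.not_adj hs hv' hm hbA b.chi.bO haA hid h2)
    · exact mem_C.2 (b.not_adj hs hv' hm haA hid hbA b.chi.bO h1)
    · exact mem_C.2 (b.not_adj hs hv' hm hbA b.chi.bO hbA b.chi.bO h2)
  have hz3 : z ^ 3 ∈ Q (M₁.e nn) := by
    rw [hzd, conj_pow]; exact Wr.Q_conj hs hy3
  have hz1 : z ∉ Q (M₁.e nn) := by
    intro h
    have h1 := Wr.Q_conj' hs h
    have e : s⁻¹ * z * s = y := by rw [hzd]; group
    rw [e] at h1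
    exact hy1 h1
  -- `e`
  obtain ⟨e, he, he3, i, j, hij, hei⟩ := b.wr.exists_e b.ex
  have heX : e ∈ X := by
    rw [hX]
    have h1 : ∀ x, e ∈ centralizer ({M₁.e x} : Set G) := fun x =>
      mem_C.2 (mem_centralizer_iff.1 he _ (M₁.e_mem x)).symm
    exact ⟨⟨h1 _, h1 _⟩, h1 _⟩
  obtain ⟨g, hg, k, hk, hgk⟩ := CAbs.conj_of_rank hr hQn (o2_isPGroup _) hXN hyN hy3 hXy hQa hXa hya heX
    (by rw [he3]; exact one_mem _) hzX hz3 hz1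
  have hgN := hXN hg
  -- `Z(Q_n)`
  obtain ⟨Z, hZd⟩ : ∃ Z : Subgroup G, Z = Q (M₁.e nn) ⊓ centralizer (Q (M₁.e nn) : Set G) := ⟨_, rfl⟩
  have hZQ : ∀ u ∈ Z, u ∈ Q (M₁.e nn) := fun u hu => by rw [hZd] at hu; exact hu.1
  have hZc : ∀ u ∈ Z, ∀ q ∈ Q (M₁.e nn), q * u = u * q := fun u hu q hq => by
    rw [hZd] at hu; exact mem_centralizer_iff.1 hu.2 q hq
  have hZn : ∀ g ∈ centralizer ({M₁.e nn} : Set G), ∀ u ∈ Z, g * u * g⁻¹ ∈ Z := by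
    intro g hg u hu
    rw [hZd]
    refine ⟨Wr.Q_conj (mem_C.1 hg) (hZQ u hu), mem_centralizer_iff.2 fun q hq => ?_⟩
    have h1 := hZc u hu _ (Wr.Q_conj' (mem_C.1 hg) hq)
    calc q * (g * u * g⁻¹) = g * (g⁻¹ * q * g * u) * g⁻¹ := by group
      _ = g * u * g⁻¹ * q := by rw [h1]; group
  have hUZ : ∀ u ∈ UU (M₁.e nn) (M₁.e aa), u ∈ Z := fun u hu => by
    rw [hZd]
    exact ⟨b.wr.UU_le_Q hu, mem_centralizer_iff.2 fun q hq => (b.wr.UU_comm_Q hu hq).symm⟩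
  -- `[Z(Q_n), y] ≤ D = ⟨a, b⟩`
  obtain ⟨D, hDd⟩ : ∃ D : Subgroup G, D = closure ({M₁.e aa, M₁.e bb} : Set G) := ⟨_, rfl⟩
  have haD : M₁.e aa ∈ D := by rw [hDd]; exact subset_closure (Or.inl rfl)
  have hbD : M₁.e bb ∈ D := by rw [hDd]; exact subset_closure (Or.inr rfl)
  have hDZ : D ≤ Z := by
    rw [hDd, closure_le]
    rintro _ (rfl | rfl)
    · exact hUZ _ (mem_UU_self _ _)
    · refine hUZ _ ?_
      rw [hbb]
      exact UU_norm (mem_C.1 hg₂) (mem_UU_self _ _)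
  have hyZ : ∀ u ∈ Z, y * u * y⁻¹ * u⁻¹ ∈ D := by
    have h1 : ∀ u ∈ Z, ka * u * ka⁻¹ * u⁻¹ ∈ D := by
      intro u hu
      have h2 := hka.2 u (b.Z_le (hZQ u hu) (hZc u hu)).2
      exact (zpowers_le.2 haD) h2
    intro u hu
    obtain ⟨hK, hua⟩ := b.Z_le (hZQ u hu) (hZc u hu)
    have hub : u ∈ Q (M₁.e bb) := (b.chi.bO u hK).2 hua
    have h2 : kb * u * kb⁻¹ * u⁻¹ ∈ D := (zpowers_le.2 hbD) (hkb.2 u hub)
    have h3 := h1 _ (hDZ h2)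
    have e : y * u * y⁻¹ * u⁻¹ = ka * (kb * u * kb⁻¹ * u⁻¹) * ka⁻¹ * (kb * u * kb⁻¹ * u⁻¹)⁻¹ *
        (kb * u * kb⁻¹ * u⁻¹) * (ka * u * ka⁻¹ * u⁻¹) := by rw [hyd]; group
    rw [e]
    exact mul_mem (mul_mem h3 h2) (h1 u hu)
  -- `u = g v₂ g⁻¹`
  have hv₂ : M₂.e (Pi.single 0 1) ∈ Z := by
    rw [hZd]
    exact ⟨b.wr.Kk_le_Q (b.wr.V₂_le_Kk (M₂.e_mem _)), mem_centralizer_iff.2 fun q hq =>
      (mem_centralizer_iff.1 (b.wr.quarter_cent hq) _ (M₂.e_mem _)).symm⟩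
  obtain ⟨u, hud⟩ : ∃ u, u = g * M₂.e (Pi.single 0 1) * g⁻¹ := ⟨_, rfl⟩
  have huZ : u ∈ Z := by rw [hud]; exact hZn g hgN _ hv₂
  obtain ⟨r, hr'⟩ := hk
  have hr' : z ^ r = k := hr'
  have huZ' : s⁻¹ * u * s ∈ Z := by
    have := hZn _ (inv_mem (mem_C.2 hs)) u huZ
    rwa [inv_inv] at this
  obtain ⟨d, hdd⟩ : ∃ d, d = y ^ r * (s⁻¹ * u * s) * (y ^ r)⁻¹ * (s⁻¹ * u * s)⁻¹ := ⟨_, rfl⟩
  have hdD : d ∈ D := by
    rw [hdd]
    exact pow_act hyN hZn hDZ hyZ _ ⟨r, rfl⟩ _ huZ'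
  have hkd : k * u * k⁻¹ * u⁻¹ = s * d * s⁻¹ := by
    rw [← hr', hzd, conj_zpow, hdd]
    group
  have hkN : k ∈ centralizer ({M₁.e nn} : Set G) := by
    rw [← hr']; exact zpow_mem hzN r
  have hm' : g * M₂.e (Pi.single i 1 + Pi.single j 1) * g⁻¹ = s * d * s⁻¹ := by
    have h1 := hZc _ (hZn k hkN u huZ) _ hgk
    have e1 : g * M₂.e (Pi.single i 1 + Pi.single j 1) * g⁻¹ =
        (g * e * g⁻¹ * k⁻¹) * (k * u * k⁻¹) * (g * e * g⁻¹ * k⁻¹)⁻¹ * u⁻¹ := by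
      rw [← hei, hud]; group
    rw [e1, h1, mul_inv_cancel_right, hkd]
  have hd1 : d ≠ 1 := by
    rintro rfl
    have h1 : M₂.e (Pi.single i 1 + Pi.single j 1) = 1 := by
      calc M₂.e (Pi.single i 1 + Pi.single j 1) = g⁻¹ * (g * M₂.e (Pi.single i 1 + Pi.single j 1) * g⁻¹) * g := by
            group
        _ = 1 := by rw [hm']; group
    exact single_ne i j hij ((M₂.ker _).1 h1)
  rw [hDd] at hdD
  obtain ⟨l, hlL, hlN, hdl⟩ := b.D_conj hdD hd1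
  -- `m' = p a p⁻¹`
  have hp : g⁻¹ * s * l * M₁.e aa * (g⁻¹ * s * l)⁻¹ = M₂.e (Pi.single i 1 + Pi.single j 1) := by
    calc g⁻¹ * s * l * M₁.e aa * (g⁻¹ * s * l)⁻¹ = g⁻¹ * (s * (l * M₁.e aa * l⁻¹) * s⁻¹) * g := by group
      _ = M₂.e (Pi.single i 1 + Pi.single j 1) := by rw [← hdl, ← hm']; group
  have hlv : l⁻¹ * v' * l ∈ V₁ := by
    have := (mem_normalizer_iff.1 (inv_mem (M₁.le_normalizer hlL)) v').1 hv'
    rwa [inv_inv] at this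
  have h1 : g⁻¹ * (s * v' * s⁻¹) * g ∈ Q (M₂.e (Pi.single i 1 + Pi.single j 1)) := by
    rw [← hp, ← mem_Q_conj]
    have e1 : (g⁻¹ * s * l)⁻¹ * (g⁻¹ * (s * v' * s⁻¹) * g) * (g⁻¹ * s * l) = l⁻¹ * v' * l := by group
    rw [e1]
    exact b.wr.Kka_le_Qa (b.wr.V₁_le_Kka hlv)
  have h2 := b.wr.quarter_duad hij h1
  have hw : s * v' * s⁻¹ ∈ Kk (M₁.e nn) := conj_Kk (by rw [hs, mul_inv_cancel_right]) (b.wr.V₁_le_Kk hv')
  have h3 : g⁻¹ * (s * v' * s⁻¹) * g ∈ Kk (M₁.e nn) := by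
    rw [Kk_conj_iff, mem_C.1 hgN, mul_inv_cancel_right]
    exact hw
  have h4 := (b.n_mem_Q_iff h3).2 h2
  rw [mem_Q_conj, hXa g hg, mul_inv_cancel_right] at h4
  exact hm ((b.n_mem_Q_iff hw).1 h4)

end CH

end Cfsg.Agent.Omega.IId.LFour
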