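import Cfsg.Agent.Omega.IId.LFour.TriP
import Cfsg.Agent.Omega.IId.Parity

/-!
# There is no triangle, `V_P` a sum of two even-subset modules of degree 5 (helper774)

`w : Wr S P M₁ M₂`: `S₁ = N_S(V₁)` contains a Sylow 2-subgroup of `C_G(σ₁)` (`Wr.no_tri`).  Parity: in
`F = C_G(σ₁σ₂)` the orbit of `σ₁` is invariant under multiplication with `σ₁σ₂`, and for `t ∈ N_G(S₁) ∩ C(σ₁)`
with `σ₂^t = σ₁σ₂` the five elements `t σᵢ t⁻¹` (`σᵢ` the five singular vectors of `V₁`) belong to it, have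
product 1 and are permuted by `S₁`.
-/

set_option autoImplicit false
set_option linter.unusedSectionVars false

namespace Cfsg.Agent.Omega.IId.LFour

open Subgroup Pointwise Cfsg Cfsg.Agent.Omega.MinPar Cfsg.Agent.Omega.FFThm
open Cfsg.Agent.ZN (o2 zc jj zj zl zc_map)
open Cfsg.Agent.ZN.ChoiceBase (cj mem_cj)
open Cfsg.Agent.ZN.ChoiceSit (exists_syl syl_not_dvd)
open Cfsg.Agent.Omega.S5.Mod Cfsg.Agent.Omega.S5.TT
open Cfsg.Agent.Omega.S5.TT.Pos (na ns as sn n_ne s_ne a_ne n_ne_a n_ne_s a_ne_s e_sq' mem_C)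
open Cfsg.Agent.MinSimple.VModule (mem_zc zc_le zc_comm zc_sq zc_le_zl le_normalizer_o2 o2_isPGroup o2_le
  normalizer_le_normalizer_zc le_normalizer_zl zl_le le_o2 le_centralizer_zc)
open Cfsg.Agent.Omega.FrameNOFF (CZ)

universe u

variable {G : Type u} [Group G]

theorem ss_eq : (ss : Vec) = Pi.single 4 1 := by decide

theorem sum_single : (Pi.single 0 1 + Pi.single 1 1 + Pi.single 2 1 + Pi.single 3 1 + Pi.single 4 1 : Vec) = 1 := by
  decide

namespace Wr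

variable {S : Sylow 2 G} {P V₁ V₂ L₁ L₂ : Subgroup G} {M₁ : FiveMod V₁ L₁} {M₂ : FiveMod V₂ L₂}

/-- **No triangle.** `N_S(V₁)` contains a Sylow 2-subgroup of `C_G(σ₁)`. -/
theorem no_tri [Finite G] (w : Wr S P M₁ M₂) :
    ¬ 2 ∣ ((S : Subgroup G) ⊓ normalizer (V₁ : Set G)).relIndex (centralizer ({M₁.e ss} : Set G)) := by
  intro htri
  obtain ⟨t, htn, htc, htw⟩ := w.exists_tri htri
  obtain ⟨s, hs, p, q, hsw⟩ := w.swap
  have hs1 := w.sw_ss w.S_le hs hsw
  set S₁ := (S : Subgroup G) ⊓ normalizer (V₁ : Set G) with hS₁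
  have hSF : (S : Subgroup G) ≤ CZ (S : Subgroup G) := le_centralizer_zc _
  have htc' : t⁻¹ * M₁.e ss * t = M₁.e ss := by rw [mul_assoc, ← htc]; group
  have hidx : ¬ 4 ∣ S₁.relIndex (CZ (S : Subgroup G)) := by
    have h1 := Subgroup.relIndex_mul_relIndex S₁ (S : Subgroup G) (CZ (S : Subgroup G)) inf_le_left hSF
    have h2 : S₁.relIndex (S : Subgroup G) = 2 := by
      have h3 := card_mul_relIndex (inf_le_left : S₁ ≤ (S : Subgroup G))
      rw [w.card_S₁, mul_comm 2] at h3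
      exact Nat.eq_of_mul_eq_mul_left Nat.card_pos h3
    have h3 : ¬ 2 ∣ (S : Subgroup G).relIndex (CZ (S : Subgroup G)) := by
      intro h4
      exact S.not_dvd_index (h4.trans (Subgroup.relIndex_dvd_index_of_le hSF))
    rw [← h1, h2]
    intro h4
    apply h3
    obtain ⟨k, hk⟩ := h4
    exact ⟨k, by omega⟩
  have hFU : CZ (S : Subgroup G) ≤ normalizer (zc (o2 (CZ (S : Subgroup G))) : Set G) :=
    (le_normalizer_o2 _).trans (normalizer_le_normalizer_zc _)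
  set g : Fin 5 → G := fun i => t * M₁.e (Pi.single i 1) * t⁻¹ with hg
  have ginj : Function.Injective g := by
    intro i j h
    have h1 : M₁.e (Pi.single i 1) = M₁.e (Pi.single j 1) := mul_left_cancel (mul_right_cancel h)
    exact FiveMod.single_inj _ _ (M₁.e_eq_iff.1 h1)
  refine Parity.false_of_list (F := CZ (S : Subgroup G)) (U := zc (o2 (CZ (S : Subgroup G)))) (T := S₁)
    (v := M₁.e ss) (z := M₁.e ss * M₂.e ss) (s := s) (L := (List.finRange 5).map g)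
    (fun a ha b hb => zc_comm _ a ha b hb) ?_ (fun f hf u hu => (mem_normalizer_iff.1 (hFU hf) u).1 hu)
    (w.zc_le_zc htri w.s₁_mem) w.z_ne (fun f hf => w.mem_CZ.1 hf) hidx (hSF hs) ?_
    ((List.nodup_finRange 5).map ginj) ?_ ?_ ?_ ?_
  · intro a ha
    rw [← pow_two]
    exact (mem_zc.1 ha).2.2
  · rw [hs1, ← mul_assoc, M₁.e_sq, one_mul]
  · rw [List.length_map, List.length_finRange]; decide
  · have h1 : (List.finRange 5).map g = [g 0, g 1, g 2, g 3, g 4] := rfl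
    rw [h1]
    simp only [List.prod_cons, List.prod_nil, mul_one, hg]
    have h2 : M₁.e (Pi.single 0 1) * M₁.e (Pi.single 1 1) * M₁.e (Pi.single 2 1) * M₁.e (Pi.single 3 1) *
        M₁.e (Pi.single 4 1) = 1 := by
      rw [← M₁.e_add, ← M₁.e_add, ← M₁.e_add, ← M₁.e_add, sum_single, M₁.e_one]
    calc _ = t * (M₁.e (Pi.single 0 1) * M₁.e (Pi.single 1 1) * M₁.e (Pi.single 2 1) *
          M₁.e (Pi.single 3 1) * M₁.e (Pi.single 4 1)) * t⁻¹ := by group
      _ = 1 := by rw [h2]; group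
  · intro x hx
    obtain ⟨i, -, rfl⟩ := List.mem_map.1 hx
    obtain ⟨l, hl, hi⟩ := M₁.exists_lift (Equiv.swap 4 i)
    refine ⟨t * l * t⁻¹, w.mem_CZ.2 ?_, ?_⟩
    · have h1 := w.L₁_comm hl (M₂.e_mem ss)
      rw [← htw]
      calc t * l * t⁻¹ * (t * M₂.e ss * t⁻¹) = t * (l * M₂.e ss) * t⁻¹ := by group
        _ = t * M₂.e ss * t⁻¹ * (t * l * t⁻¹) := by rw [h1]; group
    · calc t * l * t⁻¹ * M₁.e ss * (t * l * t⁻¹)⁻¹ = t * (l * (t⁻¹ * M₁.e ss * t) * l⁻¹) * t⁻¹ := by group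
        _ = g i := by rw [htc', hi, ss_eq, FiveMod.single_comp, Equiv.swap_apply_left]
  · intro x hx y hy
    obtain ⟨i, -, rfl⟩ := List.mem_map.1 hy
    have h1 : t⁻¹ * x * t ∈ S₁ := by
      have h2 := (mem_normalizer_iff.1 (inv_mem htn) x).1 hx
      rwa [inv_inv] at h2
    obtain ⟨p', q', hp', -⟩ := w.S₁_ind h1
    refine List.mem_map.2 ⟨p' i, List.mem_finRange _, ?_⟩
    have h2 := hp' (Pi.single i 1)
    rw [FiveMod.single_comp] at h2
    show t * M₁.e (Pi.single (p' i) 1) * t⁻¹ = x * (t * M₁.e (Pi.single i 1) * t⁻¹) * x⁻¹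
    rw [← h2]; group

/-- `S₁` is a Sylow 2-subgroup of `C_G(σ₂)`, too. -/
theorem no_tri' [Finite G] (w : Wr S P M₁ M₂) :
    ¬ 2 ∣ ((S : Subgroup G) ⊓ normalizer (V₂ : Set G)).relIndex (centralizer ({M₂.e ss} : Set G)) :=
  w.symm.no_tri

end Wr

end Cfsg.Agent.Omega.IId.LFour
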