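import Cfsg.Agent.Omega.IId.LFour.CEnd
import Cfsg.Agent.Omega.IId.LFour.NoTri

/-!
# (C) of #14703 (II.d L4, `S₅ wr 2`), final form (helper430)

* `Wr.ch` : the hypotheses `CH` from `U_n ≤ O₂(C(a))` and one non-commuting pair `V₁`, `V₁ ^ s`, `s ∈ C(n)`
  (no triangle: `Wr.no_tri`);
* `Wr.comm_of_UU_le` : `m_3(G) ≤ 2`, `U_n ≤ O₂(C(a))`: `V₁` commutes with `V₁ ^ s` for every `s ∈ C(n)`.
-/

set_option autoImplicit false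
set_option linter.unusedSectionVars false

namespace Cfsg.Agent.Omega.IId.LFour

open Subgroup Pointwise Cfsg Cfsg.Agent.ZN Cfsg.Agent.Omega.MinPar
open Cfsg.Agent.Omega.S5.Mod Cfsg.Agent.Omega.S5.TT
open Cfsg.Agent.Omega.IId.One (Kk mem_Kk Kk_conj conj_Kk)
open Cfsg.Agent.Omega.TTn (UU Q)

universe u

variable {G : Type u} [Group G] [Finite G] {S : Sylow 2 G} {P V₁ V₂ L₁ L₂ : Subgroup G} {M₁ : FiveMod V₁ L₁}
  {M₂ : FiveMod V₂ L₂}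

/-- a non-commuting pair gives an element of `K_n` which moves `V₁` -/
theorem Wr.exists_kk (wr : Wr S P M₁ M₂) {s v v' : G} (hs : s * M₁.e nn = M₁.e nn * s) (hv : v ∈ V₁)
    (hv' : v' ∈ V₁) (hne : v * (s * v' * s⁻¹) ≠ s * v' * s⁻¹ * v) :
    ∃ k ∈ Kk (M₁.e nn), M₁.Ind k (Equiv.swap 0 1) := by
  have hk : s * v' * s⁻¹ ∈ Kk (M₁.e nn) := conj_Kk (by rw [hs, mul_inv_cancel_right]) (wr.V₁_le_Kk hv')
  refine ⟨_, hk, ?_⟩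
  rcases wr.Kk_ind hk with hi | hi
  · exact absurd (mem_centralizer_iff.1 (FiveMod.ind_one_iff.1 hi) v hv) hne
  · exact hi

theorem Wr.ch (wr : Wr S P M₁ M₂) (hU : UU (M₁.e nn) (M₁.e aa) ≤ Q (M₁.e aa))
    (ex : ∃ k ∈ Kk (M₁.e nn), M₁.Ind k (Equiv.swap 0 1)) : CH S P M₁ M₂ :=
  ⟨wr, ⟨fun _ hg => Pos.mem_C.2 (wr.S₁_comm_s₁ hg), S.isPGroup'.to_le inf_le_left, wr.no_tri⟩, ex, hU⟩

/-- **(C) of #14703**: `m_3(G) ≤ 2`, `U_n ≤ O₂(C(a))`: the `C(n)`-conjugates of `V₁` commute with `V₁`. -/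
theorem Wr.comm_of_UU_le (wr : Wr S P M₁ M₂) (hr : PRankLE 3 2 G)
    (hU : UU (M₁.e nn) (M₁.e aa) ≤ Q (M₁.e aa)) {s : G} (hs : s * M₁.e nn = M₁.e nn * s) :
    ∀ v ∈ V₁, ∀ v' ∈ V₁, v * (s * v' * s⁻¹) = s * v' * s⁻¹ * v := by
  intro v hv v' hv'
  by_contra hne
  exact (wr.ch hU (wr.exists_kk hs hv hv' hne)).false_of_rank hr hs hv hv' hne

end Cfsg.Agent.Omega.IId.LFour
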