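import Cfsg.Agent.Omega.IId.LFour.CBase

/-!
# (C) of #14703 (II.d L4, `S₅ wr 2`), second part: `E ≤ O₂(C(n))`, characters (helper430)

`CH w`: no triangle, `K_n` moves `V₁`, `U_n ≤ O₂(C(a))`; `E = ⟨V₁ ^ C(σ)⟩`.
* `CH.E_le_Q` : `E ≤ O₂(C(n))` (components of `a ^ C(n)`, `CAbs.comm_all'`); `CH.calcM` : `Calc.Dat` on `E`;
* `CH.a_mem_Q_iff`, `CH.n_mem_Q_iff` : `K_a ∩ Q_n = C(V₁)`, `K_n ∩ Q_a = C(V₁)`;
* `CH.chi` : the data of `ChiConst`; `CH.same` : the characters of `K_n` are constant along edges.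
-/

set_option autoImplicit false
set_option linter.unusedSectionVars false

namespace Cfsg.Agent.Omega.IId.LFour

open Subgroup Pointwise Cfsg Cfsg.Agent.ZN Cfsg.Agent.Omega.MinPar
open Cfsg.Agent.ZN.ChoiceBase (cj mem_cj mem_normalizer_of_cj_le)
open Cfsg.Agent.Omega.S5.Mod Cfsg.Agent.Omega.S5.TT
open Cfsg.Agent.Omega.S5.TT.Pos (na ns as sn n_ne s_ne a_ne n_ne_a n_ne_s a_ne_s e_sq' mem_C)
open Cfsg.Agent.MinSimple.VModule (o2_isPGroup le_o2 o2_le le_normalizer_o2 mem_zc zc_le zc_comm)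
open Cfsg.Agent.Omega.TwoFFour (Syl2)
open Cfsg.Agent.Omega.IId.One (Kk mem_Kk Kk_conj conj_Kk)
open Cfsg.Agent.Omega.S5.ChiConst (cls)
open Cfsg.Agent.Omega.TTn (WW UU mem_WW₁ le_WW₁ WW_le WW_norm self_mem_UU mem_UU mem_UU_self UU_le UU_norm Q)
open Cfsg.Agent.Omega.TTn.Base (rel_nn rel_aa rel_ss)
open Cfsg.Agent.Omega.TTn.Calc (conj_eq_iff comm_conj_iff)
open Cfsg.Agent.Omega.TTn.BZero (Adj cls_conj a_cls conj_b)

universe u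

variable {G : Type u} [Group G]

/-- `{0}` -/
def oo : Vec := ![1, 0, 0, 0, 0]

theorem inv_comm {g x : G} (hg : g * x = x * g) : g⁻¹ * x = x * g⁻¹ := by
  rw [inv_mul_eq_iff_eq_mul, ← mul_assoc, hg, mul_inv_cancel_right]

theorem comm_conj' {g w u : G} (h0 : g⁻¹ * w * g * u = u * (g⁻¹ * w * g)) :
    w * (g * u * g⁻¹) = g * u * g⁻¹ * w := by
  calc w * (g * u * g⁻¹) = g * (g⁻¹ * w * g * u) * g⁻¹ := by group
    _ = g * u * g⁻¹ * w := by rw [h0]; group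

theorem cent_conj_iff {V : Subgroup G} {g y : G} (hg : g ∈ normalizer (V : Set G)) :
    g⁻¹ * y * g ∈ centralizer (V : Set G) ↔ y ∈ centralizer (V : Set G) := by
  have key : ∀ g ∈ normalizer (V : Set G), ∀ y ∈ centralizer (V : Set G),
      g⁻¹ * y * g ∈ centralizer (V : Set G) := by
    intro g hg y hy
    rw [mem_centralizer_iff] at hy ⊢
    intro v hv
    have h4 := hy _ ((mem_normalizer_iff.1 hg v).1 hv)
    calc v * (g⁻¹ * y * g) = g⁻¹ * (g * v * g⁻¹ * y) * g := by group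
      _ = g⁻¹ * (y * (g * v * g⁻¹)) * g := by rw [h4]
      _ = g⁻¹ * y * g * v := by group
  constructor
  · intro h1
    have h2 := key g⁻¹ (inv_mem hg) _ h1
    have e : g⁻¹⁻¹ * (g⁻¹ * y * g) * g⁻¹ = y := by group
    rwa [e] at h2
  · exact key g hg y

/-- The hypotheses of (C). -/
structure CH [Finite G] (S : Sylow 2 G) (P : Subgroup G) {V₁ V₂ L₁ L₂ : Subgroup G} (M₁ : FiveMod V₁ L₁)
    (M₂ : FiveMod V₂ L₂) : Prop where
  wr : Wr S P M₁ M₂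
  /-- no triangle -/
  nt : Syl2 ((S : Subgroup G) ⊓ normalizer (V₁ : Set G)) (centralizer ({M₁.e ss} : Set G))
  /-- `K_n` moves `V₁` -/
  ex : ∃ k ∈ Kk (M₁.e nn), M₁.Ind k (Equiv.swap 0 1)
  hU : UU (M₁.e nn) (M₁.e aa) ≤ Q (M₁.e aa)

namespace CH

variable [Finite G] {S : Sylow 2 G} {P V₁ V₂ L₁ L₂ : Subgroup G} {M₁ : FiveMod V₁ L₁} {M₂ : FiveMod V₂ L₂}
  (b : CH S P M₁ M₂)
include b

/-! ### The element `x` -/

theorem exists_x : ∃ x ∈ L₁, M₁.Ind x tt ∧ x * M₁.e nn * x⁻¹ = M₁.e aa ∧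
    x * M₁.e aa * x⁻¹ = M₁.e nn ∧ x * M₁.e ss = M₁.e ss * x := by
  obtain ⟨x, hx, hi⟩ := b.wr.exists_x
  exact ⟨x, hx.2, hi, Wr.tt_n hi, Wr.tt_a hi, (hi.commute_iff _).2 (Or.inl (by decide))⟩

theorem exa : ∃ k ∈ Kk (M₁.e aa), M₁.Ind k (Equiv.swap 2 3) := by
  obtain ⟨x, hxL, hi, h1, h2, h3⟩ := b.exists_x
  obtain ⟨k, hk, hki⟩ := b.ex
  refine ⟨x * k * x⁻¹, conj_Kk h1 hk, ?_⟩
  have := (hi.mul hki).mul hi.inv
  rwa [show tt * Equiv.swap 0 1 * tt⁻¹ = Equiv.swap 2 3 by decide] at this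

omit b in
theorem exists_ab : ∃ g, g ∈ centralizer ({M₁.e nn} : Set G) ∧ g ∈ L₁ ∧ M₁.Ind g (Equiv.swap 2 4) ∧
    M₁.e bb = g * M₁.e aa * g⁻¹ := by
  obtain ⟨g, hgL, hg⟩ := M₁.exists_lift (Equiv.swap 2 4)
  have hg : M₁.Ind g (Equiv.swap 2 4) := hg
  refine ⟨g, mem_C.2 ((hg.commute_iff _).2 (Or.inl (by decide))), hgL, hg, ?_⟩
  rw [hg aa, M₁.e_eq_iff]
  left
  decide

omit b in
theorem exists_ac : ∃ g, g ∈ centralizer ({M₁.e nn} : Set G) ∧ g ∈ L₁ ∧ M₁.Ind g (Equiv.swap 3 4) ∧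
    M₁.e aa * M₁.e bb = g * M₁.e aa * g⁻¹ := by
  obtain ⟨g, hgL, hg⟩ := M₁.exists_lift (Equiv.swap 3 4)
  have hg : M₁.Ind g (Equiv.swap 3 4) := hg
  refine ⟨g, mem_C.2 ((hg.commute_iff _).2 (Or.inl (by decide))), hgL, hg, ?_⟩
  rw [hg aa, ← M₁.e_add, M₁.e_eq_iff]
  left
  decide

omit b in
theorem bA : M₁.e bb ∈ cls (centralizer ({M₁.e nn} : Set G)) (M₁.e aa) := by
  obtain ⟨g, hg, -, -, h⟩ := exists_ab (M₁ := M₁)
  exact ⟨g, hg, h⟩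

theorem mov : Adj Kk (M₁.e aa) (M₁.e bb) := by
  obtain ⟨k, hk, hki⟩ := b.exa
  refine ⟨k, hk, ?_⟩
  rw [Ne, hki.commute_iff]
  decide

/-! ### `E = ⟨V₁ ^ C(σ)⟩` -/

omit b in
theorem comm_s_of {y : G} (h1 : y * M₁.e nn = M₁.e nn * y) (h2 : y * M₁.e aa = M₁.e aa * y) :
    y * M₁.e ss = M₁.e ss * y := by
  rw [← na M₁, ← mul_assoc, h1, mul_assoc, h2, ← mul_assoc]

theorem E_comm {u v : G} (hu : u ∈ WW V₁ V₁ (M₁.e ss)) (hv : v ∈ WW V₁ V₁ (M₁.e ss)) : u * v = v * u := by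
  have key : ∀ g, g * M₁.e ss = M₁.e ss * g → ∀ k, k * M₁.e ss = M₁.e ss * k → ∀ v ∈ V₁, ∀ w ∈ V₁,
      g * v * g⁻¹ * (k * w * k⁻¹) = k * w * k⁻¹ * (g * v * g⁻¹) := by
    intro g hg k hk v hv w hw
    have h1 : g⁻¹ * k * M₁.e ss = M₁.e ss * (g⁻¹ * k) := by
      rw [mul_assoc, hk, ← mul_assoc, inv_comm hg, mul_assoc]
    have h2 := b.wr.comm_Ds b.nt (mem_C.2 h1) hv hw
    calc g * v * g⁻¹ * (k * w * k⁻¹) = g * (v * ((g⁻¹ * k) * w * (g⁻¹ * k)⁻¹)) * g⁻¹ := by group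
      _ = g * (((g⁻¹ * k) * w * (g⁻¹ * k)⁻¹) * v) * g⁻¹ := by rw [h2]
      _ = k * w * k⁻¹ * (g * v * g⁻¹) := by group
  have h1 : WW V₁ V₁ (M₁.e ss) ≤ centralizer ({u} : Set G) := by
    have h2 : ∀ g, g * M₁.e ss = M₁.e ss * g → ∀ v ∈ V₁, g * v * g⁻¹ ∈ centralizer ({u} : Set G) := by
      intro g hg v hv
      have h3 : WW V₁ V₁ (M₁.e ss) ≤ centralizer ({g * v * g⁻¹} : Set G) := by
        have h4 : ∀ k, k * M₁.e ss = M₁.e ss * k → ∀ w ∈ V₁, k * w * k⁻¹ ∈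
            centralizer ({g * v * g⁻¹} : Set G) := fun k hk w hw => mem_C.2 (key k hk g hg w hw v hv)
        exact WW_le h4 h4
      exact mem_C.2 (mem_C.1 (h3 hu)).symm
    exact WW_le h2 h2
  exact (mem_C.1 (h1 hv)).symm

theorem E_sq {u : G} (hu : u ∈ WW V₁ V₁ (M₁.e ss)) : u * u = 1 := by
  induction hu using closure_induction with
  | mem x hx =>
    obtain ⟨g, -, v, hv, rfl⟩ := hx
    have hv : v ∈ V₁ := hv.elim id id
    calc g * v * g⁻¹ * (g * v * g⁻¹) = g * (v * v) * g⁻¹ := by group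
      _ = 1 := by rw [M₁.sq hv]; group
  | one => exact one_mul 1
  | mul x y hx hy h1 h2 =>
    have h3 : x * y = y * x := b.E_comm hx hy
    calc x * y * (x * y) = x * (y * x) * y := by group
      _ = (x * x) * (y * y) := by rw [← h3]; group
      _ = 1 := by rw [h1, h2, one_mul]
  | inv x _ h1 => rw [← mul_inv_rev, h1, inv_one]

theorem E_isPGroup : IsPGroup 2 (WW V₁ V₁ (M₁.e ss)) := by
  rintro ⟨v, hv⟩
  refine ⟨1, Subtype.ext ?_⟩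
  change v ^ (2 ^ 1) = 1
  rw [pow_one, pow_two]
  exact b.E_sq hv

theorem E_comm_V {u v : G} (hu : u ∈ WW V₁ V₁ (M₁.e ss)) (hv : v ∈ V₁) : u * v = v * u :=
  b.E_comm hu (le_WW₁ V₁ V₁ _ hv)

/-- **`E ≤ O₂(C(n))`** -/
theorem E_le_Q : WW V₁ V₁ (M₁.e ss) ≤ Q (M₁.e nn) := by
  have hEN : WW V₁ V₁ (M₁.e ss) ≤ centralizer ({M₁.e nn} : Set G) := fun u hu =>
    mem_C.2 (b.E_comm_V hu (M₁.e_mem nn))
  have hK := CAbs.comm_all' (b.wr.calcN b.hU) bA b.mov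
    (fun q hq u hu => (b.wr.UU_comm_Q hu hq).symm) b.wr.Kk_faithful (K := WW V₁ V₁ (M₁.e ss)) hEN
    b.E_isPGroup (fun y hy hya k hk => WW_norm (comm_s_of (mem_C.1 hy) hya) hk)
    (fun k hk => b.E_comm_V hk (M₁.e_mem aa)) (fun k hk => b.E_comm_V hk (M₁.e_mem bb))
  have h1 : WW V₁ V₁ (M₁.e ss) ≤ centralizer (UU (M₁.e nn) (M₁.e aa) : Set G) := by
    intro k hk
    rw [mem_centralizer_iff]
    have h2 : UU (M₁.e nn) (M₁.e aa) ≤ centralizer ({k} : Set G) :=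
      UU_le (hEN hk |> mem_C.1 |>.symm |> mem_C.2)
        fun g hg => mem_C.2 (hK k hk _ ⟨g, mem_C.2 hg, rfl⟩).symm
    exact fun u hu => mem_C.1 (h2 hu)
  have h2 : WW V₁ V₁ (M₁.e ss) ≤ o2 (centralizer (UU (M₁.e nn) (M₁.e aa) : Set G)) := by
    refine le_o2 h1 b.E_isPGroup ?_
    intro x hx
    have hx' := mem_inf.1 (Wr.centralizer_UU_le hx)
    have hxs := comm_s_of (mem_C.1 hx'.1) (mem_C.1 hx'.2)
    refine mem_normalizer_of_cj_le ?_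
    rintro _ ⟨w, hw, rfl⟩
    exact WW_norm hxs hw
  exact h2.trans Wr.o2_centralizer_UU_le

/-! ### The calculus on `E` -/

theorem Kkn_comm_s {w : G} (hw : w ∈ Kk (M₁.e nn)) : w * M₁.e ss = M₁.e ss * w :=
  b.wr.T_comm_s₁ (b.wr.Q_le_T (b.wr.Kk_le_Q hw))

/-- the calculus on `E = ⟨V₁ ^ C(σ)⟩` -/
theorem calcM : TTn.Calc.Dat (centralizer ({M₁.e ss} : Set G)) (WW V₁ V₁ (M₁.e ss))
      (cls (centralizer ({M₁.e ss} : Set G)) (M₁.e nn)) Kk where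
  comm u hu v hv := b.E_comm hu hv
  sq u hu := b.E_sq hu
  norm g hg u hu := WW_norm (mem_C.1 hg) hu
  OmA := by
    rintro _ ⟨g, hg, rfl⟩
    exact mem_WW₁ (mem_C.1 hg) (M₁.e_mem _)
  OmX := fun g hg c hc => cls_conj hc hg
  trans := by
    rintro _ ⟨g, hg, rfl⟩ _ ⟨k, hk, rfl⟩
    exact ⟨k * g⁻¹, mul_mem hk (inv_mem hg), by group⟩
  WX := by
    rintro _ ⟨g, hg, rfl⟩ w hw
    rw [← Kk_conj_iff] at hw
    have h1 := mem_C.2 (b.Kkn_comm_s hw)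
    have h2 := mul_mem (mul_mem hg h1) (inv_mem hg)
    have e : g * (g⁻¹ * w * g) * g⁻¹ = w := by group
    rwa [e] at h2
  eqv g hg c hc w hw := conj_Kk rfl hw
  cen := fun c hc w hw => mem_C.1 hw.1
  act := by
    rintro _ ⟨g, hg, rfl⟩ w hw u hu
    rw [← Kk_conj_iff] at hw
    have h1 : g⁻¹ * u * g ∈ WW V₁ V₁ (M₁.e ss) := by
      have := WW_norm (mem_C.1 (inv_mem hg)) hu
      rwa [inv_inv] at this
    rcases b.wr.Kkn_act hw (b.E_le_Q h1) with h2 | h2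
    · left
      calc w * u * w⁻¹ = g * (g⁻¹ * w * g * (g⁻¹ * u * g) * (g⁻¹ * w * g)⁻¹) * g⁻¹ := by group
        _ = u := by rw [h2]; group
    · right
      calc w * u * w⁻¹ = g * (g⁻¹ * w * g * (g⁻¹ * u * g) * (g⁻¹ * w * g)⁻¹) * g⁻¹ := by group
        _ = u * (g * M₁.e nn * g⁻¹) := by rw [h2]; group

/-! ### (1) -/

omit b in
theorem ee_mem : M₁.e ee ∈ cls (centralizer ({M₁.e ss} : Set G)) (M₁.e nn) := by
  obtain ⟨g, -, hg⟩ := M₁.exists_lift (Equiv.swap 1 2)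
  have hg : M₁.Ind g (Equiv.swap 1 2) := hg
  refine ⟨g, mem_C.2 ((hg.commute_iff _).2 (Or.inl (by decide))), ?_⟩
  rw [hg nn, M₁.e_eq_iff]
  left
  decide

theorem n_cent_iff {w : G} (hw : w ∈ Kk (M₁.e nn)) : w ∈ centralizer (V₁ : Set G) ↔
    w * M₁.e ee = M₁.e ee * w := by
  rcases b.wr.Kk_ind hw with hi | hi
  · rw [hi.commute_iff, ← FiveMod.ind_one_iff (M := M₁)]
    exact ⟨fun _ => by decide, fun _ => hi⟩
  · rw [hi.commute_iff, ← FiveMod.ind_one_iff (M := M₁)]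
    constructor
    · intro h1
      exact absurd (FiveMod.Ind.unique h1 hi) (by decide)
    · intro h1
      exact absurd h1 (by decide)

theorem a_cent_iff_of {w : G} (hw : w ∈ Kk (M₁.e aa)) {y : Vec}
    (hy : ¬ (y ∘ (Equiv.swap 2 3 : Equiv.Perm (Fin 5)).symm = y ∨
      y ∘ (Equiv.swap 2 3 : Equiv.Perm (Fin 5)).symm = y + 1)) : w ∈ centralizer (V₁ : Set G) ↔
    w * M₁.e y = M₁.e y * w := by
  rcases b.wr.Qa_ind (b.wr.Kka_le_Qa hw) with hi | hi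
  · rw [hi.commute_iff, ← FiveMod.ind_one_iff (M := M₁)]
    exact ⟨fun _ => Or.inl rfl, fun _ => hi⟩
  · rw [hi.commute_iff, ← FiveMod.ind_one_iff (M := M₁)]
    constructor
    · intro h1
      exact absurd (FiveMod.Ind.unique h1 hi) (by decide)
    · intro h1
      exact absurd h1 hy

theorem a_cent_iff {w : G} (hw : w ∈ Kk (M₁.e aa)) : w ∈ centralizer (V₁ : Set G) ↔
    w * M₁.e bb = M₁.e bb * w := b.a_cent_iff_of hw (by decide)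

theorem a_cent_iff_ee {w : G} (hw : w ∈ Kk (M₁.e aa)) : w ∈ centralizer (V₁ : Set G) ↔
    w * M₁.e ee = M₁.e ee * w := b.a_cent_iff_of hw (by decide)

/-- **(1)** `C_{K_n}(V₁) = C_{K_n}(n ^ C(σ))` -/
theorem one_n {w : G} (hw : w ∈ Kk (M₁.e nn)) (h1 : w ∈ centralizer (V₁ : Set G)) :
    ∀ d ∈ cls (centralizer ({M₁.e ss} : Set G)) (M₁.e nn), w * d = d * w := by
  have hcal := b.calcM
  have hna : M₁.e nn ∈ cls (centralizer ({M₁.e ss} : Set G)) (M₁.e nn) := ⟨1, one_mem _, by group⟩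
  obtain ⟨x, -, hx, hx1, -, hx3⟩ := b.exists_x
  obtain ⟨k, hk, hki⟩ := b.ex
  refine hcal.all (s := M₁.e ss) hna (le_WW₁ V₁ V₁ _ (M₁.e_mem _)) ?_ ?_ ?_ (ee_mem (M₁ := M₁)) ?_ w hw
    ((b.n_cent_iff hw).1 h1)
  · rintro _ ⟨g, hg, rfl⟩
    refine ⟨g * x, mul_mem hg (mem_C.2 hx3), ?_⟩
    have e : g * x * M₁.e nn * (g * x)⁻¹ = g * (x * M₁.e nn * x⁻¹) * g⁻¹ := by group
    rw [e, hx1, ← ns M₁]
    have e2 : g * (M₁.e nn * M₁.e ss) * g⁻¹ = g * M₁.e nn * g⁻¹ * (g * M₁.e ss * g⁻¹) := by group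
    rw [e2, mem_C.1 hg, mul_inv_cancel_right]
  · intro c hc v hv
    exact mem_C.1 (hcal.WX c hc v hv)
  · refine ⟨k, hk, fun k' hk' => ⟨M₁.e oo, le_WW₁ V₁ V₁ _ (M₁.e_mem _), ?_⟩⟩
    rw [ns M₁] at hk'
    rw [hki.commute_iff]
    rcases b.wr.Qa_ind (b.wr.Kka_le_Qa hk') with hi | hi
    · rw [hi.commute_iff]; decide
    · rw [hi.commute_iff]; decide
  · refine ⟨k, hk, ?_⟩
    rw [Ne, hki.commute_iff]
    decide

/-- **(1)** for `a` -/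
theorem one_a {w : G} (hw : w ∈ Kk (M₁.e aa)) : w ∈ centralizer (V₁ : Set G) ↔
    ∀ d ∈ cls (centralizer ({M₁.e ss} : Set G)) (M₁.e nn), w * d = d * w := by
  constructor
  · intro h1 d hd
    obtain ⟨x, hxL, hx, hx1, hx2, hx3⟩ := b.exists_x
    have h2 : x⁻¹ * w * x ∈ Kk (M₁.e nn) := by
      rw [Kk_conj_iff, hx1]; exact hw
    have h3 : x⁻¹ * w * x ∈ centralizer (V₁ : Set G) := (cent_conj_iff hx.mem_normalizer).2 h1
    obtain ⟨g, hg, rfl⟩ := hd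
    have h4 := b.one_n h2 h3 (x⁻¹ * g * M₁.e nn * (x⁻¹ * g)⁻¹)
      ⟨x⁻¹ * g, mul_mem (inv_mem (mem_C.2 hx3)) hg, rfl⟩
    have h5 := comm_conj' h4
    have e : x * (x⁻¹ * g * M₁.e nn * (x⁻¹ * g)⁻¹) * x⁻¹ = g * M₁.e nn * g⁻¹ := by group
    rwa [e] at h5
  · intro h1
    exact (b.a_cent_iff_ee hw).2 (h1 _ ee_mem)

/-! ### (A8) and its consequences -/

/-- (A8) -/
theorem eight : ∀ d ∈ cls (centralizer ({M₁.e nn} : Set G)) (M₁.e aa),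
      (∃ w ∈ Kk (M₁.e aa), w * d ≠ d * w) → ∀ w ∈ Kk (M₁.e aa),
        (w * d = d * w ↔ w * M₁.e bb = M₁.e bb * w) := by
  intro d hd hj w hw
  obtain ⟨y, hy, hya, rfl⟩ := conj_b (b.wr.calcN b.hU) bA b.mov hd hj
  have hys := comm_s_of (mem_C.1 hy) hya
  have hw' : y⁻¹ * w * y ∈ Kk (M₁.e aa) := by
    rw [Kk_conj_iff, hya, mul_inv_cancel_right]
    exact hw
  have h1 : w * (y * M₁.e bb * y⁻¹) = y * M₁.e bb * y⁻¹ * w ↔
      y⁻¹ * w * y * M₁.e bb = M₁.e bb * (y⁻¹ * w * y) := by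
    have := comm_conj_iff (g := y⁻¹) (w := w) (u := M₁.e bb)
    rw [inv_inv] at this
    exact this.symm
  rw [h1, ← b.a_cent_iff hw', ← b.a_cent_iff hw, b.one_a hw', b.one_a hw]
  constructor
  · rintro h2 _ ⟨g, hg, rfl⟩
    have h3 := comm_conj' (h2 (y⁻¹ * g * M₁.e nn * (y⁻¹ * g)⁻¹)
      ⟨y⁻¹ * g, mul_mem (inv_mem (mem_C.2 hys)) hg, rfl⟩)
    have e : y * (y⁻¹ * g * M₁.e nn * (y⁻¹ * g)⁻¹) * y⁻¹ = g * M₁.e nn * g⁻¹ := by group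
    rwa [e] at h3
  · rintro h2 _ ⟨g, hg, rfl⟩
    have h3 := h2 (y * g * M₁.e nn * (y * g)⁻¹) ⟨y * g, mul_mem (mem_C.2 hys) hg, rfl⟩
    have h4 := (comm_conj_iff (g := y⁻¹) (w := w) (u := g * M₁.e nn * g⁻¹)).2 (by
      rw [inv_inv]
      have e : y * (g * M₁.e nn * g⁻¹) * y⁻¹ = y * g * M₁.e nn * (y * g)⁻¹ := by group
      rw [e]
      exact h3)
    rwa [inv_inv] at h4

/-- `K_a ∩ Q_n = C_{K_a}(V₁)` -/
theorem a_mem_Q_iff {w : G} (hw : w ∈ Kk (M₁.e aa)) : w ∈ Q (M₁.e nn) ↔ w ∈ centralizer (V₁ : Set G) := by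
  rw [b.a_cent_iff hw]
  constructor
  · intro h1
    exact b.wr.perp_cent h1 (y := bb) (by decide)
  · intro h1
    refine b.wr.Kk_faithful _ a_cls w hw fun u hu => ?_
    have h2 : UU (M₁.e nn) (M₁.e aa) ≤ centralizer ({w} : Set G) := by
      refine UU_le (mem_C.2 (b.wr.Kka_comm_n hw).symm) fun g hg => mem_C.2 ?_
      by_cases h3 : w * (g * M₁.e aa * g⁻¹) = g * M₁.e aa * g⁻¹ * w
      · exact h3.symm
      · exact absurd ((b.eight _ ⟨g, mem_C.2 hg, rfl⟩ ⟨w, hw, h3⟩ w hw).2 h1) h3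
    exact (mem_C.1 (h2 hu)).symm

/-- `K_n ∩ Q_a = C_{K_n}(V₁)` -/
theorem n_mem_Q_iff {w : G} (hw : w ∈ Kk (M₁.e nn)) : w ∈ Q (M₁.e aa) ↔ w ∈ centralizer (V₁ : Set G) := by
  obtain ⟨x, hxL, hx, hx1, hx2, hx3⟩ := b.exists_x
  have e : x⁻¹ * (x * w * x⁻¹) * x = w := by group
  have h5 : x * w * x⁻¹ ∈ Kk (M₁.e aa) := conj_Kk hx1 hw
  have h6 := b.a_mem_Q_iff h5
  rw [← cent_conj_iff hx.mem_normalizer, e, ← hx2, ← mem_Q_conj, e] at h6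
  exact h6

theorem n_ind {w : G} (hw : w ∈ Kk (M₁.e nn)) (h1 : w ∉ centralizer (V₁ : Set G)) :
    M₁.Ind w (Equiv.swap 0 1) := by
  rcases b.wr.Kk_ind hw with hi | hi
  · exact absurd (FiveMod.ind_one_iff.1 hi) h1
  · exact hi

theorem a_ind {w : G} (hw : w ∈ Kk (M₁.e aa)) (h1 : w ∉ centralizer (V₁ : Set G)) :
    M₁.Ind w (Equiv.swap 2 3) := by
  rcases b.wr.Qa_ind (b.wr.Kka_le_Qa hw) with hi | hi
  · exact absurd (FiveMod.ind_one_iff.1 hi) h1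
  · exact hi

/-- `|K_a : K_a ∩ Q_n| = 2` -/
theorem a_mul_mem {w v : G} (hw : w ∈ Kk (M₁.e aa)) (hv : v ∈ Kk (M₁.e aa)) (h1 : w ∉ Q (M₁.e nn))
    (h2 : v ∉ Q (M₁.e nn)) : w * v ∈ Q (M₁.e nn) := by
  rw [b.a_mem_Q_iff hw] at h1
  rw [b.a_mem_Q_iff hv] at h2
  rw [b.a_mem_Q_iff (mul_mem hw hv)]
  have h3 := (b.a_ind hw h1).mul (b.a_ind hv h2)
  rw [Equiv.swap_mul_self] at h3
  exact FiveMod.ind_one_iff.1 h3

/-- the data of `ChiConst` -/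
theorem chi : Cfsg.Agent.Omega.S5.ChiConst.Dat (M₁.e nn) (M₁.e aa) (M₁.e bb) (centralizer ({M₁.e nn} : Set G))
      (UU (M₁.e nn) (M₁.e aa)) (Kk (M₁.e nn)) Kk Q where
  nN g hg := mem_C.1 hg
  UN g hg u hu := UU_norm (mem_C.1 hg) hu
  Ucomm u hu v hv := b.wr.UU_comm hu hv
  Usq u hu := b.wr.UU_sq hu
  nU := self_mem_UU _ _
  aU := mem_UU_self _ _
  WN g hg y hy := conj_Kk (by rw [mem_C.1 hg, mul_inv_cancel_right]) hy
  WfN w hw := mem_C.2 (b.wr.Kka_comm_n hw)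
  Wf_eqv g hg c hc w hw := conj_Kk rfl hw
  O_eqv g hg c hc y hy := by
    rw [← mem_Q_conj]
    have e : g⁻¹ * (g * y * g⁻¹) * g = y := by group
    rwa [e]
  act w hw u hu := (b.wr.calcN b.hU).act _ ⟨1, one_mem _, by group⟩ w hw u hu
  sym := (b.wr.calcN b.hU).sym
  idx y hy y' hy' h1 h2 := by
    rw [b.n_mem_Q_iff hy] at h1
    rw [b.n_mem_Q_iff hy'] at h2
    rw [b.n_mem_Q_iff (mul_mem hy hy')]
    have h3 := (b.n_ind hy h1).mul (b.n_ind hy' h2)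
    rw [Equiv.swap_mul_self] at h3
    exact FiveMod.ind_one_iff.1 h3
  out := by
    obtain ⟨k, hk, hki⟩ := b.ex
    refine ⟨k, hk, ?_⟩
    rw [b.n_mem_Q_iff hk]
    intro h0
    exact absurd (FiveMod.Ind.unique (FiveMod.ind_one_iff.2 h0) hki) (by decide)
  hyp y hy hyO w hw := b.wr.Kka_act hw hyO
  aW := b.wr.V₁_le_Kk (M₁.e_mem _)
  aO := by
    rintro _ ⟨g, hg, rfl⟩
    rw [← mem_Q_conj]
    refine b.hU ?_
    have := UU_norm (inv_comm (mem_C.1 hg)) (mem_UU_self (M₁.e nn) (M₁.e aa))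
    rwa [inv_inv] at this
  bA := bA
  bO y hy := by
    obtain ⟨g, hg, hgL, -, h1⟩ := exists_ab (M₁ := M₁)
    have h2 : g⁻¹ * y * g ∈ Kk (M₁.e nn) := by
      rw [Kk_conj_iff, mem_C.1 hg, mul_inv_cancel_right]
      exact hy
    rw [h1, ← mem_Q_conj, b.n_mem_Q_iff h2, cent_conj_iff (M₁.le_normalizer hgL), b.n_mem_Q_iff hy]
  abO y hy := by
    obtain ⟨g, hg, hgL, -, h1⟩ := exists_ac (M₁ := M₁)
    have h2 : g⁻¹ * y * g ∈ Kk (M₁.e nn) := by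
      rw [Kk_conj_iff, mem_C.1 hg, mul_inv_cancel_right]
      exact hy
    rw [h1, ← mem_Q_conj, b.n_mem_Q_iff h2, cent_conj_iff (M₁.le_normalizer hgL), b.n_mem_Q_iff hy]
  mov := b.mov
  eight := b.eight

/-- `y ∈ K_n`: `y ∈ Q_{g a g⁻¹}` iff `y` commutes with `g {0 2} g⁻¹` -/
theorem mem_Q_cls_iff {y g : G} (hy : y ∈ Kk (M₁.e nn)) (hg : g * M₁.e nn = M₁.e nn * g) :
    y ∈ Q (g * M₁.e aa * g⁻¹) ↔ y * (g * M₁.e ee * g⁻¹) = g * M₁.e ee * g⁻¹ * y := by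
  have h2 : g⁻¹ * y * g ∈ Kk (M₁.e nn) := by
    rw [Kk_conj_iff, hg, mul_inv_cancel_right]
    exact hy
  rw [← mem_Q_conj, b.n_mem_Q_iff h2, b.n_cent_iff h2]
  have := comm_conj_iff (g := g⁻¹) (w := y) (u := M₁.e ee)
  rw [inv_inv] at this
  exact this

end CH

end Cfsg.Agent.Omega.IId.LFour
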