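import Cfsg.Agent.Omega.IId.LFour.Norm

/-!
# `N_G(T)` acts on `Ω₁(Z(T))` as `1` or `x` (project OMEGA, II.d L4; helper644 #19215)

`w : Wr S P M₁ M₂`, `T = C_S(n)` a Sylow 2-subgroup of `C_G(n)`.

* `Wr.zT_le` : `Ω₁(Z(T)) ≤ ⟨n, a⟩ ⟨σ₂⟩`;
* `Wr.cor` : `g ∈ N_G(T)` centralises `Ω₁(Z(T))` or interchanges `n` and `a` and centralises `σ₂`;
* `Wr.cor₂` : the same for `g ∉ T` with `T⟨g⟩` a 2-group.
-/

set_option autoImplicit false
set_option linter.unusedSectionVars false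

namespace Cfsg.Agent.Omega.IId.LFour

open Subgroup Pointwise Cfsg Cfsg.Agent.Omega.MinPar Cfsg.Agent.Omega.FFThm
open Cfsg.Agent.ZN (o2 zc zl)
open Cfsg.Agent.ZN.ChoiceBase (mem_cj cj_cj cj_inv_cj cj_cj_inv)
open Cfsg.Agent.Omega.S5.Mod Cfsg.Agent.Omega.S5.TT
open Cfsg.Agent.Omega.S5.TT.Pos (na ns as sn n_ne s_ne a_ne n_ne_a n_ne_s a_ne_s e_sq' mem_C)
open Cfsg.Agent.MinSimple.VModule (mem_zc zc_le zc_comm zc_sq zc_le_zl le_normalizer_o2 o2_isPGroup o2_le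
  normalizer_le_normalizer_zc le_normalizer_zl)
open Cfsg.Agent.Omega.TwoFFour (Syl2)

universe u

variable {G : Type u} [Group G]

private theorem norm_cent (A : Subgroup G) :
    normalizer (A : Set G) ≤ normalizer ((centralizer (A : Set G) : Subgroup G) : Set G) := by
  intro g hg
  have key : ∀ {g x : G}, g ∈ normalizer (A : Set G) → x ∈ centralizer (A : Set G) →
      g * x * g⁻¹ ∈ centralizer (A : Set G) := by
    intro g x hg hx
    refine mem_centralizer_iff.2 fun a ha => ?_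
    have h1 : g⁻¹ * a * g ∈ A := by
      have := (mem_normalizer_iff.1 (inv_mem hg) a).1 ha
      rwa [inv_inv] at this
    have h2 := mem_centralizer_iff.1 hx _ h1
    calc a * (g * x * g⁻¹) = g * ((g⁻¹ * a * g) * x) * g⁻¹ := by group
      _ = g * (x * (g⁻¹ * a * g)) * g⁻¹ := by rw [h2]
      _ = g * x * g⁻¹ * a := by group
  refine mem_normalizer_iff.2 fun x => ⟨fun hx => key hg hx, fun hx => ?_⟩
  have h1 := key (inv_mem hg) hx
  have e : g⁻¹ * (g * x * g⁻¹) * g⁻¹⁻¹ = x := by group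
  rwa [e] at h1

namespace Wr

variable [Finite G] {S : Sylow 2 G} {P V₁ V₂ L₁ L₂ : Subgroup G} {M₁ : FiveMod V₁ L₁} {M₂ : FiveMod V₂ L₂}
  (w : Wr S P M₁ M₂)
include w

theorem zT_le {x : G} (hx : x ∈ zc ((S : Subgroup G) ⊓ centralizer ({M₁.e nn} : Set G))) :
    ∃ v, (v = 1 ∨ v = M₁.e nn ∨ v = M₁.e aa ∨ v = M₁.e ss) ∧ (x = v ∨ x = v * M₂.e ss) := by
  rcases w.zT_cases₈ hx with h | h | h | h | h | h | h | h
  · exact ⟨1, Or.inl rfl, Or.inl h⟩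
  · exact ⟨_, Or.inr (Or.inr (Or.inr rfl)), Or.inl h⟩
  · exact ⟨1, Or.inl rfl, Or.inr (by rw [h, one_mul])⟩
  · exact ⟨_, Or.inr (Or.inr (Or.inr rfl)), Or.inr h⟩
  · exact ⟨_, Or.inr (Or.inl rfl), Or.inl h⟩
  · exact ⟨_, Or.inr (Or.inr (Or.inl rfl)), Or.inl h⟩
  · exact ⟨_, Or.inr (Or.inl rfl), Or.inr h⟩
  · exact ⟨_, Or.inr (Or.inr (Or.inl rfl)), Or.inr h⟩

variable (hsyl : ¬ 2 ∣ ((S : Subgroup G) ⊓ centralizer ({M₁.e nn} : Set G)).relIndex
    (centralizer ({M₁.e nn} : Set G)))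
include hsyl

/-- `N_G(T)` permutes `{n, a}` -/
theorem conj_na {g : G}
    (hg : g ∈ normalizer (((S : Subgroup G) ⊓ centralizer ({M₁.e nn} : Set G) : Subgroup G) : Set G)) :
    (g * M₁.e nn * g⁻¹ = M₁.e nn ∧ g * M₁.e aa * g⁻¹ = M₁.e aa) ∨
      (g * M₁.e nn * g⁻¹ = M₁.e aa ∧ g * M₁.e aa * g⁻¹ = M₁.e nn) := by
  obtain ⟨x, hx, hi⟩ := w.exists_x
  have hxS : x ∈ (S : Subgroup G) ⊓ normalizer (V₁ : Set G) := ⟨hx.1, hi.mem_normalizer⟩
  have h1 := w.conj_n hsyl hg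
  have h2 := w.conj_n hsyl (mul_mem hg (w.S₁_le_Nn hxS))
  have e : g * x * M₁.e nn * (g * x)⁻¹ = g * M₁.e aa * g⁻¹ := by
    rw [← tt_n hi]; group
  rw [e] at h2
  have hne : g * M₁.e nn * g⁻¹ ≠ g * M₁.e aa * g⁻¹ := fun h =>
    n_ne_a M₁ (mul_left_cancel (mul_right_cancel h))
  rcases h1 with h1 | h1
  · rcases h2 with h2 | h2
    · exact absurd (h1.trans h2.symm) hne
    · exact Or.inl ⟨h1, h2⟩
  · rcases h2 with h2 | h2
    · exact Or.inr ⟨h1, h2⟩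
    · exact absurd (h1.trans h2.symm) hne

/-- **COR, helper430's form.** -/
theorem cor₂ {g : G}
    (hg : g ∈ normalizer (((S : Subgroup G) ⊓ centralizer ({M₁.e nn} : Set G) : Subgroup G) : Set G))
    (hg2 : IsPGroup 2 ((S : Subgroup G) ⊓ centralizer ({M₁.e nn} : Set G) ⊔ zpowers g : Subgroup G))
    (hgT : g ∉ (S : Subgroup G) ⊓ centralizer ({M₁.e nn} : Set G)) :
    g * M₁.e nn * g⁻¹ = M₁.e aa ∧ g * M₁.e aa * g⁻¹ = M₁.e nn := by
  refine (w.conj_na hsyl hg).resolve_left fun h => hgT ?_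
  set T := (S : Subgroup G) ⊓ centralizer ({M₁.e nn} : Set G) with hT
  have h1 : T ⊔ zpowers g ≤ centralizer ({M₁.e nn} : Set G) := by
    refine sup_le inf_le_right ?_
    rw [zpowers_le]
    exact mem_C.2 (mul_inv_eq_iff_eq_mul.1 h.1)
  have h2 := card_le_of_syl ⟨inf_le_right, S.isPGroup'.to_le inf_le_left, hsyl⟩ h1 hg2
  have h3 : T = T ⊔ zpowers g := eq_of_le_of_card_ge le_sup_left h2
  rw [h3]
  exact (le_sup_right : zpowers g ≤ _) (mem_zpowers g)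

/-- **COR, helper839's form.** -/
theorem cor {g : G}
    (hg : g ∈ normalizer (((S : Subgroup G) ⊓ centralizer ({M₁.e nn} : Set G) : Subgroup G) : Set G)) :
    (∀ z ∈ zc ((S : Subgroup G) ⊓ centralizer ({M₁.e nn} : Set G)), g * z = z * g) ∨
      (g * M₁.e nn * g⁻¹ = M₁.e aa ∧ g * M₁.e aa * g⁻¹ = M₁.e nn ∧ g * M₂.e ss = M₂.e ss * g) := by
  obtain ⟨x, hx, hi⟩ := w.exists_x
  have hN := w.S₁_syl_Nn
  have hna := fun {g} hg => w.conj_na hsyl (g := g) hg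
  have hzT := fun {x} hx => w.zT_le (x := x) hx
  have hor := fun {y} hy => w.mem_or₁ hx.1 hi (y := y) hy
  have hct := fun {g} hg => w.S₁_comm_s₂ (g := g) hg
  have htz : M₂.e ss ∈ zc ((S : Subgroup G) ⊓ centralizer ({M₁.e nn} : Set G)) :=
    mem_zc.2 ⟨w.V₂_le_T (M₂.e_mem ss), fun b hb => w.T_comm_s₂ hb, e_sq' M₂ ss⟩
  have hnz := w.n_zT
  have haz : M₁.e aa ∈ zc ((S : Subgroup G) ⊓ centralizer ({M₁.e nn} : Set G)) := by
    have h1 := w.S₁_le_Nn (show x ∈ (S : Subgroup G) ⊓ normalizer (V₁ : Set G) from ⟨hx.1, hi.mem_normalizer⟩)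
    have h2 := (mem_normalizer_iff.1 (normalizer_le_normalizer_zc _ h1) _).1 hnz
    rwa [tt_n hi] at h2
  set T := (S : Subgroup G) ⊓ centralizer ({M₁.e nn} : Set G) with hT
  set S₁ := (S : Subgroup G) ⊓ normalizer (V₁ : Set G) with hS₁
  have hzN : normalizer (T : Set G) ≤ normalizer (zc T : Set G) := normalizer_le_normalizer_zc _
  -- the group `⟨n, a⟩`
  have hmv : ∀ {g v : G}, g ∈ normalizer (T : Set G) → (v = 1 ∨ v = M₁.e nn ∨ v = M₁.e aa ∨ v = M₁.e ss) →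
      (g * v * g⁻¹ = 1 ∨ g * v * g⁻¹ = M₁.e nn ∨ g * v * g⁻¹ = M₁.e aa ∨ g * v * g⁻¹ = M₁.e ss) := by
    intro g v hg hv
    have es : g * M₁.e ss * g⁻¹ = (g * M₁.e nn * g⁻¹) * (g * M₁.e aa * g⁻¹) := by rw [← na]; group
    rcases hv with rfl | rfl | rfl | rfl
    · left; group
    · rcases hna hg with h | h
      · exact Or.inr (Or.inl h.1)
      · exact Or.inr (Or.inr (Or.inl h.1))
    · rcases hna hg with h | h
      · exact Or.inr (Or.inr (Or.inl h.2))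
      · exact Or.inr (Or.inl h.2)
    · refine Or.inr (Or.inr (Or.inr ?_))
      rw [es]
      rcases hna hg with h | h
      · rw [h.1, h.2, na]
      · rw [h.1, h.2, M₁.e_comm, na]
  have hfix : ∀ {g v : G}, g ∈ normalizer (T : Set G) → (v = 1 ∨ v = M₁.e nn ∨ v = M₁.e aa ∨ v = M₁.e ss) →
      (g * g) * v * (g * g)⁻¹ = v := by
    intro g v hg hv
    have e : (g * g) * v * (g * g)⁻¹ = g * (g * v * g⁻¹) * g⁻¹ := by group
    have es : g * M₁.e ss * g⁻¹ = (g * M₁.e nn * g⁻¹) * (g * M₁.e aa * g⁻¹) := by rw [← na]; group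
    rw [e]
    rcases hna hg with h | h
    · rcases hv with rfl | rfl | rfl | rfl
      · group
      · rw [h.1, h.1]
      · rw [h.2, h.2]
      · rw [es, h.1, h.2, na, es, h.1, h.2, na]
    · rcases hv with rfl | rfl | rfl | rfl
      · group
      · rw [h.1, h.2]
      · rw [h.2, h.1]
      · rw [es, h.1, h.2, M₁.e_comm, na, es, h.1, h.2, M₁.e_comm, na]
  -- `g ^ 4` centralises `Ω₁(Z(T))`
  have hp : ∀ g ∈ normalizer (T : Set G), ∃ k : ℕ, g ^ 2 ^ k ∈ normalizer (T : Set G) ⊓ centralizer (zc T : Set G) := by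
    intro g hg
    refine ⟨2, pow_mem hg _, mem_centralizer_iff.2 fun z hz => ?_⟩
    obtain ⟨v, hv, hzv⟩ := hzT hz
    -- `g τ g⁻¹ = u τ`
    obtain ⟨u, hu, hut⟩ : ∃ u, (u = 1 ∨ u = M₁.e nn ∨ u = M₁.e aa ∨ u = M₁.e ss) ∧
        g * M₂.e ss * g⁻¹ = u * M₂.e ss := by
      obtain ⟨u, hu, h1⟩ := hzT ((mem_normalizer_iff.1 (hzN hg) _).1 htz)
      rcases h1 with h1 | h1
      · exfalso
        have h2 := hmv (inv_mem hg) hu
        rw [← h1] at h2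
        have e : g⁻¹ * (g * M₂.e ss * g⁻¹) * g⁻¹⁻¹ = M₂.e ss := by group
        rw [e] at h2
        rcases h2 with h2 | h2 | h2 | h2
        · exact s_ne M₂ h2
        · exact s_ne M₂ (w.V₁_ne_V₂ (by rw [h2]; exact M₁.e_mem _) (M₂.e_mem ss))
        · exact s_ne M₂ (w.V₁_ne_V₂ (by rw [h2]; exact M₁.e_mem _) (M₂.e_mem ss))
        · exact s_ne M₂ (w.V₁_ne_V₂ (by rw [h2]; exact M₁.e_mem _) (M₂.e_mem ss))
      · exact ⟨u, hu, h1⟩
    have hg2 : g * g ∈ normalizer (T : Set G) := mul_mem hg hg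
    -- `g² τ g⁻² = u' τ`
    have huV : u ∈ V₁ := by rcases hu with rfl | rfl | rfl | rfl <;> first | exact one_mem _ | exact M₁.e_mem _
    have hgu := hmv hg hu
    have hguV : g * u * g⁻¹ ∈ V₁ := by
      rcases hgu with h | h | h | h <;> rw [h] <;> first | exact one_mem _ | exact M₁.e_mem _
    have huu : u * u = 1 := M₁.sq huV
    have hguu : (g * u * g⁻¹) * (g * u * g⁻¹) = 1 := M₁.sq hguV
    have h2 : (g * g) * M₂.e ss * (g * g)⁻¹ = (g * u * g⁻¹) * u * M₂.e ss := by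
      calc (g * g) * M₂.e ss * (g * g)⁻¹ = g * (g * M₂.e ss * g⁻¹) * g⁻¹ := by group
        _ = g * (u * M₂.e ss) * g⁻¹ := by rw [hut]
        _ = (g * u * g⁻¹) * (g * M₂.e ss * g⁻¹) := by group
        _ = (g * u * g⁻¹) * u * M₂.e ss := by rw [hut]; exact (mul_assoc _ _ _).symm
    have h4u : (g * g) * ((g * u * g⁻¹) * u) * (g * g)⁻¹ = (g * u * g⁻¹) * u := by
      have e : (g * g) * ((g * u * g⁻¹) * u) * (g * g)⁻¹ =
          ((g * g) * (g * u * g⁻¹) * (g * g)⁻¹) * ((g * g) * u * (g * g)⁻¹) := by group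
      rw [e, hfix hg hgu, hfix hg hu]
    have h4t : g ^ 2 ^ 2 * M₂.e ss * (g ^ 2 ^ 2)⁻¹ = M₂.e ss := by
      have e : g ^ 2 ^ 2 * M₂.e ss * (g ^ 2 ^ 2)⁻¹ = (g * g) * ((g * g) * M₂.e ss * (g * g)⁻¹) * (g * g)⁻¹ := by
        norm_num [pow_succ]
        group
      rw [e, h2]
      calc (g * g) * ((g * u * g⁻¹) * u * M₂.e ss) * (g * g)⁻¹
          = ((g * g) * ((g * u * g⁻¹) * u) * (g * g)⁻¹) * ((g * g) * M₂.e ss * (g * g)⁻¹) := by group
        _ = (g * u * g⁻¹) * u * ((g * u * g⁻¹) * u * M₂.e ss) := by rw [h4u, h2]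
        _ = (g * u * g⁻¹) * (u * (g * u * g⁻¹)) * u * M₂.e ss := by simp only [mul_assoc]
        _ = (g * u * g⁻¹) * ((g * u * g⁻¹) * u) * u * M₂.e ss := by rw [M₁.comm huV hguV]
        _ = ((g * u * g⁻¹) * (g * u * g⁻¹)) * (u * u) * M₂.e ss := by simp only [mul_assoc]
        _ = M₂.e ss := by rw [hguu, huu]; group
    have h4v : g ^ 2 ^ 2 * v * (g ^ 2 ^ 2)⁻¹ = v := by
      have e : g ^ 2 ^ 2 * v * (g ^ 2 ^ 2)⁻¹ = (g * g) * ((g * g) * v * (g * g)⁻¹) * (g * g)⁻¹ := by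
        norm_num [pow_succ]
        group
      rw [e, hfix hg hv, hfix hg hv]
    have h4z : g ^ 2 ^ 2 * z * (g ^ 2 ^ 2)⁻¹ = z := by
      rcases hzv with rfl | rfl
      · exact h4v
      · calc g ^ 2 ^ 2 * (v * M₂.e ss) * (g ^ 2 ^ 2)⁻¹ = (g ^ 2 ^ 2 * v * (g ^ 2 ^ 2)⁻¹) *
              (g ^ 2 ^ 2 * M₂.e ss * (g ^ 2 ^ 2)⁻¹) := by group
          _ = v * M₂.e ss := by rw [h4v, h4t]
    exact (mul_inv_eq_iff_eq_mul.1 h4z).symm
  obtain ⟨s, hs, hsg⟩ := hN.cover (K := normalizer (T : Set G) ⊓ centralizer (zc T : Set G)) inf_le_left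
    (Half.le_normalizer_inf le_normalizer (hzN.trans (norm_cent _))) hp hg
  have hsz : ∀ z ∈ zc T, s * z * s⁻¹ = g * z * g⁻¹ := by
    intro z hz
    have h1 := mem_centralizer_iff.1 hsg.2 z hz
    calc s * z * s⁻¹ = s * (z * (s⁻¹ * g)) * g⁻¹ := by group
      _ = s * (s⁻¹ * g * z) * g⁻¹ := by rw [h1]
      _ = g * z * g⁻¹ := by group
  rcases hor hs with h1 | h1
  · left
    intro z hz
    have h2 := hsz z hz
    rw [(mem_zc.1 hz).2.1 s h1, mul_inv_cancel_right] at h2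
    exact mul_inv_eq_iff_eq_mul.1 h2.symm
  · right
    have h2 : ∀ z ∈ zc T, s * z * s⁻¹ = (s * x) * (x⁻¹ * z * x) * (s * x)⁻¹ := fun z _ => by group
    have hxz : ∀ z ∈ zc T, x⁻¹ * z * x ∈ zc T := by
      intro z hz
      have h3 := inv_mem (hzN (hN.le (show x ∈ S₁ from ⟨hx.1, hi.mem_normalizer⟩)))
      have h4 := (mem_normalizer_iff.1 h3 z).1 hz
      rwa [inv_inv] at h4
    have h3 : ∀ z ∈ zc T, g * z * g⁻¹ = x⁻¹ * z * x := by
      intro z hz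
      rw [← hsz z hz, h2 z hz, (mem_zc.1 (hxz z hz)).2.1 _ h1, mul_inv_cancel_right]
    refine ⟨?_, ?_, ?_⟩
    · rw [h3 _ hnz, ← tt_a hi]
      calc x⁻¹ * (x * M₁.e aa * x⁻¹) * x = M₁.e aa := by group
        _ = M₁.e aa := rfl
    · rw [h3 _ haz, ← tt_n hi]; group
    · have h4 := h3 _ htz
      have h5 : x⁻¹ * M₂.e ss * x = M₂.e ss := by
        have h6 := hct (show x ∈ S₁ from ⟨hx.1, hi.mem_normalizer⟩)
        rw [mul_assoc, ← h6]; group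
      rw [h5] at h4
      exact mul_inv_eq_iff_eq_mul.1 h4

end Wr

end Cfsg.Agent.Omega.IId.LFour
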