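import Cfsg.Agent.Omega.IId.LFour.TriLoc

/-!
# The crux of `S₅ wr 2`, lattice part (project OMEGA, II.d L4; text helper839 #18434 (2), (3))

Abstract form: `M : FiveMod V L`, `E` an elementary abelian subgroup, `U i j ≤ Q i j` (`i ≠ j`), `w i j ∈ Q i j`
inducing the transposition `(i j)`; `Eng M E U Q w` collects what is used.  Result `Eng.E_le` : `E ≤ Q i j`.
-/

set_option autoImplicit false
set_option linter.unusedSectionVars false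

namespace Cfsg.Agent.Omega.IId.LFour.Crux

open Subgroup Cfsg Cfsg.Agent.ZN
open Cfsg.Agent.Omega.S5.Mod Cfsg.Agent.Omega.S5.TT
open Cfsg.Agent.Omega.IId.LFour.TriLoc (sg pp sg_comp pp_comp)

universe u

variable {G : Type u} [Group G]

/-- What the lattice calculus uses. -/
structure Eng {V L : Subgroup G} (M : FiveMod V L) (E : Subgroup G) (U Q : Fin 5 → Fin 5 → Subgroup G)
    (w : Fin 5 → Fin 5 → G) : Prop where
  U_symm : ∀ i j, U i j = U j i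
  Q_symm : ∀ i j, Q i j = Q j i
  U_comm : ∀ i j, i ≠ j → ∀ a ∈ U i j, ∀ b ∈ U i j, a * b = b * a
  U_sq : ∀ i j, i ≠ j → ∀ a ∈ U i j, a * a = 1
  U_Q : ∀ i j, i ≠ j → ∀ a ∈ U i j, ∀ b ∈ Q i j, a * b = b * a
  U_U : ∀ i j k l, i ≠ j → k ≠ l → ∀ a ∈ U i j, ∀ b ∈ U k l, a * b * a⁻¹ ∈ U k l
  w_Q : ∀ i j, i ≠ j → w i j ∈ Q i j
  w_U : ∀ i j k l, i ≠ j → k ≠ l → ∀ x ∈ U k l,
    w i j * x * (w i j)⁻¹ ∈ U (Equiv.swap i j k) (Equiv.swap i j l)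
  w_U' : ∀ i j k l, i ≠ j → k ≠ l → ∀ x ∈ U k l,
    (w i j)⁻¹ * x * w i j ∈ U (Equiv.swap i j k) (Equiv.swap i j l)
  w_e : ∀ i j, i ≠ j → ∀ y, w i j * M.e y * (w i j)⁻¹ = M.e (y ∘ (Equiv.swap i j).symm)
  w_Qm : ∀ i j, i ≠ j → ∀ y ∈ Q i j, w i j * y * (w i j)⁻¹ * y⁻¹ = 1 ∨
    w i j * y * (w i j)⁻¹ * y⁻¹ = M.e (pp i j)
  K_Q : ∀ i j a b, i ≠ j → a ≠ b → ∀ h ∈ Q i j, ∀ y ∈ U a b,
    h * (w i j * y * (w i j)⁻¹ * y⁻¹) * h⁻¹ * (w i j * y * (w i j)⁻¹ * y⁻¹)⁻¹ = 1 ∨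
      h * (w i j * y * (w i j)⁻¹ * y⁻¹) * h⁻¹ * (w i j * y * (w i j)⁻¹ * y⁻¹)⁻¹ = M.e (pp i j)
  c_Q : ∀ i j k l, i ≠ j → k ≠ l → k ≠ i → k ≠ j → l ≠ i → l ≠ j → ∀ x ∈ E,
    (∀ y ∈ U i j, x * y = y * x) → w k l * x * (w k l)⁻¹ * x⁻¹ ∈ Q i j
  b_Q : ∀ i j, i ≠ j → ∀ x ∈ E, (∀ y ∈ U i j, x * y = y * x) → x ∈ Q i j
  E_comm : ∀ a ∈ E, ∀ b ∈ E, a * b = b * a
  E_sq : ∀ a ∈ E, a * a = 1
  E_U : ∀ i j, i ≠ j → ∀ x ∈ E, ∀ y ∈ U i j, x * y * x⁻¹ ∈ U i j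
  U_E : ∀ i j, i ≠ j → ∀ x ∈ E, ∀ y ∈ U i j, y * x * y⁻¹ ∈ E
  w_E : ∀ i j, i ≠ j → ∀ x ∈ E, w i j * x * (w i j)⁻¹ ∈ E
  w_E' : ∀ i j, i ≠ j → ∀ x ∈ E, (w i j)⁻¹ * x * w i j ∈ E
  e_E : ∀ y, M.e y ∈ E
  e_U : ∀ i j, i ≠ j → ∀ y : Vec, y i = y j → M.e y ∈ U i j
  not_mem : ∀ i j l, i ≠ j → i ≠ l → j ≠ l → M.e (pp i j) ∉ U i l
  inf : ∀ x ∈ E, (∀ i j, i ≠ j → x ∈ U i j) → x = 1
  trick : ∀ i j, i ≠ j → ∀ x ∈ E, ∀ f : Fin 8 → G, (∀ y ∈ U i j, ∃ t, x * y * x⁻¹ * y⁻¹ = f t) → x ∈ Q i j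

namespace Eng

theorem four : ∀ i j k l m a : Fin 5, i ≠ j → i ≠ k → i ≠ l → i ≠ m → j ≠ k → j ≠ l → j ≠ m → k ≠ l →
    k ≠ m → l ≠ m → a ≠ m → a = i ∨ a = j ∨ a = k ∨ a = l := by
  decide +kernel

theorem exists_two : ∀ l m : Fin 5, l ≠ m → ∃ i : Fin 5, i ≠ l ∧ i ≠ m := by
  decide +kernel

/-- the complement of `{i, j}` -/
theorem exists_three : ∀ i j : Fin 5, i ≠ j → ∃ k l m : Fin 5, (i ≠ k ∧ i ≠ l ∧ i ≠ m) ∧ (j ≠ k ∧ j ≠ l ∧
    j ≠ m) ∧ (k ≠ l ∧ k ≠ m ∧ l ≠ m) := by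
  decide +kernel

/-- the complement of `{l}` -/
theorem exists_four : ∀ l : Fin 5, ∃ i j k m : Fin 5, (i ≠ j ∧ i ≠ k ∧ i ≠ l ∧ i ≠ m) ∧ (j ≠ k ∧ j ≠ l ∧
    j ≠ m) ∧ (k ≠ l ∧ k ≠ m ∧ l ≠ m) := by
  decide +kernel

variable {V L : Subgroup G} {M : FiveMod V L} {E : Subgroup G} {U Q : Fin 5 → Fin 5 → Subgroup G}
  {w : Fin 5 → Fin 5 → G} (h : Eng M E U Q w)
include h

theorem U' {i j : Fin 5} {x : G} (hx : x ∈ U i j) : x ∈ U j i := by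
  rw [← h.U_symm]; exact hx

theorem Q' {i j : Fin 5} {x : G} (hx : x ∈ Q i j) : x ∈ Q j i := by
  rw [← h.Q_symm]; exact hx

/-- `U_{ij} ∩ U_{ik} ≤ U_{jk}` -/
theorem tri {i j k : Fin 5} (hij : i ≠ j) (hik : i ≠ k) (hjk : j ≠ k) {x : G} (h1 : x ∈ U i j)
    (h2 : x ∈ U i k) : x ∈ U j k := by
  have e1 := h.U_Q i j hij x h1 _ (h.w_Q i j hij)
  have e2 : w i j * x * (w i j)⁻¹ = x := by rw [← e1]; group
  have e3 := h.w_U i j i k hij hik x h2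
  rwa [e2, Equiv.swap_apply_left, Equiv.swap_apply_of_ne_of_ne hik.symm hjk.symm] at e3

end Eng

/-- `x ∈ E ∩ U_{ij} ∩ U_{ik} ∩ U_{jk}` -/
def Tr (E : Subgroup G) (U : Fin 5 → Fin 5 → Subgroup G) (i j k : Fin 5) (x : G) : Prop :=
  x ∈ E ∧ x ∈ U i j ∧ x ∈ U i k ∧ x ∈ U j k

/-- `x ∈ E` and `x ∈ U_{ab}` for all `a, b ≠ m` -/
def Fo (E : Subgroup G) (U : Fin 5 → Fin 5 → Subgroup G) (m : Fin 5) (x : G) : Prop :=
  x ∈ E ∧ ∀ a b, a ≠ b → a ≠ m → b ≠ m → x ∈ U a b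

namespace Eng

variable {V L : Subgroup G} {M : FiveMod V L} {E : Subgroup G} {U Q : Fin 5 → Fin 5 → Subgroup G}
  {w : Fin 5 → Fin 5 → G} (h : Eng M E U Q w)
include h

theorem tr_swap {i j k : Fin 5} {x : G} (hx : Tr E U i j k x) : Tr E U j i k x :=
  ⟨hx.1, h.U' hx.2.1, hx.2.2.2, hx.2.2.1⟩

theorem tr_rot {i j k : Fin 5} {x : G} (hx : Tr E U i j k x) : Tr E U j k i x :=
  ⟨hx.1, hx.2.2.2, h.U' hx.2.1, h.U' hx.2.2.1⟩

theorem tr_of {i j k : Fin 5} (hij : i ≠ j) (hik : i ≠ k) (hjk : j ≠ k) {x : G} (hE : x ∈ E)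
    (h1 : x ∈ U i j) (h2 : x ∈ U i k) : Tr E U i j k x := ⟨hE, h1, h2, h.tri hij hik hjk h1 h2⟩

theorem fo_of {i j k l m : Fin 5} (hij : i ≠ j) (hik : i ≠ k) (hil : i ≠ l) (him : i ≠ m) (hjk : j ≠ k)
    (hjl : j ≠ l) (hjm : j ≠ m) (hkl : k ≠ l) (hkm : k ≠ m) (hlm : l ≠ m) {x : G} (hE : x ∈ E)
    (h1 : x ∈ U i j) (h2 : x ∈ U i k) (h3 : x ∈ U i l) : Fo E U m x := by
  refine ⟨hE, fun a b hab ham hbm => ?_⟩
  have h4 := h.tri hij hik hjk h1 h2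
  have h5 := h.tri hij hil hjl h1 h3
  have h6 := h.tri hik hil hkl h2 h3
  rcases four i j k l m a hij hik hil him hjk hjl hjm hkl hkm hlm ham with rfl | rfl | rfl | rfl <;>
  rcases four _ _ _ _ m b hij hik hil him hjk hjl hjm hkl hkm hlm hbm with rfl | rfl | rfl | rfl <;>
  first
    | exact absurd rfl hab
    | assumption
    | (apply h.U'; assumption)

/-- two different `Fo`'s meet trivially -/
theorem fo_fo {l m : Fin 5} (hlm : l ≠ m) {x : G} (h1 : Fo E U l x) (h2 : Fo E U m x) : x = 1 := by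
  refine h.inf x h1.1 fun a b hab => ?_
  have key : ∀ a b, a ≠ b → a = l → x ∈ U a b := by
    rintro a b hab rfl
    by_cases hb : b = m
    · subst hb
      obtain ⟨i, hi1, hi2⟩ := exists_two a b hab
      exact h.tri hi1 hi2 hab (h2.2 i a hi1 hi2 hab) (h1.2 i b hi2 hi1 hab.symm)
    · exact h2.2 a b hab hlm hb
  by_cases ha : a = l
  · exact key a b hab ha
  by_cases hb : b = l
  · exact h.U' (key b a hab.symm hb)
  exact h1.2 a b hab ha hb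

/-- **(a)** -/
theorem stepA {i j k : Fin 5} (hij : i ≠ j) (hik : i ≠ k) (hjk : j ≠ k) {x : G} (hE : x ∈ E)
    (h1 : x ∈ U i k) (h2 : x ∈ Q i j) : Tr E U i j k x ∨ Tr E U i j k (x * M.e (pp i k)) := by
  have key : ∀ y ∈ E, y ∈ U i k → w i j * y * (w i j)⁻¹ = y → Tr E U i j k y := by
    intro y hy hyU hyw
    have h3 := h.w_U i j i k hij hik y hyU
    rw [hyw, Equiv.swap_apply_left, Equiv.swap_apply_of_ne_of_ne hik.symm hjk.symm] at h3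
    have h4 : y ∈ U i j := h.tri hik.symm hjk.symm hij (h.U' hyU) (h.U' h3)
    exact ⟨hy, h4, hyU, h3⟩
  rcases h.w_Qm i j hij x h2 with h3 | h3
  · left
    exact key x hE h1 (by rwa [mul_inv_eq_one] at h3)
  · right
    have h4 : w i j * x * (w i j)⁻¹ = M.e (pp i j) * x := by rwa [mul_inv_eq_iff_eq_mul] at h3
    have h5 : M.e (pp i k) ∈ U i k := h.e_U i k hik _ (by
      simp only [pp, sg, Pi.add_apply, Pi.single_apply, if_true, hik, hik.symm, if_false, add_zero, zero_add])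
    refine key _ (mul_mem hE (h.e_E _)) (mul_mem h1 h5) ?_
    have h6 : pp i k ∘ (Equiv.swap i j).symm = pp j k := by
      rw [pp_comp, Equiv.swap_apply_left, Equiv.swap_apply_of_ne_of_ne hik.symm hjk.symm]
    have h7 : M.e (pp i j) * M.e (pp j k) = M.e (pp i k) := by
      rw [← M.e_add]
      congr 1
      have : pp i j + pp j k = pp i k + (sg j + sg j) := by simp only [pp]; abel
      rw [this, S5.Mod.add_self, add_zero]
    calc w i j * (x * M.e (pp i k)) * (w i j)⁻¹ = (w i j * x * (w i j)⁻¹) * (w i j * M.e (pp i k) * (w i j)⁻¹) := by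
          group
      _ = M.e (pp i j) * x * M.e (pp j k) := by rw [h4, h.w_e i j hij, h6]
      _ = x * (M.e (pp i j) * M.e (pp j k)) := by rw [h.E_comm _ (h.e_E _) _ hE]; group
      _ = x * M.e (pp i k) := by rw [h7]

/-- **(d)** -/
theorem stepD {i j k l m : Fin 5} (hij : i ≠ j) (hik : i ≠ k) (hil : i ≠ l) (him : i ≠ m) (hjk : j ≠ k)
    (hjl : j ≠ l) (hjm : j ≠ m) (hkl : k ≠ l) (hkm : k ≠ m) (hlm : l ≠ m) {u y' : G}
    (hu : Tr E U i j k u) (hy' : y' ∈ U i l) : Fo E U m (u * y' * u⁻¹ * y'⁻¹) := by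
  obtain ⟨huE, huij, huik, hujk⟩ := hu
  have sk : Equiv.swap k l k = l := Equiv.swap_apply_left _ _
  have sl : Equiv.swap k l l = k := Equiv.swap_apply_right _ _
  have si : Equiv.swap k l i = i := Equiv.swap_apply_of_ne_of_ne hik hil
  have sj : Equiv.swap k l j = j := Equiv.swap_apply_of_ne_of_ne hjk hjl
  have sm : Equiv.swap k l m = m := Equiv.swap_apply_of_ne_of_ne hkm.symm hlm.symm
  set a := w k l with ha
  set u₁ := a * u * a⁻¹ with hu₁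
  set y := a * y' * a⁻¹ with hy
  have u₁E : u₁ ∈ E := h.w_E k l hkl u huE
  have u₁ij : u₁ ∈ U i j := by have := h.w_U k l i j hkl hij u huij; rwa [si, sj] at this
  have u₁il : u₁ ∈ U i l := by have := h.w_U k l i k hkl hik u huik; rwa [si, sk] at this
  have u₁jl : u₁ ∈ U j l := by have := h.w_U k l j k hkl hjk u hujk; rwa [sj, sk] at this
  have yik : y ∈ U i k := by have := h.w_U k l i l hkl hil y' hy'; rwa [si, sl] at this
  set v := w i j with hv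
  set y₁ := v * y * v⁻¹ with hy₁
  have y₁jk : y₁ ∈ U j k := by
    have := h.w_U i j i k hij hik y yik
    rwa [Equiv.swap_apply_left, Equiv.swap_apply_of_ne_of_ne hik.symm hjk.symm] at this
  -- `h₀ = u₁ u⁻¹ ∈ Q_{ij}`
  have hQ : u₁ * u⁻¹ ∈ Q i j := h.c_Q i j k l hij hkl hik.symm hjk.symm hil.symm hjl.symm u huE
    fun z hz => h.U_comm i j hij u huij z hz
  have hg := h.K_Q i j i k hij hik _ hQ y yik
  rw [← hv, ← hy₁] at hg
  set g := y₁ * y⁻¹ with hgd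
  have ug : u * g = g * u := by
    have e1 : Commute u y := h.U_comm i k hik u huik y yik
    have e2 : Commute u y₁ := h.U_comm j k hjk u hujk y₁ y₁jk
    exact (e2.mul_right e1.inv_right).eq
  have e1 : u₁ * u⁻¹ * g * (u₁ * u⁻¹)⁻¹ * g⁻¹ = u₁ * g * u₁⁻¹ * g⁻¹ := by
    calc u₁ * u⁻¹ * g * (u₁ * u⁻¹)⁻¹ * g⁻¹ = u₁ * (u⁻¹ * (g * u)) * u₁⁻¹ * g⁻¹ := by group
      _ = u₁ * g * u₁⁻¹ * g⁻¹ := by rw [← ug]; group
  rw [e1] at hg
  have gil : u₁ * g * u₁⁻¹ * g⁻¹ ∈ U i l := by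
    have h1 : y₁ * (y⁻¹ * u₁⁻¹ * y) * y₁⁻¹ ∈ U i l := by
      refine h.U_U j k i l hjk hil _ y₁jk _ ?_
      have h2 := h.U_U i k i l hik hil _ (inv_mem yik) _ (inv_mem u₁il)
      rwa [inv_inv] at h2
    have h3 : u₁ * g * u₁⁻¹ * g⁻¹ = u₁ * (y₁ * (y⁻¹ * u₁⁻¹ * y) * y₁⁻¹) := by rw [hgd]; group
    rw [h3]
    exact mul_mem u₁il h1
  have hg1 : u₁ * g * u₁⁻¹ * g⁻¹ = 1 := by
    rcases hg with h1 | h1
    · exact h1
    · exact absurd (h1 ▸ gil) (h.not_mem i j l hij hil hjl)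
  have hg2 : u₁ * g = g * u₁ := by
    calc u₁ * g = (u₁ * g * u₁⁻¹ * g⁻¹) * (g * u₁) := by group
      _ = g * u₁ := by rw [hg1, one_mul]
  -- `y u₁⁻¹ y⁻¹ = y₁ u₁⁻¹ y₁⁻¹`
  have yy : y * y = 1 := h.U_sq i k hik y yik
  have yy₁ : y₁ * y₁ = 1 := h.U_sq j k hjk y₁ y₁jk
  have yi : y⁻¹ = y := inv_eq_of_mul_eq_one_left yy
  have yi₁ : y₁⁻¹ = y₁ := inv_eq_of_mul_eq_one_left yy₁
  have hconj : y * u₁⁻¹ * y⁻¹ = y₁ * u₁⁻¹ * y₁⁻¹ := by
    have h1 : g⁻¹ * u₁⁻¹ * g = u₁⁻¹ := by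
      have h2 : u₁⁻¹ * g = g * u₁⁻¹ := by
        calc u₁⁻¹ * g = u₁⁻¹ * (g * u₁) * u₁⁻¹ := by group
          _ = g * u₁⁻¹ := by rw [← hg2]; group
      rw [mul_assoc, h2]; group
    have h3 : g⁻¹ = y * y₁ := by rw [hgd, mul_inv_rev, inv_inv, yi₁]
    have h4 : g = y₁ * y := by rw [hgd, yi]
    rw [h3, h4] at h1
    calc y * u₁⁻¹ * y⁻¹ = y * u₁⁻¹ * y := by rw [yi]
      _ = y * (y * y₁ * u₁⁻¹ * (y₁ * y)) * y := by rw [h1]
      _ = (y * y) * (y₁ * u₁⁻¹ * y₁) * (y * y) := by group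
      _ = y₁ * u₁⁻¹ * y₁⁻¹ := by rw [yy, yi₁]; group
  set c₁ := u₁ * y * u₁⁻¹ * y⁻¹ with hc₁
  have c₁a : c₁ = u₁ * (y * u₁⁻¹ * y⁻¹) := by rw [hc₁]; group
  have c₁b : c₁ = (u₁ * y₁ * u₁⁻¹) * y₁⁻¹ := by rw [c₁a, hconj]; group
  have c₁c : c₁ = (u₁ * y * u₁⁻¹) * y⁻¹ := by rw [hc₁]
  have m1 : c₁ ∈ E := by
    rw [c₁a]; exact mul_mem u₁E (h.U_E i k hik _ (inv_mem u₁E) _ yik)
  have m2 : c₁ ∈ U i j := by
    rw [c₁a]; exact mul_mem u₁ij (h.U_U i k i j hik hij _ yik _ (inv_mem u₁ij))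
  have m3 : c₁ ∈ U i l := by
    rw [c₁a]; exact mul_mem u₁il (h.U_U i k i l hik hil _ yik _ (inv_mem u₁il))
  have m4 : c₁ ∈ U i k := by
    rw [c₁c]; exact mul_mem (h.E_U i k hik _ u₁E _ yik) (inv_mem yik)
  have hfo : Fo E U m c₁ := h.fo_of hij hik hil him hjk hjl hjm hkl hkm hlm m1 m2 m4 m3
  -- back
  have hback : u * y' * u⁻¹ * y'⁻¹ = a⁻¹ * c₁ * a := by rw [hc₁, hu₁, hy]; group
  rw [hback]
  refine ⟨h.w_E' k l hkl _ hfo.1, fun p q hpq hpm hqm => ?_⟩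
  have hp' : Equiv.swap k l p ≠ m := fun h0 => hpm (by
    have := congrArg (Equiv.swap k l) h0; rwa [Equiv.swap_apply_self, sm] at this)
  have hq' : Equiv.swap k l q ≠ m := fun h0 => hqm (by
    have := congrArg (Equiv.swap k l) h0; rwa [Equiv.swap_apply_self, sm] at this)
  have hpq' : Equiv.swap k l p ≠ Equiv.swap k l q := fun h0 => hpq ((Equiv.swap k l).injective h0)
  have := h.w_U' k l _ _ hkl hpq' c₁ (hfo.2 _ _ hpq' hp' hq')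
  rwa [Equiv.swap_apply_self, Equiv.swap_apply_self] at this

omit h in
theorem e_val (M : FiveMod V L) {x y : Vec} (hxy : ∀ i, x i = y i) : M.e x = M.e y := by
  rw [funext hxy]

/-- `σ_l` is in `Fo l` -/
theorem e_fo (l : Fin 5) : Fo E U l (M.e (sg l)) := by
  refine ⟨h.e_E _, fun a b hab hal hbl => h.e_U a b hab _ ?_⟩
  simp only [sg, Pi.single_apply, hal, hbl, if_false]

theorem fo_mul {m : Fin 5} {x y : G} (hx : Fo E U m x) (hy : Fo E U m y) : Fo E U m (x * y) :=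
  ⟨mul_mem hx.1 hy.1, fun a b hab ha hb => mul_mem (hx.2 a b hab ha hb) (hy.2 a b hab ha hb)⟩

theorem tr_mul {i j k : Fin 5} {x y : G} (hx : Tr E U i j k x) (hy : Tr E U i j k y) :
    Tr E U i j k (x * y) :=
  ⟨mul_mem hx.1 hy.1, mul_mem hx.2.1 hy.2.1, mul_mem hx.2.2.1 hy.2.2.1, mul_mem hx.2.2.2 hy.2.2.2⟩

/-- the pair `{l, m}` disjoint from `{i, j, k}` -/
theorem e_tr {i j k : Fin 5} (hij : i ≠ j) (hik : i ≠ k) (hjk : j ≠ k) {y : Vec} (h1 : y i = y j)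
    (h2 : y i = y k) : Tr E U i j k (M.e y) :=
  ⟨h.e_E _, h.e_U i j hij _ h1, h.e_U i k hik _ h2, h.e_U j k hjk _ (h1.symm.trans h2)⟩

omit h in
/-- `{i,k} + {l,m} = σ_j`-shape: `e {i,j} * e {k,m} = σ_l` -/
theorem pp_sg' : ∀ i j k l m : Fin 5, (i ≠ j ∧ i ≠ k ∧ i ≠ l ∧ i ≠ m) → (j ≠ k ∧ j ≠ l ∧ j ≠ m) →
    (k ≠ l ∧ k ≠ m ∧ l ≠ m) → pp i j + pp k m + 1 = sg l := by
  decide +kernel

omit h in
theorem pp_sg (i j k l m : Fin 5) (hij : i ≠ j) (hik : i ≠ k) (hil : i ≠ l) (him : i ≠ m) (hjk : j ≠ k)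
    (hjl : j ≠ l) (hjm : j ≠ m) (hkl : k ≠ l) (hkm : k ≠ m) (hlm : l ≠ m) : pp i j + pp k m + 1 = sg l :=
  pp_sg' i j k l m ⟨hij, hik, hil, him⟩ ⟨hjk, hjl, hjm⟩ ⟨hkl, hkm, hlm⟩

/-- **(e)** `Fo l = ⟨σ_l⟩` -/
theorem stepE {l : Fin 5} {x : G} (hx : Fo E U l x) : x = 1 ∨ x = M.e (sg l) := by
  -- `i j k m` = the four other indices
  obtain ⟨i, j, k, m, ⟨hij, hik, hil, him⟩, ⟨hjk, hjl, hjm⟩, hkl, hkm, hlm⟩ := exists_four l
  have hx' := hx.2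
  -- `x` centralises `U k l`
  have hc : ∀ y ∈ U k l, x * y = y * x := by
    intro y hy
    have t1 : Tr E U k i j x := ⟨hx.1, hx' k i hik.symm hkl hil, hx' k j hjk.symm hkl hjl, hx' i j hij hil hjl⟩
    have t2 : Tr E U k j m x := ⟨hx.1, hx' k j hjk.symm hkl hjl, hx' k m hkm hkl hlm.symm, hx' j m hjm hjl hlm.symm⟩
    have f1 := h.stepD hik.symm hjk.symm hkl hkm hij hil him hjl hjm hlm t1 hy
    have f2 := h.stepD hjk.symm hkm hkl hik.symm hjm hjl hij.symm hlm.symm him.symm hil.symm t2 hy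
    have h1 := h.fo_fo him.symm f1 f2
    calc x * y = (x * y * x⁻¹ * y⁻¹) * (y * x) := by group
      _ = y * x := by rw [h1, one_mul]
  have hQ : x ∈ Q k l := h.b_Q k l hkl x hx.1 hc
  -- the argument of case A
  have caseA : ∀ z, Fo E U l z → z ∈ U k l → z = 1 := by
    intro z hz hzU
    have h2 : Fo E U m z := h.fo_of hik.symm hjk.symm hkl hkm hij hil him hjl hjm hlm hz.1
      (hz.2 k i hik.symm hkl hil) (hz.2 k j hjk.symm hkl hjl) hzU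
    exact h.fo_fo hlm hz h2
  rcases h.stepA hkl hik.symm hil.symm hx.1 (hx' k i hik.symm hkl hil) hQ with h2 | h2
  · left
    exact caseA x hx h2.2.1
  · right
    have h3 : Fo E U l (x * M.e (sg l)) := h.fo_mul hx (h.e_fo l)
    have h4 : x * M.e (sg l) ∈ U k l := by
      have h5 : M.e (sg l) = M.e (pp k i) * M.e (pp j m) := by
        rw [← M.e_add, ← pp_sg k i j l m hik.symm hjk.symm hkl hkm hij hil him hjl hjm hlm, M.e_add _ 1, M.e_one,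
          mul_one]
      have h6 : M.e (pp j m) ∈ U k l := h.e_U k l hkl _ (by
        simp only [pp, sg, Pi.add_apply, Pi.single_apply, hjk.symm, hkm, hjl.symm, hlm, if_false])
      rw [h5, ← mul_assoc]
      exact mul_mem h2.2.1 h6
    have h7 := caseA _ h3 h4
    exact (mul_eq_one_iff_eq_inv.1 h7).trans (M.e_inv _)

/-- **(f)** -/
theorem stepF {i j k l m : Fin 5} (hij : i ≠ j) (hik : i ≠ k) (hil : i ≠ l) (him : i ≠ m) (hjk : j ≠ k)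
    (hjl : j ≠ l) (hjm : j ≠ m) (hkl : k ≠ l) (hkm : k ≠ m) (hlm : l ≠ m) {x : G}
    (hx : Tr E U i j k x) : x = 1 ∨ x = M.e (sg m) ∨ x = M.e (sg l) ∨ x = M.e (sg m + sg l) := by
  have hQ : x ∈ Q i l := by
    refine h.trick i l hil x hx.1 (fun t => if t = 0 then 1 else M.e (sg m)) fun y hy => ?_
    rcases h.stepE (h.stepD hij hik hil him hjk hjl hjm hkl hkm hlm hx hy) with h1 | h1
    · exact ⟨0, by rw [h1, if_pos rfl]⟩
    · exact ⟨1, by rw [h1, if_neg (by decide)]⟩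
  have key : ∀ z, Tr E U i j k z → Tr E U i l j z → z = 1 ∨ z = M.e (sg m) := by
    intro z h1 h2
    exact h.stepE (h.fo_of hij hik hil him hjk hjl hjm hkl hkm hlm h1.1 h1.2.1 h1.2.2.1 h2.2.1)
  rcases h.stepA hil hij hjl.symm hx.1 hx.2.1 hQ with h1 | h1
  · rcases key x hx h1 with h2 | h2
    · exact Or.inl h2
    · exact Or.inr (Or.inl h2)
  · have h3 : Tr E U i j k (M.e (sg l)) := h.e_tr hij hik hjk
      (by simp only [sg, Pi.single_apply, hil, hjl, if_false])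
      (by simp only [sg, Pi.single_apply, hil, hkl, if_false])
    have h4 : Tr E U i l j (x * M.e (sg l)) := by
      have h5 : M.e (sg l) = M.e (pp i j) * M.e (pp k m) := by
        rw [← M.e_add, ← pp_sg i j k l m hij hik hil him hjk hjl hjm hkl hkm hlm, M.e_add _ 1, M.e_one,
          mul_one]
      rw [h5, ← mul_assoc]
      refine h.tr_mul h1 (h.e_tr hil hij hjl.symm ?_ ?_)
      · simp only [pp, sg, Pi.add_apply, Pi.single_apply, hik, him, hkl.symm, hlm, if_false]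
      · simp only [pp, sg, Pi.add_apply, Pi.single_apply, hik, him, hjk, hjm, if_false]
    have h6 : x = (x * M.e (sg l)) * M.e (sg l) := by rw [mul_assoc, M.e_sq, mul_one]
    rcases key _ (h.tr_mul hx h3) h4 with h2 | h2
    · right; right; left
      rw [h6, h2, one_mul]
    · right; right; right
      rw [h6, h2, M.e_add]

omit h in
/-- the eight vectors orthogonal to `{i, k}` -/
theorem fin8 (c₀ c₁ c₂ : Bool) : ∃ t : Fin 8, (t.val % 2 = 1 ↔ c₀ = true) ∧ (t.val / 2 % 2 = 1 ↔ c₁ = true) ∧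
    (t.val / 4 = 1 ↔ c₂ = true) := by
  revert c₀ c₁ c₂
  decide +kernel

omit h in
/-- the eight vectors orthogonal to `{i, k}` -/
def ff (i k l m : Fin 5) (t : Fin 8) : Vec :=
  (if t.val % 2 = 1 then sg m else 0) + (if t.val / 2 % 2 = 1 then sg l else 0) +
    (if t.val / 4 = 1 then pp i k else 0)

omit h in
theorem ff_eq (i k l m : Fin 5) (c₀ c₁ c₂ : Bool) : ∃ t : Fin 8, ff i k l m t =
    (if c₀ = true then sg m else 0) + (if c₁ = true then sg l else 0) + (if c₂ = true then pp i k else 0) := by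
  obtain ⟨t, h0, h1, h2⟩ := fin8 c₀ c₁ c₂
  refine ⟨t, ?_⟩
  simp only [ff, h0, h1, h2]

/-- **(g)** `E ∩ U_{ik} = {i,k}^⊥` -/
theorem stepG {i j k l m : Fin 5} (hij : i ≠ j) (hik : i ≠ k) (hil : i ≠ l) (him : i ≠ m) (hjk : j ≠ k)
    (hjl : j ≠ l) (hjm : j ≠ m) (hkl : k ≠ l) (hkm : k ≠ m) (hlm : l ≠ m) {x : G} (hE : x ∈ E)
    (hx : x ∈ U i k) : ∃ t : Fin 8, x = M.e (ff i k l m t) := by
  have hfour : ∀ z, Tr E U i j k z → ∃ c₀ c₁ : Bool,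
      z = M.e ((if c₀ = true then sg m else 0) + (if c₁ = true then sg l else 0)) := by
    intro z hz
    rcases h.stepF hij hik hil him hjk hjl hjm hkl hkm hlm hz with h1 | h1 | h1 | h1
    · exact ⟨false, false, by rw [h1]; simp [M.e_zero]⟩
    · exact ⟨true, false, by rw [h1]; simp⟩
    · exact ⟨false, true, by rw [h1]; simp⟩
    · exact ⟨true, true, by rw [h1]; simp⟩
  have hQ : x ∈ Q i j := by
    refine h.trick i j hij x hE (fun t => M.e (ff i k l m t)) fun y hy => ?_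
    have h1 : Tr E U i j k (x * y * x⁻¹ * y⁻¹) := by
      refine h.tr_of hij hik hjk ?_ ?_ ?_
      · have e : x * y * x⁻¹ * y⁻¹ = x * (y * x⁻¹ * y⁻¹) := by group
        rw [e]; exact mul_mem hE (h.U_E i j hij _ (inv_mem hE) _ hy)
      · exact mul_mem (h.E_U i j hij _ hE _ hy) (inv_mem hy)
      · have e : x * y * x⁻¹ * y⁻¹ = x * (y * x⁻¹ * y⁻¹) := by group
        rw [e]; exact mul_mem hx (h.U_U i j i k hij hik _ hy _ (inv_mem hx))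
    obtain ⟨c₀, c₁, h2⟩ := hfour _ h1
    obtain ⟨t, ht⟩ := ff_eq i k l m c₀ c₁ false
    refine ⟨t, ?_⟩
    rw [h2, ht]; simp
  rcases h.stepA hij hik hjk hE hx hQ with h1 | h1
  · obtain ⟨c₀, c₁, h2⟩ := hfour _ h1
    obtain ⟨t, ht⟩ := ff_eq i k l m c₀ c₁ false
    refine ⟨t, ?_⟩
    rw [h2, ht]; simp
  · obtain ⟨c₀, c₁, h2⟩ := hfour _ h1
    obtain ⟨t, ht⟩ := ff_eq i k l m c₀ c₁ true
    refine ⟨t, ?_⟩
    have h3 : x = (x * M.e (pp i k)) * M.e (pp i k) := by rw [mul_assoc, M.e_sq, mul_one]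
    rw [h3, h2, ht, ← M.e_add]; simp

/-- **(h)** `E ≤ Q_{ij}` -/
theorem E_le {i j : Fin 5} (hij : i ≠ j) : E ≤ Q i j := by
  intro x hE
  obtain ⟨k, l, m, ⟨hik, hil, him⟩, ⟨hjk, hjl, hjm⟩, hkl, hkm, hlm⟩ := exists_three i j hij
  refine h.trick i j hij x hE (fun t => M.e (ff i j l m t)) fun y hy => ?_
  refine h.stepG (j := k) hik hij hil him hjk.symm hkl hkm hjl hjm hlm ?_ ?_
  · have e : x * y * x⁻¹ * y⁻¹ = x * (y * x⁻¹ * y⁻¹) := by group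
    rw [e]; exact mul_mem hE (h.U_E i j hij _ (inv_mem hE) _ hy)
  · exact mul_mem (h.E_U i j hij _ hE _ hy) (inv_mem hy)

end Eng

end Cfsg.Agent.Omega.IId.LFour.Crux
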