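import Cfsg.Agent.Omega.IId.LFour.Crux
import Cfsg.Agent.Omega.IId.LFour.CruxA

/-!
# The crux of `S₅ wr 2` (project OMEGA, II.d L4; text helper839 #18434 (1)-(3)): `⟨V₁^{C(V₂)}⟩ ≤ O₂(C_G(p))`

The lattice calculus of `CruxA` applies to `E = AA V₁ V₂ = ⟨V₁^{C(V₂)}⟩`, `Q_p = O₂(C_G(p))`, `U_p = Ω₁Z(Q_p)`,
`p` a duad of `V₁`.

* `eng` : the instance of `Eng`;
* `A_le_Q` : `⟨V₁^{C(V₂)}⟩ ≤ Q_p` for all duads `p` of `V₁`.
-/

set_option autoImplicit false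
set_option linter.unusedSectionVars false

namespace Cfsg.Agent.Omega.IId.LFour.Crux

open Subgroup Pointwise Cfsg
open Cfsg.Agent.ZN (zc o2)
open Cfsg.Agent.Omega.S5.Mod Cfsg.Agent.Omega.S5.TT
open Cfsg.Agent.Omega.S5.TT.Pos (e_sq' mem_C)
open Cfsg.Agent.MinSimple.VModule (mem_zc zc_le zc_comm zc_sq le_normalizer_o2 o2_isPGroup o2_le le_o2
  normalizer_le_normalizer_zc)
open Cfsg.Agent.Omega.IId.One (Kk mem_Kk conj_Kk Kk_conj le_normalizer_Kk cz mem_cz Kk_le mem_zp)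
open Cfsg.Agent.Omega.IId.LFour.TriLoc (sg pp sg_comp pp_comp)

universe u

variable {G : Type u} [Group G]

theorem du_eq (i j : Fin 5) : du i j = pp i j := rfl

/-! ### Conjugation -/

/-- `Q_v = O₂(C_G(v))` -/
abbrev Qv (v : G) : Subgroup G := o2 (centralizer ({v} : Set G))

/-- `U_v = Ω₁Z(O₂(C_G(v)))` -/
abbrev Uv (v : G) : Subgroup G := zc (Qv v)

theorem conj_Qv {g v v' x : G} (h : g * v * g⁻¹ = v') (hx : x ∈ Qv v) : g * x * g⁻¹ ∈ Qv v' := by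
  rw [← h, Qv, Triangle.o2_cent_conj]
  exact ⟨x, hx, rfl⟩

theorem conj_Uv {g v v' x : G} (h : g * v * g⁻¹ = v') (hx : x ∈ Uv v) : g * x * g⁻¹ ∈ Uv v' := by
  obtain ⟨h1, h2, h3⟩ := mem_zc.1 hx
  refine mem_zc.2 ⟨conj_Qv h h1, fun b hb => ?_, ?_⟩
  · have h4 : g⁻¹ * v' * g⁻¹⁻¹ = v := by rw [← h]; group
    have h5 := h2 _ (conj_Qv h4 hb)
    rw [inv_inv] at h5
    calc b * (g * x * g⁻¹) = g * ((g⁻¹ * b * g) * x) * g⁻¹ := by group
      _ = g * (x * (g⁻¹ * b * g)) * g⁻¹ := by rw [h5]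
      _ = g * x * g⁻¹ * b := by group
  · rw [pow_two] at h3 ⊢
    calc g * x * g⁻¹ * (g * x * g⁻¹) = g * (x * x) * g⁻¹ := by group
      _ = 1 := by rw [h3]; group

theorem norm_Qv {g v : G} (h : g * v = v * g) : g ∈ normalizer (Qv v : Set G) :=
  le_normalizer_o2 _ (mem_C.2 h)

theorem norm_Uv {g v : G} (h : g * v = v * g) : g ∈ normalizer (Uv v : Set G) :=
  normalizer_le_normalizer_zc _ (norm_Qv h)

theorem norm_conj {H : Subgroup G} {g x : G} (hg : g ∈ normalizer (H : Set G)) (hx : x ∈ H) : g * x * g⁻¹ ∈ H :=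
  (mem_normalizer_iff.1 hg x).1 hx

theorem norm_conj' {H : Subgroup G} {g x : G} (hg : g ∈ normalizer (H : Set G)) (hx : x ∈ H) : g⁻¹ * x * g ∈ H := by
  have := (mem_normalizer_iff.1 (inv_mem hg) x).1 hx
  rwa [inv_inv] at this

/-! ### The trick -/

/-- **(1) TRICK.**  `x` an involution centralising `p`, `U` abelian, normalised by `x` and by `C_G(p)`, `V ≤ U` of
order `≥ 16`, `x ∈ O₂(C_G(v))` for all `1 ≠ v ∈ V`, `|[U, x]| < 16`: `x ∈ O₂(C_G(p))`. -/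
theorem trickU [Finite G] {p x : G} {U V : Subgroup G} (hxp : x * p = p * x) (hx2 : x * x = 1)
    (hUc : ∀ a ∈ U, ∀ b ∈ U, a * b = b * a) (hUn : centralizer ({p} : Set G) ≤ normalizer (U : Set G))
    (hV : V ≤ U) (hc : 16 ≤ Nat.card V) (hxv : ∀ v ∈ V, v ≠ 1 → x ∈ o2 (centralizer ({v} : Set G)))
    (f : Fin 8 → G) (hf : ∀ y ∈ U, ∃ t, x * y * x⁻¹ * y⁻¹ = f t) : x ∈ Qv p := by
  by_contra hn
  obtain ⟨d, hd, hd1, hodd, hinv⟩ := exists_inverted (mem_C.2 hxp) hx2 hn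
  have hdU : ∀ v ∈ V, d * v * d⁻¹ ∈ U := fun v hv => norm_conj (hUn hd) (hV hv)
  choose F hF using fun v : V => hf _ (hdU v v.2)
  have hni : ¬ Function.Injective F := by
    intro hi
    have h1 := Nat.card_le_card_of_injective F hi
    rw [Nat.card_eq_fintype_card (α := Fin 8), Fintype.card_fin] at h1
    omega
  rw [Function.Injective] at hni
  push Not at hni
  obtain ⟨v, v', hvv, hne⟩ := hni
  have h1 : x * (d * v * d⁻¹) * x⁻¹ * (d * v * d⁻¹)⁻¹ = x * (d * v' * d⁻¹) * x⁻¹ * (d * v' * d⁻¹)⁻¹ := by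
    rw [hF v, hF v', hvv]
  set y : G := d * v * d⁻¹ with hy
  set y' : G := d * v' * d⁻¹ with hy'
  have hyU : y ∈ U := hdU v v.2
  have hyU' : y' ∈ U := hdU v' v'.2
  have hxU : x ∈ normalizer (U : Set G) := hUn (mem_C.2 hxp)
  have hcU : x * y' * x⁻¹ * y'⁻¹ ∈ U := mul_mem (norm_conj hxU hyU') (inv_mem hyU')
  have h2 : x * (y * y'⁻¹) = y * y'⁻¹ * x := by
    have e1 : x * (y * y'⁻¹) * x⁻¹ = (x * y * x⁻¹ * y⁻¹) * (y * y'⁻¹) * (x * y' * x⁻¹ * y'⁻¹)⁻¹ := by group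
    have e2 : (x * y' * x⁻¹ * y'⁻¹) * (y * y'⁻¹) = (y * y'⁻¹) * (x * y' * x⁻¹ * y'⁻¹) :=
      hUc _ hcU _ (mul_mem hyU (inv_mem hyU'))
    rw [h1, e2, mul_inv_cancel_right] at e1
    exact mul_inv_eq_iff_eq_mul.1 e1
  have h3 : y * y'⁻¹ = d * ((v : G) * (v' : G)⁻¹) * d⁻¹ := by rw [hy, hy']; group
  refine hd1 (trick (v := (v : G) * (v' : G)⁻¹) hodd hinv (hxv _ (mul_mem v.2 (inv_mem v'.2)) ?_) ?_)
  · intro h0
    exact hne (Subtype.ext (mul_inv_eq_one.1 h0))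
  · rw [← h3]; exact h2

/-! ### The instance -/

section inst

variable {S : Sylow 2 G} {P V₁ V₂ L₁ L₂ : Subgroup G} {M₁ : FiveMod V₁ L₁} {M₂ : FiveMod V₂ L₂}
variable [Finite G] (wr : Wr S P M₁ M₂)

/-- `V₂ ≤ U_p` -/
theorem V₂_le_U (D₁ : DF M₁ V₂) (M₂ : FiveMod V₂ L₂) {i j : Fin 5} (hij : i ≠ j) : V₂ ≤ Uv (M₁.e (du i j)) := fun v hv =>
  mem_zc.2 ⟨D₁.q i j hij hv, fun b hb => (mem_centralizer_iff.1 (D₁.qc i j hij hb) v hv).symm, by
    obtain ⟨y, rfl⟩ := (M₂.mem_iff v).1 hv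
    exact e_sq' M₂ y⟩

/-- `U_p ≤ C(V₁)` -/
theorem U_cent₁ (D₁ : DF M₁ V₂) {i j : Fin 5} (hij : i ≠ j) {a : G} (ha : a ∈ Uv (M₁.e (du i j))) (y : Vec) :
    a * M₁.e y = M₁.e y * a :=
  ((mem_zc.1 ha).2.1 _ (D₁.s i j hij (M₁.e_mem y))).symm

/-- `U_p ≤ C(V₂)` -/
theorem U_cent₂ (D₁ : DF M₁ V₂) {i j : Fin 5} (hij : i ≠ j) {a : G} (ha : a ∈ Uv (M₁.e (du i j))) :
    a ∈ centralizer (V₂ : Set G) := D₁.qc i j hij (zc_le _ ha)

/-- `p^⊥ ≤ U_p` -/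
theorem perp_U (D₁ : DF M₁ V₂) {i j : Fin 5} (hij : i ≠ j) {y : Vec} (hy : y i = y j) :
    M₁.e y ∈ Uv (M₁.e (du i j)) := by
  refine mem_zc.2 ⟨D₁.s i j hij (M₁.e_mem y), fun b hb => ?_, e_sq' M₁ y⟩
  rcases D₁.ind i j hij b hb with h | h
  · exact mul_inv_eq_iff_eq_mul.1 (by rw [h]; rfl)
  · exact mul_inv_eq_iff_eq_mul.1 (swap_fix h hy)

/-- `A` commutes with `V₁` -/
theorem A_e (D₂ : DF M₂ V₁) {x : G} (wr : Wr S P M₁ M₂) (hx : x ∈ AA V₁ V₂) (y : Vec) :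
    x * M₁.e y = M₁.e y * x :=
  (mem_centralizer_iff.1 (A_cent₁ wr D₂ hx) _ (M₁.e_mem y)).symm

/-- `C(V₂)` normalises `A` -/
theorem norm_A {x : G} (hx : x ∈ centralizer (V₂ : Set G)) : x ∈ normalizer (AA V₁ V₂ : Set G) :=
  le_normalizer_ncl _ _ hx

theorem du_self : ∀ i j : Fin 5, du i j i = du i j j := by
  decide +kernel

/-- `C_G(U_p) ≤ C_G(p)` -/
theorem cent_U_le (D₁ : DF M₁ V₂) {i j : Fin 5} (hij : i ≠ j) :
    centralizer (Uv (M₁.e (du i j)) : Set G) ≤ centralizer ({M₁.e (du i j)} : Set G) := by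
  intro c hc
  exact mem_C.2 (mem_centralizer_iff.1 hc _ (perp_U D₁ hij (du_self i j))).symm

/-- a 2-subgroup of `C_G(U_p)` normalised by `C_G(U_p)` lies in `Q_p` -/
theorem le_Q_of (D₁ : DF M₁ V₂) {i j : Fin 5} (hij : i ≠ j) {N : Subgroup G}
    (hN : N ≤ centralizer (Uv (M₁.e (du i j)) : Set G)) (hN2 : IsPGroup 2 N)
    (hn : centralizer (Uv (M₁.e (du i j)) : Set G) ≤ normalizer (N : Set G)) : N ≤ Qv (M₁.e (du i j)) := by
  refine (le_o2 hN hN2 hn).trans (o2_le_o2_of_normal' (cent_U_le D₁ hij) (normalizer_cent ?_))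
  intro g hg
  exact norm_Uv (mem_C.1 hg)

/-- (b) -/
theorem b_Q (D₁ : DF M₁ V₂) (wr : Wr S P M₁ M₂) {i j : Fin 5} (hij : i ≠ j) {x : G}
    (hx : x ∈ AA V₁ V₂) (hc : ∀ y ∈ Uv (M₁.e (du i j)), x * y = y * x) : x ∈ Qv (M₁.e (du i j)) := by
  refine le_Q_of D₁ hij (N := AA V₁ V₂ ⊓ centralizer (Uv (M₁.e (du i j)) : Set G)) inf_le_right
    ((A_isPGroup wr).to_le inf_le_left) ?_ ⟨hx, mem_centralizer_iff.2 fun y hy => (hc y hy).symm⟩
  refine Half.le_normalizer_inf ?_ le_normalizer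
  intro c hc
  exact norm_A (centralizer_le (V₂_le_U D₁ M₂ hij) hc)

theorem du_disj : ∀ i j k l : Fin 5, k ≠ i → k ≠ j → l ≠ i → l ≠ j → du k l i = du k l j := by
  decide +kernel

/-- (c) -/
theorem c_Q (D₁ : DF M₁ V₂) {i j k l : Fin 5} (hij : i ≠ j) (hkl : k ≠ l) (hki : k ≠ i) (hkj : k ≠ j)
    (hli : l ≠ i) (hlj : l ≠ j) {x : G} (hc : ∀ y ∈ Uv (M₁.e (du i j)), x * y = y * x) {w : G}
    (hw : w ∈ Kk (M₁.e (du k l))) : w * x * w⁻¹ * x⁻¹ ∈ Qv (M₁.e (du i j)) := by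
  set C : Subgroup G := centralizer (Uv (M₁.e (du i j)) : Set G) with hC
  have hCK : C ≤ normalizer (Kk (M₁.e (du k l)) : Set G) := by
    intro c hc
    refine le_normalizer_Kk _ (mem_cz.2 ?_)
    exact (mem_centralizer_iff.1 hc _ (perp_U D₁ hij (du_disj i j k l hki hkj hli hlj))).symm
  have hxC : x ∈ C := mem_centralizer_iff.2 fun y hy => (hc y hy).symm
  have hwN : w * M₁.e (du i j) = M₁.e (du i j) * w := by
    rcases D₁.ind k l hkl w (D₁.kq k l hkl hw) with h | h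
    · exact mul_inv_eq_iff_eq_mul.1 (by rw [h]; rfl)
    · exact mul_inv_eq_iff_eq_mul.1 (swap_fix h (du_disj k l i j hki.symm hli.symm hkj.symm hlj.symm))
  have hwC : w ∈ normalizer (C : Set G) :=
    normalizer_cent (H := centralizer ({M₁.e (du i j)} : Set G)) (fun g hg => norm_Uv (mem_C.1 hg)) (mem_C.2 hwN)
  refine le_Q_of D₁ hij (N := C ⊓ Kk (M₁.e (du k l))) inf_le_left
    ((o2_isPGroup _).to_le (inf_le_right.trans (D₁.kq k l hkl))) (Half.le_normalizer_inf le_normalizer hCK) (mem_inf.2 ⟨?_, ?_⟩)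
  · exact mul_mem (norm_conj hwC hxC) (inv_mem hxC)
  · have e : w * x * w⁻¹ * x⁻¹ = w * (x * w⁻¹ * x⁻¹) := by group
    rw [e]
    exact mul_mem hw (norm_conj (hCK hxC) (inv_mem hw))

theorem du_ne_mem : ∀ i j l : Fin 5, i ≠ j → i ≠ l → j ≠ l → du i j i ≠ du i j l := by
  decide +kernel

/-- **The instance of the lattice calculus.** -/
theorem eng (D₁ : DF M₁ V₂) (D₂ : DF M₂ V₁) (wr : Wr S P M₁ M₂) {w : Fin 5 → Fin 5 → G}
    (hw : ∀ i j, i ≠ j → w i j ∈ Kk (M₁.e (du i j)) ∧ M₁.Ind (w i j) (Equiv.swap i j)) :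
    Eng M₁ (AA V₁ V₂) (fun i j => Uv (M₁.e (du i j))) (fun i j => Qv (M₁.e (du i j))) w := by
  have hz : ∀ i j, M₁.e (du i j) * M₁.e (du i j) = 1 := fun i j => M₁.e_sq _
  have hwQ : ∀ i j, i ≠ j → w i j ∈ Qv (M₁.e (du i j)) := fun i j hij => D₁.kq i j hij (hw i j hij).1
  have hwe : ∀ i j k l, i ≠ j → w i j * M₁.e (du k l) * (w i j)⁻¹ =
      M₁.e (du (Equiv.swap i j k) (Equiv.swap i j l)) := fun i j k l hij => by
    rw [(hw i j hij).2, du_comp]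
  have hwe' : ∀ i j k l, i ≠ j → (w i j)⁻¹ * M₁.e (du k l) * (w i j)⁻¹⁻¹ =
      M₁.e (du (Equiv.swap i j k) (Equiv.swap i j l)) := fun i j k l hij => by
    rw [(hw i j hij).2.inv, du_comp, Equiv.swap_inv]
  exact {
    U_symm := fun i j => by simp only [du_comm i j]
    Q_symm := fun i j => by simp only [du_comm i j]
    U_comm := fun i j hij a ha b hb => zc_comm _ a ha b hb
    U_sq := fun i j hij a ha => by rw [← pow_two]; exact zc_sq _ a ha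
    U_Q := fun i j hij a ha b hb => ((mem_zc.1 ha).2.1 b hb).symm
    U_U := fun i j k l hij hkl a ha b hb => norm_conj (norm_Uv (U_cent₁ D₁ hij ha _)) hb
    w_Q := hwQ
    w_U := fun i j k l hij hkl x hx => conj_Uv (hwe i j k l hij) hx
    w_U' := fun i j k l hij hkl x hx => by
      have := conj_Uv (hwe' i j k l hij) hx
      rwa [inv_inv] at this
    w_e := fun i j hij y => (hw i j hij).2 y
    w_Qm := fun i j hij y hy => mem_zp (hz i j) ((hw i j hij).1.2 y hy)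
    K_Q := fun i j a b hij hab h hh y hy => by
      have h1 : y ∈ normalizer (Kk (M₁.e (du i j)) : Set G) :=
        le_normalizer_Kk _ (mem_cz.2 (U_cent₁ D₁ hab hy _))
      have h2 : w i j * y * (w i j)⁻¹ * y⁻¹ ∈ Kk (M₁.e (du i j)) := by
        have e : w i j * y * (w i j)⁻¹ * y⁻¹ = w i j * (y * (w i j)⁻¹ * y⁻¹) := by group
        rw [e]
        exact mul_mem (hw i j hij).1 (norm_conj h1 (inv_mem (hw i j hij).1))
      set c := w i j * y * (w i j)⁻¹ * y⁻¹ with hc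
      have h3 := mem_zp (hz i j) (h2.2 h hh)
      have e : h * c * h⁻¹ * c⁻¹ = (c * h * c⁻¹ * h⁻¹)⁻¹ := by group
      rw [e]
      rcases h3 with h3 | h3
      · left; rw [h3, inv_one]
      · right; rw [h3, M₁.e_inv]; rfl
    c_Q := fun i j k l hij hkl hki hkj hli hlj x _ hc => c_Q D₁ hij hkl hki hkj hli hlj hc (hw k l hkl).1
    b_Q := fun i j hij x hx hc => b_Q D₁ wr hij hx hc
    E_comm := fun a ha b hb => A_comm wr D₂ ha hb
    E_sq := fun a ha => A_sq wr D₂ ha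
    E_U := fun i j hij x hx y hy => norm_conj (norm_Uv (A_e D₂ wr hx _)) hy
    U_E := fun i j hij x hx y hy => norm_conj (norm_A (U_cent₂ D₁ hij hy)) hx
    w_E := fun i j hij x hx => norm_conj (norm_A (D₁.qc i j hij (hwQ i j hij))) hx
    w_E' := fun i j hij x hx => norm_conj' (norm_A (D₁.qc i j hij (hwQ i j hij))) hx
    e_E := fun y => V₁_le_A (M₁.e_mem y)
    e_U := fun i j hij y hy => perp_U D₁ hij hy
    not_mem := fun i j l hij hil hjl h => by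
      have h1 := (mem_zc.1 h).2.1 _ (hwQ i l hil)
      have h2 := swap_mov (hw i l hil).2 (du_ne_mem i j l hij hil hjl)
      rw [du_eq i j, h1, mul_inv_cancel_right] at h2
      exact du_ne M₁ hil (mul_eq_right.1 h2.symm)
    inf := fun x hx h => fixA wr D₁ D₂ hx fun i j hij k hk => (mem_zc.1 (h i j hij)).2.1 k (D₁.kq i j hij hk)
    trick := fun i j hij x hx f hf => trickU (A_e D₂ wr hx _) (A_sq wr D₂ hx) (zc_comm _)
      (fun g hg => norm_Uv (mem_C.1 hg)) (V₂_le_U D₁ M₂ hij) (card_ge M₂)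
      (fun v hv hv1 => A_le_o2 wr hv hv1 hx) f hf }

/-- **(1)-(3)** `⟨V₁^{C(V₂)}⟩ ≤ O₂(C_G(p))` for all duads `p` of `V₁`. -/
theorem A_le_Q (D₁ : DF M₁ V₂) (D₂ : DF M₂ V₁) (wr : Wr S P M₁ M₂) {i j : Fin 5} (hij : i ≠ j) :
    AA V₁ V₂ ≤ o2 (centralizer ({M₁.e (du i j)} : Set G)) := by
  choose! w hw using D₁.k
  exact (eng D₁ D₂ wr hw).E_le hij

include wr in
/-- **(1)-(3)** from `K_n ≰ C(V₁)`. -/
theorem A_le_Q' (hk : ∃ g ∈ Kk (M₁.e nn), M₁.Ind g (Equiv.swap 0 1)) {i j : Fin 5} (hij : i ≠ j) :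
    AA V₁ V₂ ≤ o2 (centralizer ({M₁.e (du i j)} : Set G)) :=
  A_le_Q (df₁ wr hk) (df₂ wr hk) wr hij

end inst

end Cfsg.Agent.Omega.IId.LFour.Crux
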