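import Cfsg.Agent.Omega.IId.LFour.Crux
import Cfsg.Agent.Omega.IId.LFour.NoTri

/-!
# `Aut_G(V₂) = S₅`, `N_G(V₂) = L₂ C_G(V₂)` (project OMEGA, II.d L4; #18392 COR (1), #18434 (4))

`w : Wr S P M₁ M₂`, `D₂ : DF M₂ V₁` (LFour/Crux.lean), `A = AA V₁ V₂ = ⟨V₁^{C_G(V₂)}⟩`, `S₁ = N_S(V₁)`.

* `exists_d₂` : every permutation is induced on `V₂` by an element of `L₂` which centralises `A`;
* `syl_norm` : `S₁` is a Sylow 2-subgroup of `N_G(V₂)`; `syl_cent` : `S₁ ∩ C(V₂)` of `C_G(V₂)`;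
* `exists_ind_norm` : `N_G(V₂)` induces `S₅` on `V₂`;
* `norm_le` : `C_G(V₂) ≤ N_G(V₁)` implies `N_G(V₂) ≤ N_G(V₁)`.
-/

set_option autoImplicit false
set_option linter.unusedSectionVars false

namespace Cfsg.Agent.Omega.IId.LFour.NormEq

open Subgroup Pointwise Cfsg Cfsg.Agent.ZN Cfsg.Agent.Omega.MinPar
open Cfsg.Agent.ZN.ChoiceBase (cj mem_cj)
open Cfsg.Agent.Omega.S5.Mod Cfsg.Agent.Omega.S5.TT
open Cfsg.Agent.Omega.S5.TT.Pos (na ns as sn n_ne s_ne a_ne n_ne_a n_ne_s a_ne_s e_sq' mem_C)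
open Cfsg.Agent.Omega.IId.One (Kk mem_Kk conj_Kk Kk_conj cz mem_cz Kk_le)
open Cfsg.Agent.Omega.TwoFFour (Syl2)
open Cfsg.Agent.Omega.IId.LFour.Crux

universe u

variable {G : Type u} [Group G]

/-! ### Permutations -/

theorem tv_aux : ∀ p : Equiv.Perm (Fin 5), p * dd = dd * p → p = 1 ∨ p = Equiv.swap 0 1 ∨ p = Equiv.swap 2 3 ∨
    ∃ i j : Fin 5, ¬ ((Pi.single i 1 : Vec) ∘ p.symm + Pi.single i 1 = 0 ∨
        (Pi.single i 1 : Vec) ∘ p.symm + Pi.single i 1 = 1) ∧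
      ¬ ((Pi.single j 1 : Vec) ∘ p.symm + Pi.single j 1 = 0 ∨
        (Pi.single j 1 : Vec) ∘ p.symm + Pi.single j 1 = 1) ∧
      ¬ ((Pi.single i 1 : Vec) ∘ p.symm + Pi.single i 1 = (Pi.single j 1 : Vec) ∘ p.symm + Pi.single j 1 ∨
        (Pi.single i 1 : Vec) ∘ p.symm + Pi.single i 1 = (Pi.single j 1 : Vec) ∘ p.symm + Pi.single j 1 + 1) := by
  decide +kernel

theorem aa_eq : aa = du 2 3 := by decide +kernel

theorem nn_eq : nn = du 0 1 := by decide +kernel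

/-- the vectors modulo `1` -/
theorem vec_three : ∀ x : Vec, (x = 0 ∨ x = 1) ∨ (∃ i : Fin 5, x = Pi.single i 1 ∨ x = Pi.single i 1 + 1) ∨
    ∃ i j : Fin 5, i ≠ j ∧ (x = du i j ∨ x = du i j + 1) := by
  decide +kernel

theorem single_ne_du : ∀ i j k : Fin 5, j ≠ k → ¬ ((Pi.single i 1 : Vec) = du j k ∨
    (Pi.single i 1 : Vec) = du j k + 1) := by
  decide +kernel

theorem single_ne : ∀ i : Fin 5, ¬ ((Pi.single i 1 : Vec) = 0 ∨ (Pi.single i 1 : Vec) = 1) := by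
  decide +kernel

theorem z2 : ∀ c : ZMod 2, c = 0 ∨ c = 1 := by decide

/-- `N_G(X)` normalises `C_G(X)` -/
theorem norm_cent (X : Subgroup G) : normalizer (X : Set G) ≤ normalizer (centralizer (X : Set G) : Set G) := by
  have key : ∀ {g c : G}, g ∈ normalizer (X : Set G) → c ∈ centralizer (X : Set G) →
      g * c * g⁻¹ ∈ centralizer (X : Set G) := by
    intro g c hg hc
    refine mem_centralizer_iff.2 fun x hx => ?_
    have h3 : g⁻¹ * x * g ∈ X := by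
      have := (mem_normalizer_iff.1 (inv_mem hg) x).1 hx
      rwa [inv_inv] at this
    have h4 := mem_centralizer_iff.1 hc _ h3
    calc x * (g * c * g⁻¹) = g * ((g⁻¹ * x * g) * c) * g⁻¹ := by group
      _ = g * (c * (g⁻¹ * x * g)) * g⁻¹ := by rw [h4]
      _ = g * c * g⁻¹ * x := by group
  intro g hg
  rw [mem_normalizer_iff]
  intro c
  refine ⟨key hg, fun hc => ?_⟩
  have h3 := key (inv_mem hg) hc
  have e : g⁻¹ * (g * c * g⁻¹) * g⁻¹⁻¹ = c := by group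
  rwa [e] at h3

theorem eq_top_of_swaps {H : Subgroup (Equiv.Perm (Fin 5))} (h : ∀ i j, i ≠ j → Equiv.swap i j ∈ H) : H = ⊤ := by
  rw [eq_top_iff, ← Equiv.Perm.closure_isSwap, closure_le]
  rintro _ ⟨i, j, hij, rfl⟩
  exact h i j hij

/-- a transvection in `D₈` is a transposition with its centre -/
theorem tv_ind {V L : Subgroup G} {M : FiveMod V L} {g r : G} {p : Equiv.Perm (Fin 5)} (hp : M.Ind g p)
    (hd : p * dd = dd * p) (hr : ∀ v ∈ V, g * v * g⁻¹ = v ∨ g * v * g⁻¹ = r * v) :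
    p = 1 ∨ (p = Equiv.swap 0 1 ∧ r = M.e (du 0 1)) ∨ (p = Equiv.swap 2 3 ∧ r = M.e (du 2 3)) := by
  have key : ∀ x : Vec, x ∘ p.symm + x = 0 ∨ x ∘ p.symm + x = 1 ∨ M.e (x ∘ p.symm + x) = r := by
    intro x
    rw [← or_assoc, ← M.ker]
    rcases hr _ (M.e_mem x) with h | h
    · left
      rw [hp] at h
      rw [M.e_add, h, M.e_sq]
    · right
      rw [hp] at h
      rw [M.e_add, h, mul_assoc, M.e_sq, mul_one]
  rcases tv_aux p hd with h | rfl | rfl | ⟨i, j, h1, h2, h3⟩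
  · exact Or.inl h
  · right; left
    refine ⟨rfl, ?_⟩
    have e : (Pi.single 0 1 : Vec) ∘ (Equiv.swap 0 1 : Equiv.Perm (Fin 5)).symm + Pi.single 0 1 = du 0 1 := by
      decide +kernel
    rcases key (Pi.single 0 1) with h | h | h
    · rw [e] at h; exact absurd (Or.inl h) (mt (M.ker _).2 (du_ne M (by decide)))
    · rw [e] at h; exact absurd (Or.inr h) (mt (M.ker _).2 (du_ne M (by decide)))
    · rw [e] at h; exact h.symm
  · right; right
    refine ⟨rfl, ?_⟩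
    have e : (Pi.single 2 1 : Vec) ∘ (Equiv.swap 2 3 : Equiv.Perm (Fin 5)).symm + Pi.single 2 1 = du 2 3 := by
      decide +kernel
    rcases key (Pi.single 2 1) with h | h | h
    · rw [e] at h; exact absurd (Or.inl h) (mt (M.ker _).2 (du_ne M (by decide)))
    · rw [e] at h; exact absurd (Or.inr h) (mt (M.ker _).2 (du_ne M (by decide)))
    · rw [e] at h; exact h.symm
  · exfalso
    apply h3
    rw [← M.e_eq_iff]
    rcases key (Pi.single i 1) with h | h | h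
    · exact absurd (Or.inl h) h1
    · exact absurd (Or.inr h) h1
    rcases key (Pi.single j 1) with h' | h' | h'
    · exact absurd (Or.inl h') h2
    · exact absurd (Or.inr h') h2
    rw [h, h']

section wr

variable {S : Sylow 2 G} {P V₁ V₂ L₁ L₂ : Subgroup G} {M₁ : FiveMod V₁ L₁} {M₂ : FiveMod V₂ L₂}
variable [Finite G] (wr : Wr S P M₁ M₂)

/-! ### Elements of `L₂` centralising `A` -/

include wr in
theorem Kk_le_L₂ : Kk (M₂.e nn) ≤ L₂ := by
  intro x hx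
  have h1 := wr.symm.Q_le_T (wr.symm.Kk_le_Q hx)
  exact wr.mem_L₂ (wr.S_le h1.1) fun v hv =>
    (mem_centralizer_iff.1 (wr.symm.quarter_cent (wr.symm.Kk_le_Q hx)) v hv).symm

include wr in
theorem L₂_norm_A : L₂ ≤ normalizer (AA V₁ V₂ : Set G) := by
  refine norm_ncl ((M₂.le_normalizer).trans (norm_cent V₂)) ?_
  · refine le_trans ?_ (centralizer_le_normalizer _)
    rw [wr.L₂_eq]
    exact inf_le_right

include wr in
/-- Every permutation is induced on `V₂` by an element of `L₂` which centralises `A`. -/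
theorem exists_d₂ (D₂ : DF M₂ V₁) (p : Equiv.Perm (Fin 5)) :
    ∃ d ∈ L₂, M₂.Ind d p ∧ ∀ x ∈ AA V₁ V₂, d * x = x * d := by
  let H : Subgroup (Equiv.Perm (Fin 5)) := ((centralizer (AA V₁ V₂ : Set G)).subgroupOf L₂).map M₂.pi
  have hH : H = ⊤ := by
    refine eq_top_of_swaps fun i j hij => ?_
    obtain ⟨x, hx, hxi⟩ := D₂.k 0 1 (by decide)
    rw [← nn_eq] at hx
    have hxL : x ∈ L₂ := Kk_le_L₂ wr hx
    obtain ⟨q, h0, h1⟩ := exists_perm i j hij
    obtain ⟨l, hl, hi⟩ := M₂.exists_lift q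
    have hi : M₂.Ind l q := hi
    have hmem : l * x * l⁻¹ ∈ L₂ := mul_mem (mul_mem hl hxL) (inv_mem hl)
    refine Subgroup.mem_map.2 ⟨⟨l * x * l⁻¹, hmem⟩, mem_subgroupOf.2 (mem_centralizer_iff.2 fun v hv => ?_), ?_⟩
    · have h2 : l⁻¹ * v * l ∈ AA V₁ V₂ := by
        have := (mem_normalizer_iff.1 (inv_mem (L₂_norm_A wr hl)) v).1 hv
        rwa [inv_inv] at this
      have h3 : l⁻¹ * v * l * x = x * (l⁻¹ * v * l) := by
        have h4 := A_le_cent D₂ (i := 0) (j := 1) (by decide) h2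
        rw [← nn_eq] at h4
        exact (mem_centralizer_iff.1 h4 x (wr.symm.Kk_le_Q hx)).symm
      calc v * (l * x * l⁻¹) = l * (l⁻¹ * v * l * x) * l⁻¹ := by group
        _ = l * (x * (l⁻¹ * v * l)) * l⁻¹ := by rw [h3]
        _ = l * x * l⁻¹ * v := by group
    · refine M₂.pi_eq ?_
      have h2 : M₂.Ind (l * x * l⁻¹) (q * Equiv.swap 0 1 * q⁻¹) := (hi.mul hxi).mul hi.inv
      rwa [← Equiv.swap_apply_apply, h0, h1] at h2
  have hp : p ∈ H := by rw [hH]; exact mem_top _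
  obtain ⟨d, hd, rfl⟩ := Subgroup.mem_map.1 hp
  exact ⟨d, d.2, M₂.pi_spec d, fun x hx => (mem_centralizer_iff.1 (mem_subgroupOf.1 hd) x hx).symm⟩

/-! ### Sylow 2-subgroups -/

include wr in
theorem S₁_le_cent : (S : Subgroup G) ⊓ normalizer (V₁ : Set G) ≤ centralizer ({M₂.e ss} : Set G) := fun _ hx =>
  mem_C.2 (wr.S₁_comm_s₂ hx)

include wr in
theorem S₁_le_norm : (S : Subgroup G) ⊓ normalizer (V₁ : Set G) ≤ normalizer (V₂ : Set G) := by
  rw [wr.S₁_eq]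
  exact inf_le_right

include wr in
/-- `S₁` is a Sylow 2-subgroup of `C_G(σ₂)` -/
theorem syl_s₂ : Syl2 ((S : Subgroup G) ⊓ normalizer (V₁ : Set G)) (centralizer ({M₂.e ss} : Set G)) := by
  refine ⟨S₁_le_cent wr, S.isPGroup'.to_le inf_le_left, ?_⟩
  have := wr.no_tri'
  rwa [← wr.S₁_eq] at this

include wr in
/-- `S₁` is a Sylow 2-subgroup of `N_G(V₂)` -/
theorem syl_norm : Syl2 ((S : Subgroup G) ⊓ normalizer (V₁ : Set G)) (normalizer (V₂ : Set G)) := by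
  refine ⟨S₁_le_norm wr, S.isPGroup'.to_le inf_le_left, ?_⟩
  set S₁ := (S : Subgroup G) ⊓ normalizer (V₁ : Set G) with hS₁
  have hS2 : IsPGroup 2 S₁ := S.isPGroup'.to_le inf_le_left
  -- a Sylow 2-subgroup `R ≥ S₁` of `N_G(V₂)`
  obtain ⟨R, hR⟩ := (hS2.comap_of_injective _ (normalizer (V₂ : Set G)).subtype_injective :
    IsPGroup 2 (S₁.subgroupOf (normalizer (V₂ : Set G)))).exists_le_sylow
  set R' : Subgroup G := (R : Subgroup (normalizer (V₂ : Set G))).map (normalizer (V₂ : Set G)).subtype with hR'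
  have hSR : S₁ ≤ R' := fun x hx => ⟨⟨x, S₁_le_norm wr hx⟩, hR (mem_subgroupOf.2 hx), rfl⟩
  have hR2 : IsPGroup 2 R' := R.isPGroup'.map _
  have hRN : R' ≤ normalizer (V₂ : Set G) := map_subtype_le _
  -- a fixed vector
  have hV2 : IsPGroup 2 V₂ := M₂.isPGroup
  have hV1 : V₂ ≠ ⊥ := fun h => n_ne M₂ ((eq_bot_iff_forall V₂).1 h _ (M₂.e_mem nn))
  obtain ⟨v, hv, hv1, hvR⟩ := Half.exists_fixed hV2 hV1 hR2 hRN
  have hvs : v = M₂.e ss := by
    rcases wr.symm.fixed₁ hv (fun t ht => by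
      have h1 : t ∈ S₁ := by
        rw [hS₁, wr.S₁_eq]
        exact ⟨ht.1, M₂.le_normalizer ht.2⟩
      exact mul_inv_eq_iff_eq_mul.1 (hvR t (hSR h1))) with h | h
    · exact absurd h hv1
    · exact h
  have hRC : R' ≤ centralizer ({M₂.e ss} : Set G) := fun x hx => mem_C.2 (by
    have := mul_inv_eq_iff_eq_mul.1 (hvR x hx)
    rwa [hvs] at this)
  -- `R = S₁`
  have hle : Nat.card R' ≤ Nat.card S₁ := card_le_of_syl (syl_s₂ wr) hRC hR2
  have heq : R' = S₁ := (Subgroup.eq_of_le_of_card_ge hSR hle).symm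
  have h2 : S₁.subgroupOf (normalizer (V₂ : Set G)) = (R : Subgroup (normalizer (V₂ : Set G))) := by
    rw [← heq, hR', subgroupOf, comap_map_eq_self_of_injective (normalizer (V₂ : Set G)).subtype_injective]
  rw [relIndex, h2]
  exact R.not_dvd_index

include wr in
/-- `S₁ ∩ C(V₂)` is a Sylow 2-subgroup of `C_G(V₂)` -/
theorem syl_cent : Syl2 ((S : Subgroup G) ⊓ normalizer (V₁ : Set G) ⊓ centralizer (V₂ : Set G))
    (centralizer (V₂ : Set G)) :=
  (syl_norm wr).inf (centralizer_le_normalizer _) (norm_cent V₂)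

/-! ### `Aut_G(V₂) = S₅` -/

include wr in
/-- an element of `N_G(V₂)` does not map a duad to `σ₂` -/
theorem not_ss (D₂ : DF M₂ V₁) {g : G} (hg : g ∈ normalizer (V₂ : Set G)) {i j : Fin 5} (hij : i ≠ j) :
    g * M₂.e (du i j) * g⁻¹ ≠ M₂.e ss := by
  intro h0
  obtain ⟨x, hx, hxi⟩ := D₂.k i j hij
  -- `y = g x g⁻¹` is a transvection with centre `σ₂`
  set y := g * x * g⁻¹ with hy
  have hxn : ∀ v ∈ V₂, x * v * x⁻¹ = v ∨ x * v * x⁻¹ = M₂.e (du i j) * v := fun v hv =>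
    Kk_conj (M₂.e_sq _) hx (D₂.s i j hij hv)
  have hyn : ∀ v ∈ V₂, y * v * y⁻¹ = v ∨ y * v * y⁻¹ = M₂.e ss * v := by
    intro v hv
    have h1 : g⁻¹ * v * g ∈ V₂ := by
      have := (mem_normalizer_iff.1 (inv_mem hg) v).1 hv
      rwa [inv_inv] at this
    have e : y * v * y⁻¹ = g * (x * (g⁻¹ * v * g) * x⁻¹) * g⁻¹ := by rw [hy]; group
    rcases hxn _ h1 with h2 | h2
    · left
      rw [e, h2]; group
    · right
      rw [e, h2, ← h0]; group
  have hyN : y ∈ normalizer (V₂ : Set G) := mul_mem (mul_mem hg hxi.mem_normalizer) (inv_mem hg)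
  -- `⟨y⟩` is a 2-group in `C_G(σ₂) ∩ N_G(V₂)`
  have hyC : y ∈ centralizer ({M₂.e ss} : Set G) := by
    refine mem_C.2 ?_
    have h1 := mem_C.1 (Kk_le _ hx)
    rw [hy, ← h0]
    calc g * x * g⁻¹ * (g * M₂.e (du i j) * g⁻¹) = g * (x * M₂.e (du i j)) * g⁻¹ := by group
      _ = g * (M₂.e (du i j) * x) * g⁻¹ := by rw [h1]
      _ = _ := by group
  have hx2 : IsPGroup 2 (zpowers x) := by
    refine IsPGroup.to_le (MinSimple.VModule.o2_isPGroup (centralizer ({M₂.e (du i j)} : Set G))) ?_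
    rw [zpowers_le]
    exact D₂.kq i j hij hx
  have hy2 : IsPGroup 2 (zpowers y) := by
    have h1 : zpowers y = (zpowers x).map (MulAut.conj g).toMonoidHom := by
      rw [MonoidHom.map_zpowers]; rfl
    rw [h1]
    exact hx2.map _
  have hsyl : Syl2 ((S : Subgroup G) ⊓ normalizer (V₁ : Set G))
      (centralizer ({M₂.e ss} : Set G) ⊓ normalizer (V₂ : Set G)) :=
    (syl_s₂ wr).mono (le_inf (S₁_le_cent wr) (S₁_le_norm wr)) inf_le_left
  obtain ⟨c, hc, hcy⟩ := hsyl.exists_conj_le (R := zpowers y) (by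
    rw [zpowers_le]; exact ⟨hyC, hyN⟩) hy2
  have h1 := hcy y (mem_zpowers y)
  obtain ⟨p, q, -, hq⟩ := wr.S₁_ind h1
  have hqd : q * dd = dd * q := wr.symm.dS wr.S_le h1.1 hq
  have hcs : c * M₂.e ss * c⁻¹ = M₂.e ss := by rw [mem_C.1 hc.1, mul_inv_cancel_right]
  have hn : ∀ v ∈ V₂, c * y * c⁻¹ * v * (c * y * c⁻¹)⁻¹ = v ∨ c * y * c⁻¹ * v * (c * y * c⁻¹)⁻¹ = M₂.e ss * v := by
    intro v hv
    have h2 : c⁻¹ * v * c ∈ V₂ := by
      have := (mem_normalizer_iff.1 (inv_mem hc.2) v).1 hv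
      rwa [inv_inv] at this
    have e : c * y * c⁻¹ * v * (c * y * c⁻¹)⁻¹ = c * (y * (c⁻¹ * v * c) * y⁻¹) * c⁻¹ := by group
    rcases hyn _ h2 with h3 | h3
    · left
      rw [e, h3]; group
    · right
      rw [e, h3]
      calc c * (M₂.e ss * (c⁻¹ * v * c)) * c⁻¹ = c * M₂.e ss * c⁻¹ * v := by group
        _ = _ := by rw [hcs]
  have hne : ∀ a b : Fin 5, a ≠ b → M₂.e ss ≠ M₂.e (du a b) := by
    intro a b hab h
    rw [M₂.e_eq_iff] at h
    have e : (ss : Vec) = Pi.single 4 1 := ss_eq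
    rw [e] at h
    exact single_ne_du 4 a b hab h
  rcases tv_ind hq hqd hn with h | ⟨-, h⟩ | ⟨-, h⟩
  · -- `c y c⁻¹`, hence `x`, centralises `V₂`
    rw [h] at hq
    have h2 : M₂.Ind x 1 := by
      rw [FiveMod.ind_one_iff, mem_centralizer_iff]
      intro v hv
      have h3 : (c * g) * v * (c * g)⁻¹ ∈ V₂ := (mem_normalizer_iff.1 (mul_mem hc.2 hg) v).1 hv
      have h4 := mem_centralizer_iff.1 (FiveMod.ind_one_iff.1 hq) _ h3
      have h5 : c * y * c⁻¹ = (c * g) * x * (c * g)⁻¹ := by rw [hy]; group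
      rw [h5] at h4
      have h6 : (c * g) * (v * x) * (c * g)⁻¹ = (c * g) * (x * v) * (c * g)⁻¹ := by
        calc (c * g) * (v * x) * (c * g)⁻¹ = (c * g) * v * (c * g)⁻¹ * ((c * g) * x * (c * g)⁻¹) := by group
          _ = (c * g) * x * (c * g)⁻¹ * ((c * g) * v * (c * g)⁻¹) := h4
          _ = _ := by group
      exact mul_left_cancel (mul_right_cancel h6)
    have h3 := h2.unique hxi
    exact hij (by
      have := congrArg (fun r : Equiv.Perm (Fin 5) => r i) h3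
      simpa using this)
  · exact hne 0 1 (by decide) h
  · exact hne 2 3 (by decide) h

include wr in
/-- elements of `N_G(V₂)` map duads to duads -/
theorem conj_du (D₂ : DF M₂ V₁) {g : G} (hg : g ∈ normalizer (V₂ : Set G)) {i j : Fin 5} (hij : i ≠ j) :
    ∃ k l, k ≠ l ∧ g * M₂.e (du i j) * g⁻¹ = M₂.e (du k l) := by
  have h1 : g * M₂.e (du i j) * g⁻¹ ∈ V₂ := (mem_normalizer_iff.1 hg _).1 (M₂.e_mem _)
  obtain ⟨x, hx⟩ := (M₂.mem_iff _).1 h1
  rcases vec_three x with h | ⟨k, h⟩ | ⟨k, l, hkl, h⟩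
  · exfalso
    have h2 : M₂.e x = 1 := (M₂.ker x).2 h
    rw [hx, conj_eq_one_iff] at h2
    exact du_ne M₂ hij h2
  · exfalso
    have h2 : M₂.e x = M₂.e (Pi.single k 1) := M₂.e_eq_iff.2 h
    obtain ⟨l, hl, hi⟩ := M₂.exists_lift (Equiv.swap k 4)
    have hi : M₂.Ind l (Equiv.swap k 4) := hi
    refine not_ss wr D₂ (g := l * g) (mul_mem (M₂.le_normalizer hl) hg) hij ?_
    calc l * g * M₂.e (du i j) * (l * g)⁻¹ = l * (g * M₂.e (du i j) * g⁻¹) * l⁻¹ := by group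
      _ = l * M₂.e (Pi.single k 1) * l⁻¹ := by rw [← hx, h2]
      _ = M₂.e ss := by rw [hi, FiveMod.single_comp, Equiv.swap_apply_left, ss_eq]
  · exact ⟨k, l, hkl, by rw [← hx]; exact M₂.e_eq_iff.2 h⟩

include wr in
/-- elements of `N_G(V₂)` map singular vectors to singular vectors -/
theorem conj_single (D₂ : DF M₂ V₁) {g : G} (hg : g ∈ normalizer (V₂ : Set G)) (i : Fin 5) :
    ∃ k, g * M₂.e (Pi.single i 1) * g⁻¹ = M₂.e (Pi.single k 1) := by
  have h1 : g * M₂.e (Pi.single i 1) * g⁻¹ ∈ V₂ := (mem_normalizer_iff.1 hg _).1 (M₂.e_mem _)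
  obtain ⟨x, hx⟩ := (M₂.mem_iff _).1 h1
  rcases vec_three x with h | ⟨k, h⟩ | ⟨k, l, hkl, h⟩
  · exfalso
    have h2 : M₂.e x = 1 := (M₂.ker x).2 h
    rw [hx, conj_eq_one_iff, M₂.ker] at h2
    exact single_ne i h2
  · exact ⟨k, by rw [← hx]; exact M₂.e_eq_iff.2 h⟩
  · exfalso
    have h2 : M₂.e x = M₂.e (du k l) := M₂.e_eq_iff.2 h
    obtain ⟨a, b, hab, h3⟩ := conj_du wr D₂ (inv_mem hg) hkl
    rw [← h2, hx] at h3
    have h4 : M₂.e (Pi.single i 1) = M₂.e (du a b) := by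
      rw [← h3]; group
    rw [M₂.e_eq_iff] at h4
    exact single_ne_du i a b hab h4

include wr in
/-- **`Aut_G(V₂) = S₅`.** -/
theorem exists_ind_norm (D₂ : DF M₂ V₁) {g : G} (hg : g ∈ normalizer (V₂ : Set G)) : ∃ p, M₂.Ind g p := by
  have h := conj_single wr D₂ hg
  choose k hk using h
  have kinj : Function.Injective k := by
    intro i j hij
    have h1 := hk i
    rw [hij, ← hk j] at h1
    have h2 : M₂.e (Pi.single i 1) = M₂.e (Pi.single j 1) := mul_left_cancel (mul_right_cancel h1)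
    exact FiveMod.single_inj _ _ (M₂.e_eq_iff.1 h2)
  have kbij : Function.Bijective k := Finite.injective_iff_bijective.1 kinj
  let p : Equiv.Perm (Fin 5) := Equiv.ofBijective k kbij
  refine ⟨p, ?_⟩
  -- both sides are additive
  have key : ∀ x : Vec, g * M₂.e x * g⁻¹ = M₂.e (x ∘ p.symm) := by
    have hadd : ∀ x y : Vec, g * M₂.e x * g⁻¹ = M₂.e (x ∘ p.symm) → g * M₂.e y * g⁻¹ = M₂.e (y ∘ p.symm) →
        g * M₂.e (x + y) * g⁻¹ = M₂.e ((x + y) ∘ p.symm) := by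
      intro x y hx hy
      have e : (x + y) ∘ p.symm = x ∘ p.symm + y ∘ p.symm := rfl
      rw [e, M₂.e_add, M₂.e_add, ← hx, ← hy]; group
    have h0 : g * M₂.e 0 * g⁻¹ = M₂.e ((0 : Vec) ∘ p.symm) := by
      have e : (0 : Vec) ∘ p.symm = 0 := rfl
      rw [e, M₂.e_zero]; group
    have hs : ∀ i, g * M₂.e (Pi.single i 1) * g⁻¹ = M₂.e ((Pi.single i 1 : Vec) ∘ p.symm) := by
      intro i
      rw [FiveMod.single_comp, hk i]
      rfl
    have hc : ∀ (i : Fin 5) (c : ZMod 2), g * M₂.e (Pi.single i c) * g⁻¹ =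
        M₂.e ((Pi.single i c : Vec) ∘ p.symm) := by
      intro i c
      rcases z2 c with rfl | rfl
      · rw [Pi.single_zero]; exact h0
      · exact hs i
    intro x
    have hx : x = ∑ i, Pi.single i (x i) := (Finset.univ_sum_single x).symm
    have hsum : ∀ s : Finset (Fin 5), g * M₂.e (∑ i ∈ s, Pi.single i (x i)) * g⁻¹ =
        M₂.e ((∑ i ∈ s, Pi.single i (x i) : Vec) ∘ p.symm) := by
      intro s
      classical
      induction s using Finset.induction_on with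
      | empty => rw [Finset.sum_empty]; exact h0
      | insert a s ha ih => rw [Finset.sum_insert ha]; exact hadd _ _ (hc a _) ih
    rw [hx]
    exact hsum Finset.univ
  exact key

/-! ### `N_G(V₂) = L₂ C_G(V₂)` -/

include wr in
theorem norm_eq_mul (D₂ : DF M₂ V₁) {g : G} (hg : g ∈ normalizer (V₂ : Set G)) :
    ∃ l ∈ L₂, l⁻¹ * g ∈ centralizer (V₂ : Set G) := by
  obtain ⟨p, hp⟩ := exists_ind_norm wr D₂ hg
  obtain ⟨l, hl, hi⟩ := M₂.exists_lift p
  have hi : M₂.Ind l p := hi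
  have h1 : M₂.Ind (l⁻¹ * g) (p⁻¹ * p) := hi.inv.mul hp
  rw [inv_mul_cancel] at h1
  exact ⟨l, hl, FiveMod.ind_one_iff.1 h1⟩

include wr in
/-- **COR (1)**: `C_G(V₂) ≤ N_G(V₁)` implies `N_G(V₂) ≤ N_G(V₁)`. -/
theorem norm_le (D₂ : DF M₂ V₁) (h : centralizer (V₂ : Set G) ≤ normalizer (V₁ : Set G)) :
    normalizer (V₂ : Set G) ≤ normalizer (V₁ : Set G) := by
  intro g hg
  obtain ⟨l, hl, hlg⟩ := norm_eq_mul wr D₂ hg
  have h1 : L₂ ≤ normalizer (V₁ : Set G) := by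
    refine le_trans ?_ (centralizer_le_normalizer _)
    rw [wr.L₂_eq]
    exact inf_le_right
  have h2 := mul_mem (h1 hl) (h hlg)
  rwa [mul_inv_cancel_left] at h2

include wr in
theorem norm_eq (D₁ : DF M₁ V₂) (D₂ : DF M₂ V₁) (h : centralizer (V₂ : Set G) ≤ normalizer (V₁ : Set G))
    (h' : centralizer (V₁ : Set G) ≤ normalizer (V₂ : Set G)) :
    normalizer (V₁ : Set G) = normalizer (V₂ : Set G) :=
  le_antisymm (norm_le wr.symm D₁ h') (norm_le wr D₂ h)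

end wr

end Cfsg.Agent.Omega.IId.LFour.NormEq
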