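import Cfsg.Agent.Omega.IId.LFour.CruxB
import Cfsg.Agent.Omega.IId.LFour.NormEq
import Cfsg.Agent.Omega.IId.LFour.CenO2
import Cfsg.Agent.Omega.NSix.TvGroup

/-!
# The crux, the end: `V₁` is normal in `C_G(V₂)`, `N_G(V₁) = N_G(V₂)` (project OMEGA, II.d L4; #18434 (4), helper839)

`w : Wr S P M₁ M₂`, `hk : ∃ g ∈ K_n, M₁.Ind g (0 1)`, `A = ⟨V₁^{C_G(V₂)}⟩ ≤ O₂(C_G(n))` (CruxB).  `C_G(V₂)` acts on
`A = ⟨n^{C_G(V₂)}⟩` as a group generated by transvections (`TV.Sys`).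

* `fix_mem` : `C_A(S₁ ∩ C(V₂)) ≤ V₁`;
* `gsys` : the structure `TV.GSys`;
* `not_big` : only one transvection with centre `n`;
* `A_le_V₁` : `A = V₁`; `cent_le_norm` : `C_G(V₂) ≤ N_G(V₁)`;
* `norm_eq` : **`N_G(V₁) = N_G(V₂)`**.
-/

set_option autoImplicit false
set_option linter.unusedSectionVars false
set_option linter.unusedVariables false

namespace Cfsg.Agent.Omega.IId.LFour.CruxC

open Subgroup Cfsg Cfsg.Agent.ZN Cfsg.Agent.Omega.MinPar
open Cfsg.Agent.Omega.S5.Mod Cfsg.Agent.Omega.S5.TT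
open Cfsg.Agent.Omega.S5.TT.Pos (na ns as sn n_ne s_ne a_ne n_ne_a n_ne_s a_ne_s e_sq' mem_C)
open Cfsg.Agent.Omega.IId.One (Kk mem_Kk conj_Kk Kk_conj cz mem_cz Kk_le)
open Cfsg.Agent.Omega.TwoFFour (Syl2)
open Cfsg.Agent.Omega.IId.LFour.Crux Cfsg.Agent.Omega.IId.LFour.NormEq
open Cfsg.Agent.Omega.TV (Fn Sys GSys EA)

universe u

variable {G : Type u} [Group G]

theorem sg_span' : ∀ y : Vec, ∃ b₀ b₁ b₂ b₃ : Bool,
    (y = cond b₀ (Pi.single 0 1) 0 + cond b₁ (Pi.single 1 1) 0 + cond b₂ (Pi.single 2 1) 0 +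
        cond b₃ (Pi.single 3 1) 0 ∨
     y = cond b₀ (Pi.single 0 1) 0 + cond b₁ (Pi.single 1 1) 0 + cond b₂ (Pi.single 2 1) 0 +
        cond b₃ (Pi.single 3 1) 0 + 1) := by
  decide +kernel

theorem du_span : ∀ y : Vec, ∃ b₀ b₁ b₂ b₃ : Bool,
    (y = cond b₀ (du 0 4) 0 + cond b₁ (du 1 4) 0 + cond b₂ (du 2 4) 0 + cond b₃ (du 3 4) 0 ∨
     y = cond b₀ (du 0 4) 0 + cond b₁ (du 1 4) 0 + cond b₂ (du 2 4) 0 + cond b₃ (du 3 4) 0 + 1) := by
  decide +kernel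

/-- a Sylow 2-subgroup -/
theorem exists_syl2 [Finite G] (L : Subgroup G) : ∃ Q, Syl2 Q L := by
  obtain ⟨R⟩ : Nonempty (Sylow 2 L) := inferInstance
  refine ⟨(R : Subgroup L).map L.subtype, map_subtype_le _, R.isPGroup'.map _, ?_⟩
  have h2 : ((R : Subgroup L).map L.subtype).subgroupOf L = (R : Subgroup L) := by
    rw [subgroupOf, comap_map_eq_self_of_injective L.subtype_injective]
  rw [relIndex, h2]
  exact R.not_dvd_index

section wr

variable {S : Sylow 2 G} {P V₁ V₂ L₁ L₂ : Subgroup G} {M₁ : FiveMod V₁ L₁} {M₂ : FiveMod V₂ L₂}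
variable [Finite G] (wr : Wr S P M₁ M₂)

/-- `T₂ = S₁ ∩ C(V₂)` -/
abbrev TT₂ (S : Sylow 2 G) (V₁ V₂ : Subgroup G) : Subgroup G :=
  (S : Subgroup G) ⊓ normalizer (V₁ : Set G) ⊓ centralizer (V₂ : Set G)

include wr in
theorem T₂_le_L₁ : TT₂ S V₁ V₂ ≤ L₁ := by
  rw [wr.L₁_eq]
  exact le_inf ((inf_le_left.trans inf_le_left).trans wr.S_le) inf_le_right

include wr in
theorem A_le_T₂ (D₂ : DF M₂ V₁) : AA V₁ V₂ ≤ TT₂ S V₁ V₂ :=
  (syl_cent wr).le_of_normal (A_cent₂ D₂) (le_normalizer_ncl _ _) (A_isPGroup wr)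

include wr in
theorem o2P_le_T₂ : o2 P ≤ TT₂ S V₁ V₂ := by
  refine le_inf wr.o2P_le_S₁ ?_
  rw [← IsParS.inf_centralizer S wr.hG wr.star]
  exact inf_le_right.trans (centralizer_le wr.V₂_le)

include wr in
/-- **`C_A(S₁ ∩ C(V₂)) ≤ V₁`** -/
theorem fix_mem (D₂ : DF M₂ V₁) {u : G} (hu : u ∈ AA V₁ V₂) (h : ∀ t ∈ TT₂ S V₁ V₂, t * u = u * t) : u ∈ V₁ := by
  have husq : u ^ 2 = 1 := by rw [pow_two]; exact A_sq wr D₂ hu
  have huO : u ∈ o2 P := centralizer_o2_le wr.hG S wr.star.isLoc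
    (mem_centralizer_iff.2 fun x hx => h x (o2P_le_T₂ wr hx))
  have huz : u ∈ zc (o2 P) := MinSimple.VModule.mem_zc.2 ⟨huO, fun x hx => h x (o2P_le_T₂ wr hx), husq⟩
  have huS : u ∈ (S : Subgroup G) ⊓ normalizer (V₁ : Set G) := (A_le_T₂ wr D₂ hu).1
  have hS₁ : ∀ x ∈ (S : Subgroup G) ⊓ normalizer (V₁ : Set G), x * u = u * x := by
    intro x hx
    obtain ⟨p, q, hp, hq⟩ := wr.S₁_ind hx
    obtain ⟨t, ht, hti⟩ := wr.d₁' p (wr.dS wr.S_le hx.1 hp)
    have htT : t ∈ TT₂ S V₁ V₂ := by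
      refine ⟨⟨ht.1, M₁.le_normalizer ht.2⟩, ?_⟩
      have := ht.2
      rw [wr.L₁_eq] at this
      exact this.2
    obtain ⟨d, hdL, hdi, hdA⟩ := exists_d₂ wr D₂ q
    have hk : t⁻¹ * x * d⁻¹ ∈ P ⊓ centralizer (zl (S : Subgroup G) P : Set G) := by
      refine mem_inf.2 ⟨P.mul_mem (P.mul_mem (P.inv_mem (wr.S_le ht.1)) (wr.S_le hx.1)) (P.inv_mem (wr.L₂_le hdL)), ?_⟩
      have h1 : M₁.Ind (t⁻¹ * x * d⁻¹) (p⁻¹ * p * (1 : Equiv.Perm (Fin 5))⁻¹) :=
        (hti.inv.mul hp).mul (wr.ind₁_of_L₂ hdL).inv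
      have h2 : M₂.Ind (t⁻¹ * x * d⁻¹) ((1 : Equiv.Perm (Fin 5))⁻¹ * q * q⁻¹) :=
        ((wr.ind₂_of_L₁ ht.2).inv.mul hq).mul hdi.inv
      have e1 : p⁻¹ * p * (1 : Equiv.Perm (Fin 5))⁻¹ = 1 := by group
      have e2 : (1 : Equiv.Perm (Fin 5))⁻¹ * q * q⁻¹ = 1 := by group
      rw [e1] at h1
      rw [e2] at h2
      have h3 := FiveMod.ind_one_iff.1 h1
      have h4 := FiveMod.ind_one_iff.1 h2
      have h5 : zl (S : Subgroup G) P ≤ centralizer ({t⁻¹ * x * d⁻¹} : Set G) := by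
        rw [wr.sup]
        refine sup_le (fun v hv => mem_C.2 ?_) (fun v hv => mem_C.2 ?_)
        · exact mem_centralizer_iff.1 h3 v hv
        · exact mem_centralizer_iff.1 h4 v hv
      exact mem_centralizer_iff.2 fun v hv => mem_C.1 (h5 hv)
    have hku := mem_centralizer_iff.1 (le_centralizer_zc_o2 wr.hG S wr.star hk) u huz
    have htu := h t htT
    have hdu := hdA u hu
    calc x * u = t * (t⁻¹ * x * d⁻¹) * (d * u) := by group
      _ = t * ((t⁻¹ * x * d⁻¹) * u) * d := by rw [hdu]; group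
      _ = t * (u * (t⁻¹ * x * d⁻¹)) * d := by rw [hku]
      _ = (t * u) * (t⁻¹ * x * d⁻¹) * d := by group
      _ = u * x := by rw [htu]; group
  have huZ : u ∈ zc ((S : Subgroup G) ⊓ normalizer (V₁ : Set G)) :=
    MinSimple.VModule.mem_zc.2 ⟨huS, hS₁, husq⟩
  rcases wr.zS₁_le huZ with h1 | h1 | h1 | h1
  · rw [h1]; exact one_mem _
  · rw [h1]; exact M₁.e_mem _
  · exfalso
    rw [h1] at hu
    exact ss_not_mem_A D₂ hu
  · exfalso
    have h2 : M₂.e ss = M₁.e ss * u := by rw [h1, ← mul_assoc, M₁.e_sq, one_mul]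
    have h3 : M₂.e ss ∈ AA V₁ V₂ := by
      rw [h2]; exact mul_mem (V₁_le_A (M₁.e_mem _)) hu
    exact ss_not_mem_A D₂ h3

/-! ### `TV.GSys` -/

include wr in
/-- `A` is generated by the conjugates of `σ₁` and by the conjugates of `n` -/
theorem A_gen {x₀ : Vec} (h : (∀ i, ∃ l ∈ L₁, M₁.e (Pi.single i 1) = l * M₁.e x₀ * l⁻¹) ∨
      ∀ i, i ≠ 4 → ∃ l ∈ L₁, M₁.e (du i 4) = l * M₁.e x₀ * l⁻¹) :
    AA V₁ V₂ ≤ closure {x | ∃ c ∈ centralizer (V₂ : Set G), x = c * M₁.e x₀ * c⁻¹} := by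
  set B := closure {x | ∃ c ∈ centralizer (V₂ : Set G), x = c * M₁.e x₀ * c⁻¹} with hB
  have hL : L₁ ≤ centralizer (V₂ : Set G) := by
    rw [wr.L₁_eq]; exact inf_le_right
  have hBC : centralizer (V₂ : Set G) ≤ normalizer (B : Set G) := by
    apply Two.le_normalizer_of
    intro c hc x hx
    induction hx using closure_induction with
    | mem x hx =>
      obtain ⟨g, hg, rfl⟩ := hx
      have e : c * (g * M₁.e x₀ * g⁻¹) * c⁻¹ = (c * g) * M₁.e x₀ * (c * g)⁻¹ := by group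
      rw [e]
      exact subset_closure ⟨c * g, mul_mem hc hg, rfl⟩
    | one => simp
    | mul x y _ _ hx hy =>
      have e : c * (x * y) * c⁻¹ = (c * x * c⁻¹) * (c * y * c⁻¹) := by group
      rw [e]
      exact mul_mem hx hy
    | inv x _ hx =>
      have e : c * x⁻¹ * c⁻¹ = (c * x * c⁻¹)⁻¹ := by group
      rw [e]
      exact inv_mem hx
  refine ncl_le ?_ hBC
  intro v hv
  obtain ⟨y, rfl⟩ := (M₁.mem_iff v).1 hv
  have key : ∀ b : Bool, ∀ z : Vec, M₁.e z ∈ B → M₁.e (cond b z 0) ∈ B := by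
    intro b z hz
    cases b
    · change M₁.e 0 ∈ B
      rw [M₁.e_zero]; exact one_mem _
    · exact hz
  have hone : ∀ z : Vec, M₁.e z ∈ B → M₁.e (z + 1) ∈ B := by
    intro z hz
    rw [M₁.e_add, M₁.e_one, mul_one]
    exact hz
  rcases h with h | h
  · have hs : ∀ i, M₁.e (Pi.single i 1) ∈ B := by
      intro i
      obtain ⟨l, hl, e⟩ := h i
      rw [e]
      exact subset_closure ⟨l, hL hl, rfl⟩
    obtain ⟨b₀, b₁, b₂, b₃, e⟩ := sg_span' y
    have h4 : M₁.e (cond b₀ (Pi.single 0 1) 0 + cond b₁ (Pi.single 1 1) 0 + cond b₂ (Pi.single 2 1) 0 +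
        cond b₃ (Pi.single 3 1) 0) ∈ B := by
      rw [M₁.e_add, M₁.e_add, M₁.e_add]
      exact mul_mem (mul_mem (mul_mem (key _ _ (hs 0)) (key _ _ (hs 1))) (key _ _ (hs 2))) (key _ _ (hs 3))
    rcases e with e | e
    · rw [e]; exact h4
    · rw [e]; exact hone _ h4
  · have hs : ∀ i, i ≠ 4 → M₁.e (du i 4) ∈ B := by
      intro i hi
      obtain ⟨l, hl, e⟩ := h i hi
      rw [e]
      exact subset_closure ⟨l, hL hl, rfl⟩
    obtain ⟨b₀, b₁, b₂, b₃, e⟩ := du_span y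
    have h4 : M₁.e (cond b₀ (du 0 4) 0 + cond b₁ (du 1 4) 0 + cond b₂ (du 2 4) 0 +
        cond b₃ (du 3 4) 0) ∈ B := by
      rw [M₁.e_add, M₁.e_add, M₁.e_add]
      exact mul_mem (mul_mem (mul_mem (key _ _ (hs 0 (by decide))) (key _ _ (hs 1 (by decide))))
        (key _ _ (hs 2 (by decide)))) (key _ _ (hs 3 (by decide)))
    rcases e with e | e
    · rw [e]; exact h4
    · rw [e]; exact hone _ h4

omit [Finite G] in
theorem exists_single (M : FiveMod V₁ L₁) (i : Fin 5) :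
    ∃ l ∈ L₁, M.e (Pi.single i 1) = l * M.e ss * l⁻¹ := by
  obtain ⟨l, hl, hi⟩ := M.exists_lift (Equiv.swap 4 i)
  have hi : M.Ind l (Equiv.swap 4 i) := hi
  refine ⟨l, hl, ?_⟩
  rw [hi, ss_eq, FiveMod.single_comp, Equiv.swap_apply_left]

omit [Finite G] in
theorem exists_du (M : FiveMod V₁ L₁) {i j : Fin 5} (hij : i ≠ j) :
    ∃ l ∈ L₁, M.e (du i j) = l * M.e nn * l⁻¹ := by
  obtain ⟨q, h0, h1⟩ := exists_perm i j hij
  obtain ⟨l, hl, hi⟩ := M.exists_lift q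
  have hi : M.Ind l q := hi
  refine ⟨l, hl, ?_⟩
  rw [hi, nn_comp, h0, h1]

include wr in
theorem gsys (D₂ : DF M₂ V₁) : GSys (centralizer (V₂ : Set G)) (AA V₁ V₂) (M₁.e nn) where
  sq := fun x hx => A_sq wr D₂ hx
  nor := fun c hc n hn => (mem_normalizer_iff.1 (le_normalizer_ncl _ _ hc) n).1 hn
  mem := V₁_le_A (M₁.e_mem _)
  ne := n_ne M₁
  gen := A_gen wr (Or.inr fun i hi => exists_du M₁ hi)
  chain := NSix.TvGroup.chain_of (z := M₁.e ss) (T := TT₂ S V₁ V₂) (fun x hx => A_sq wr D₂ hx)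
    (fun c hc n hn => (mem_normalizer_iff.1 (le_normalizer_ncl _ _ hc) n).1 hn) (V₁_le_A (M₁.e_mem _))
    (A_gen wr (Or.inl (exists_single M₁))) (syl_cent wr).le (syl_cent wr).two (syl_cent wr).odd
    (fun t ht => mul_inv_eq_iff_eq_mul.2 (wr.S₁_comm_s₁ ht.1))

/-! ### Only one transvection with centre `n` -/

include wr in
theorem not_big (hk : ∃ g ∈ Kk (M₁.e nn), M₁.Ind g (Equiv.swap 0 1)) {g : G}
    (hg : g ∈ centralizer (V₂ : Set G))
    (hgn : ∀ x ∈ AA V₁ V₂, g * x * g⁻¹ = x ∨ g * x * g⁻¹ = M₁.e nn * x)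
    (hgr : g * M₁.e nn = M₁.e nn * g)
    (hga : g * M₁.e (du 2 3) * g⁻¹ = M₁.e nn * M₁.e (du 2 3)) : False := by
  have D₁ : DF M₁ V₂ := df₁ wr hk
  have D₂ : DF M₂ V₁ := df₂ wr hk
  obtain ⟨t, ht, hti⟩ := hk
  set C := centralizer (V₂ : Set G) with hC
  set A := AA V₁ V₂ with hA
  set r := M₁.e nn with hr
  have hrr : r * r = 1 := M₁.e_sq _
  have hr01 : r = M₁.e (du 0 1) := by rw [hr, NormEq.nn_eq]
  have hCA : C ≤ normalizer (A : Set G) := le_normalizer_ncl _ _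
  have htC : t ∈ C := wr.quarter_cent (wr.Kk_le_Q ht)
  have htn : ∀ x ∈ A, t * x * t⁻¹ = x ∨ t * x * t⁻¹ = r * x := by
    intro x hx
    refine Kk_conj hrr ht ?_
    have h1 := A_le_Q' wr ⟨t, ht, hti⟩ (i := 0) (j := 1) (by decide) hx
    rwa [← NormEq.nn_eq] at h1
  have htr : t * r = r * t := mem_C.1 (Kk_le _ ht)
  -- the group of the transvections with centre `r`
  let K : Subgroup G :=
    { carrier := {x | x ∈ C ∧ x * r = r * x ∧ ∀ n ∈ A, x * n * x⁻¹ = n ∨ x * n * x⁻¹ = r * n}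
      one_mem' := ⟨one_mem _, by rw [one_mul, mul_one], fun n _ => Or.inl (by group)⟩
      mul_mem' := by
        rintro x y ⟨hx, hx1, hx2⟩ ⟨hy, hy1, hy2⟩
        refine ⟨mul_mem hx hy, by rw [mul_assoc, hy1, ← mul_assoc, hx1, mul_assoc], fun n hn => ?_⟩
        have e : x * y * n * (x * y)⁻¹ = x * (y * n * y⁻¹) * x⁻¹ := by group
        have e2 : x * (r * n) * x⁻¹ = r * (x * n * x⁻¹) := by
          calc x * (r * n) * x⁻¹ = (x * r) * n * x⁻¹ := by group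
            _ = r * (x * n * x⁻¹) := by rw [hx1]; group
        rcases hy2 n hn with h1 | h1 <;> rcases hx2 n hn with h2 | h2
        · left; rw [e, h1, h2]
        · right; rw [e, h1, h2]
        · right; rw [e, h1, e2, h2]
        · left; rw [e, h1, e2, h2, ← mul_assoc, hrr, one_mul]
      inv_mem' := by
        rintro x ⟨hx, hx1, hx2⟩
        refine ⟨inv_mem hx, by rw [inv_mul_eq_iff_eq_mul, ← mul_assoc, hx1, mul_inv_cancel_right], fun n hn => ?_⟩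
        rcases hx2 n hn with h1 | h1
        · left
          nth_rewrite 1 [← h1]; group
        · right
          have e2 : x * (r * n) * x⁻¹ = n := by
            calc x * (r * n) * x⁻¹ = (x * r) * n * x⁻¹ := by group
              _ = r * (x * n * x⁻¹) := by rw [hx1]; group
              _ = n := by rw [h1, ← mul_assoc, hrr, one_mul]
          calc x⁻¹ * n * x⁻¹⁻¹ = x⁻¹ * (x * (r * n) * x⁻¹) * x⁻¹⁻¹ := by rw [e2]
            _ = r * n := by group }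
  have hKC : K ≤ C := fun x hx => hx.1
  set F : Subgroup G := C ⊓ centralizer (A : Set G) with hF
  have hFK : F ≤ K := by
    intro x hx
    have h1 : ∀ n ∈ A, x * n = n * x := fun n hn => (mem_centralizer_iff.1 hx.2 n hn).symm
    exact ⟨hx.1, h1 r (V₁_le_A (M₁.e_mem _)), fun n hn => Or.inl (by rw [h1 n hn, mul_inv_cancel_right])⟩
  have hKF : K ≤ normalizer (F : Set G) := by
    refine hKC.trans ?_
    have h1 : C ≤ normalizer (centralizer (A : Set G) : Set G) := hCA.trans (norm_cent A)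
    intro c hc
    rw [mem_normalizer_iff]
    intro x
    constructor
    · intro h0
      obtain ⟨h2, h3⟩ := mem_inf.1 h0
      exact mem_inf.2 ⟨C.mul_mem (C.mul_mem hc h2) (C.inv_mem hc), (mem_normalizer_iff.1 (h1 hc) x).1 h3⟩
    · intro h0
      obtain ⟨h2, h3⟩ := mem_inf.1 h0
      refine mem_inf.2 ⟨?_, (mem_normalizer_iff.1 (h1 hc) x).2 h3⟩
      have h4 := C.mul_mem (C.mul_mem (C.inv_mem hc) h2) hc
      have e : c⁻¹ * (c * x * c⁻¹) * c = x := by group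
      rwa [e] at h4
  have hsq : ∀ x ∈ K, ∃ n : ℕ, x ^ 2 ^ n ∈ F := by
    rintro x ⟨hx, hx1, hx2⟩
    refine ⟨1, mem_inf.2 ⟨C.pow_mem hx _, ?_⟩⟩
    rw [pow_one, mem_centralizer_iff]
    intro n hn
    have e2 : x * (r * n) * x⁻¹ = r * (x * n * x⁻¹) := by
      calc x * (r * n) * x⁻¹ = (x * r) * n * x⁻¹ := by group
        _ = r * (x * n * x⁻¹) := by rw [hx1]; group
    have h3 : x * (x * n * x⁻¹) * x⁻¹ = n := by
      rcases hx2 n hn with h1 | h1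
      · rw [h1, h1]
      · rw [h1, e2, h1, ← mul_assoc, hrr, one_mul]
    have e3 : x ^ 2 * n = (x * (x * n * x⁻¹) * x⁻¹) * x ^ 2 := by rw [pow_two]; group
    rw [e3, h3]
  obtain ⟨Q, hQ⟩ := exists_syl2 K
  obtain ⟨s, hs, hsg⟩ := hQ.cover hFK hKF hsq (g := g) ⟨hg, hgr, hgn⟩
  obtain ⟨s', hs', hst⟩ := hQ.cover hFK hKF hsq (g := t) ⟨htC, htr, htn⟩
  -- a Sylow 2-subgroup of `N_C(V₁)`
  have hKN : K ≤ normalizer (V₁ : Set G) := by
    intro x hx
    refine MinSimple.VModule.mem_normalizer_of_map_le ?_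
    rintro _ ⟨v, hv, rfl⟩
    rcases hx.2.2 v (V₁_le_A hv) with h1 | h1
    · change x * v * x⁻¹ ∈ V₁
      rw [h1]; exact hv
    · change x * v * x⁻¹ ∈ V₁
      rw [h1]; exact mul_mem (M₁.e_mem _) hv
  have hsyl : Syl2 (TT₂ S V₁ V₂) (C ⊓ normalizer (V₁ : Set G)) :=
    (syl_cent wr).mono (le_inf inf_le_right (inf_le_left.trans inf_le_right)) inf_le_left
  obtain ⟨c, hc, hcQ⟩ := hsyl.exists_conj_le (R := Q) (hQ.le.trans (le_inf hKC hKN)) hQ.two
  -- the two transvections in `T₂`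
  have key : ∀ y ∈ Q, ∃ p : Equiv.Perm (Fin 5), M₁.Ind (c * y * c⁻¹) p ∧
      (p = 1 ∨ (p = Equiv.swap 0 1 ∧ c * r * c⁻¹ = M₁.e (du 0 1)) ∨
        (p = Equiv.swap 2 3 ∧ c * r * c⁻¹ = M₁.e (du 2 3))) := by
    intro y hy
    have h1 := hcQ y hy
    obtain ⟨p, q, hp, -⟩ := wr.S₁_ind h1.1
    refine ⟨p, hp, tv_ind hp (wr.dS wr.S_le h1.1.1 hp) fun v hv => ?_⟩
    have h2 : c⁻¹ * v * c ∈ V₁ := by
      have := (mem_normalizer_iff.1 (inv_mem hc.2) v).1 hv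
      rwa [inv_inv] at this
    have e : c * y * c⁻¹ * v * (c * y * c⁻¹)⁻¹ = c * (y * (c⁻¹ * v * c) * y⁻¹) * c⁻¹ := by group
    rcases (hQ.le hy).2.2 _ (V₁_le_A h2) with h3 | h3
    · left; rw [e, h3]; group
    · right; rw [e, h3]; group
  -- `c y c⁻¹` acts trivially only if `y` does
  have triv : ∀ y : G, M₁.Ind (c * y * c⁻¹) 1 → ∀ v ∈ V₁, y * v = v * y := by
    intro y hy v hv
    have h1 : c * v * c⁻¹ ∈ V₁ := (mem_normalizer_iff.1 hc.2 v).1 hv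
    have h2 := mem_centralizer_iff.1 (FiveMod.ind_one_iff.1 hy) _ h1
    have h3 : c * (v * y) * c⁻¹ = c * (y * v) * c⁻¹ := by
      calc c * (v * y) * c⁻¹ = c * v * c⁻¹ * (c * y * c⁻¹) := by group
        _ = c * y * c⁻¹ * (c * v * c⁻¹) := h2
        _ = _ := by group
    exact (mul_left_cancel (mul_right_cancel h3)).symm
  have hF' : ∀ f ∈ F, ∀ v ∈ V₁, f * v = v * f := fun f hf v hv =>
    (mem_centralizer_iff.1 hf.2 v (V₁_le_A hv)).symm
  -- `g` and `t` do not act trivially, `g⁻¹ t` neither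
  have hgs : ∀ v ∈ V₁, s * v = v * s → g * v = v * g := by
    intro v hv h1
    have e : g = s * (s⁻¹ * g) := by group
    rw [e, mul_assoc, hF' _ hsg v hv, ← mul_assoc, h1, mul_assoc]
  have hts : ∀ v ∈ V₁, s' * v = v * s' → t * v = v * t := by
    intro v hv h1
    have e : t = s' * (s'⁻¹ * t) := by group
    rw [e, mul_assoc, hF' _ hst v hv, ← mul_assoc, h1, mul_assoc]
  have hg1 : ¬ g * M₁.e (du 2 3) = M₁.e (du 2 3) * g := by
    intro h1
    rw [h1, mul_inv_cancel_right] at hga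
    exact n_ne M₁ (mul_eq_right.1 hga.symm)
  have ht1 : ¬ t * M₁.e (Pi.single 0 1) = M₁.e (Pi.single 0 1) * t := by
    intro h1
    have h2 := swap_mov hti (y := (Pi.single 0 1 : Vec)) (by decide)
    rw [h1, mul_inv_cancel_right] at h2
    exact du_ne M₁ (by decide : (0 : Fin 5) ≠ 1) (mul_eq_right.1 h2.symm)
  have ht2 : t * M₁.e (du 2 3) = M₁.e (du 2 3) * t :=
    mul_inv_eq_iff_eq_mul.1 (swap_fix hti (y := du 2 3) (by decide))
  obtain ⟨p, hp, hp'⟩ := key s hs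
  obtain ⟨p', hpi, hpi'⟩ := key s' hs'
  have hp1 : p ≠ 1 := by
    rintro rfl
    exact hg1 (hgs _ (M₁.e_mem _) (triv s hp _ (M₁.e_mem _)))
  have hp1' : p' ≠ 1 := by
    rintro rfl
    exact ht1 (hts _ (M₁.e_mem _) (triv s' hpi _ (M₁.e_mem _)))
  have hne : M₁.e (du 0 1) ≠ M₁.e (du 2 3) := by
    intro h
    rw [M₁.e_eq_iff] at h
    revert h
    decide +kernel
  have hpp : p = p' := by
    rcases hp' with h | ⟨h, h1⟩ | ⟨h, h1⟩
    · exact absurd h hp1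
    · rcases hpi' with h' | ⟨h', h1'⟩ | ⟨h', h1'⟩
      · exact absurd h' hp1'
      · rw [h, h']
      · exact absurd (h1.symm.trans h1') hne
    · rcases hpi' with h' | ⟨h', h1'⟩ | ⟨h', h1'⟩
      · exact absurd h' hp1'
      · exact absurd (h1'.symm.trans h1) hne
      · rw [h, h']
  have h5 : M₁.Ind (c * (s'⁻¹ * s) * c⁻¹) 1 := by
    have h6 := hpi.inv.mul hp
    rw [hpp, inv_mul_cancel] at h6
    have e : (c * s' * c⁻¹)⁻¹ * (c * s * c⁻¹) = c * (s'⁻¹ * s) * c⁻¹ := by group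
    rwa [e] at h6
  have h6 := triv _ h5 _ (M₁.e_mem (du 2 3))
  -- `s'` fixes `{2, 3}`, hence so does `s`
  have h7 : s' * M₁.e (du 2 3) = M₁.e (du 2 3) * s' := by
    have e : s' = t * (s'⁻¹ * t)⁻¹ := by group
    rw [e, mul_assoc, hF' _ (inv_mem hst) _ (M₁.e_mem _), ← mul_assoc, ht2, mul_assoc]
  apply hg1
  refine hgs _ (M₁.e_mem _) ?_
  have e : s = s' * (s'⁻¹ * s) := by group
  rw [e, mul_assoc, h6, ← mul_assoc, h7, mul_assoc]


/-! ### `A = V₁` -/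

include wr in
/-- **`A = V₁`** -/
theorem A_le_V₁ (hk : ∃ g ∈ Kk (M₁.e nn), M₁.Ind g (Equiv.swap 0 1)) : AA V₁ V₂ ≤ V₁ := by
  classical
  have D₁ : DF M₁ V₂ := df₁ wr hk
  have D₂ : DF M₂ V₁ := df₂ wr hk
  obtain ⟨t, ht, hti⟩ := id hk
  have gs := gsys wr D₂
  have hr01 : M₁.e nn = M₁.e (du 0 1) := by rw [NormEq.nn_eq]
  have htC : t ∈ centralizer (V₂ : Set G) := wr.quarter_cent (wr.Kk_le_Q ht)
  have htU : ∀ x ∈ AA V₁ V₂, t * x * t⁻¹ = x ∨ t * x * t⁻¹ = x * M₁.e nn := by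
    intro x hx
    have h1 := A_le_Q' wr hk (i := 0) (j := 1) (by decide) hx
    rw [← NormEq.nn_eq] at h1
    rcases Kk_conj (M₁.e_sq _) ht h1 with h2 | h2
    · exact Or.inl h2
    · exact Or.inr (by rw [h2, A_comm wr D₂ (V₁_le_A (M₁.e_mem _)) hx])
  have hsgl : t * M₁.e (Pi.single 0 1) * t⁻¹ = M₁.e (du 0 1) * M₁.e (Pi.single 0 1) :=
    swap_mov hti (y := (Pi.single 0 1 : Vec)) (by decide)
  have htn : ∃ u ∈ AA V₁ V₂, t * u * t⁻¹ ≠ u := by
    refine ⟨_, V₁_le_A (M₁.e_mem (Pi.single 0 1)), fun h1 => ?_⟩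
    rw [hsgl] at h1
    exact du_ne M₁ (by decide : (0 : Fin 5) ≠ 1) (mul_eq_right.1 h1)
  let e' : (Fin 5 → ZMod 2) →+ EA (AA V₁ V₂) gs.sq :=
    { toFun := fun x => EA.mk gs.sq (M₁.e x) (V₁_le_A (M₁.e_mem x))
      map_zero' := EA.ext (by rw [EA.val_mk, EA.val_zero]; exact M₁.e_zero)
      map_add' := fun x y => EA.ext (by rw [EA.val_add, EA.val_mk, EA.val_mk, EA.val_mk]; exact M₁.e_add x y) }
  let e : (Fin 5 → ZMod 2) →ₗ[ZMod 2] EA (AA V₁ V₂) gs.sq := AddMonoidHom.toZModLinearMap 2 e'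
  have he : ∀ x, (e x).val = M₁.e x := fun x => rfl
  have hone : e 1 = 0 := EA.ext (by rw [he, EA.val_zero]; exact M₁.e_one)
  have sys := gs.toSys htC htU htn
  obtain ⟨φ₀, hφ₀, hfn₀⟩ := gs.exists_fn gs.mem gs.ne htC htU
  have hr0 : EA.mk gs.sq (M₁.e nn) gs.mem ≠ 0 := fun h0 => gs.ne (EA.val_eq_one.2 h0)
  have her : e (NSix.TvEnd.pr 0 1) = EA.mk gs.sq (M₁.e nn) gs.mem := EA.ext (by
    rw [he, EA.val_mk, hr01]; rfl)
  -- the functional of `t` on `V₁`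
  have hφV : ∀ x : Vec, φ₀ (e x) = x 0 + x 1 := by
    intro x
    have h1 := hφ₀ (e x)
    by_cases hx : x 0 = x 1
    · have h2 : gs.rep ⟨t, htC⟩ (e x) = e x := EA.ext (by
        rw [gs.val_rep, he]; exact swap_fix hti hx)
      rw [h2] at h1
      have h3 : φ₀ (e x) • EA.mk gs.sq (M₁.e nn) gs.mem = 0 := by
        have := h1.symm
        rwa [add_eq_left] at this
      rcases TV.z2 (φ₀ (e x)) with a | a
      · rw [a, hx, TV.z2_add_self]
      · rw [a, one_smul] at h3; exact absurd h3 hr0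
    · have h2 : gs.rep ⟨t, htC⟩ (e x) = EA.mk gs.sq (M₁.e nn) gs.mem + e x := EA.ext (by
        rw [gs.val_rep, EA.val_add, he, EA.val_mk, hr01]; exact swap_mov hti hx)
      rw [h2, add_comm] at h1
      have h3 := add_left_cancel h1
      rcases TV.z2 (φ₀ (e x)) with a | a
      · rw [a, zero_smul] at h3; exact absurd h3 hr0
      · rw [a]
        have : ∀ a b : ZMod 2, a ≠ b → 1 = a + b := by decide
        exact this _ _ hx
  have hL : L₁ ≤ centralizer (V₂ : Set G) := by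
    rw [wr.L₁_eq]; exact inf_le_right
  have dat : NSix.TvEnd.Dat gs.rep gs.pts e := by
    refine ⟨sys, hone, fun i j hij' => ?_, fun i j hij' => ?_⟩
    · obtain ⟨l, hl, h1⟩ := exists_du M₁ hij'
      exact ⟨l, hL hl, h1⟩
    · obtain ⟨q, h0, h1⟩ := exists_perm i j hij'
      obtain ⟨l, hl, hi⟩ := M₁.exists_lift q
      have hi : M₁.Ind l q := hi
      have h3 := hfn₀.conj (⟨l, hL hl⟩ : centralizer (V₂ : Set G))
      have h4 : gs.rep ⟨l, hL hl⟩ (EA.mk gs.sq (M₁.e nn) gs.mem) = e (NSix.TvEnd.pr i j) := EA.ext (by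
        rw [gs.val_rep, he, EA.val_mk]
        change l * M₁.e nn * l⁻¹ = M₁.e (du i j)
        rw [hi, nn_comp, h0, h1])
      rw [h4] at h3
      refine ⟨_, h3, fun x => ?_⟩
      have h5 : gs.rep (⟨l, hL hl⟩ : centralizer (V₂ : Set G))⁻¹ (e x) = e (x ∘ q) := EA.ext (by
        rw [gs.val_rep, he, he]
        exact hi.inv x)
      rw [LinearMap.comp_apply]
      change φ₀ (gs.rep (⟨l, hL hl⟩ : centralizer (V₂ : Set G))⁻¹ (e x)) = _
      rw [h5, hφV, Function.comp_apply, Function.comp_apply, h0, h1]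
  rcases sys.small_or_big with hs | hb
  · intro u hu
    have hA : ∀ u : EA (AA V₁ V₂) gs.sq, (∀ s ∈ (TT₂ S V₁ V₂).subgroupOf (centralizer (V₂ : Set G)),
        gs.rep s u = u) → ∃ x, e x = u := by
      intro u hu
      have h1 : u.val ∈ V₁ := fix_mem wr D₂ u.val_mem (fun s hs => by
        have h2 := congrArg EA.val (hu ⟨s, hs.2⟩ (mem_subgroupOf.2 hs))
        rw [gs.val_rep] at h2
        exact mul_inv_eq_iff_eq_mul.1 h2)
      obtain ⟨x, hx⟩ := (M₁.mem_iff _).1 h1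
      exact ⟨x, EA.ext (by rw [he, hx])⟩
    have hB : ∀ s ∈ (TT₂ S V₁ V₂).subgroupOf (centralizer (V₂ : Set G)), ∀ x, ∃ y, gs.rep s (e x) = e y := by
      intro s hs x
      have hs' : (s : G) ∈ TT₂ S V₁ V₂ := mem_subgroupOf.1 hs
      obtain ⟨p, q, hp, -⟩ := wr.S₁_ind hs'.1
      exact ⟨x ∘ p.symm, EA.ext (by rw [gs.val_rep, he, he]; exact hp x)⟩
    have hT2 : IsPGroup 2 (TT₂ S V₁ V₂) := S.isPGroup'.to_le (inf_le_left.trans inf_le_left)
    obtain ⟨x, hx⟩ := dat.small_mem (by decide) hs (S := (TT₂ S V₁ V₂).subgroupOf (centralizer (V₂ : Set G)))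
      (hT2.comap_of_injective _ (centralizer (V₂ : Set G)).subtype_injective) hA hB (EA.mk gs.sq u hu)
    have h1 := congrArg EA.val hx
    rw [he, EA.val_mk] at h1
    rw [← h1]
    exact M₁.e_mem x
  · exfalso
    have m01 := dat.mem 0 1 (by decide)
    have m23 := dat.mem 2 3 (by decide)
    have m02 := dat.mem 0 2 (by decide)
    have hne : e (NSix.TvEnd.pr 0 1) ≠ e (NSix.TvEnd.pr 2 3) := by
      intro h
      have h1 := congrArg EA.val h
      rw [he, he, M₁.e_eq_iff] at h1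
      revert h1
      decide +kernel
    have a1 : TV.Adj gs.rep (e (NSix.TvEnd.pr 0 1)) (e (NSix.TvEnd.pr 0 2)) :=
      dat.adj (by decide) (by decide +kernel)
    have a2 : TV.Adj gs.rep (e (NSix.TvEnd.pr 0 2)) (e (NSix.TvEnd.pr 2 3)) :=
      dat.adj (by decide) (by decide +kernel)
    obtain ⟨φ, ⟨hφr, g, hg⟩, hφ1⟩ := sys.adj_of_near hb m01 m23 hne ⟨_, m02, a1, a2⟩
    have hgx : ∀ (x : G) (hx : x ∈ AA V₁ V₂), φ (EA.mk gs.sq x hx) = 1 →
        (g : G) * x * (g : G)⁻¹ = M₁.e nn * x := by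
      intro x hx h1
      have h2 := congrArg EA.val (hg (EA.mk gs.sq x hx))
      rw [h1, one_smul, gs.val_rep, EA.val_add, EA.val_mk, her, EA.val_mk] at h2
      rw [h2, A_comm wr D₂ hx (V₁_le_A (M₁.e_mem _))]
    have hgx0 : ∀ (x : G) (hx : x ∈ AA V₁ V₂), φ (EA.mk gs.sq x hx) = 0 →
        (g : G) * x * (g : G)⁻¹ = x := by
      intro x hx h1
      have h2 := congrArg EA.val (hg (EA.mk gs.sq x hx))
      rw [h1, zero_smul, add_zero, gs.val_rep, EA.val_mk] at h2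
      exact h2
    refine not_big wr hk (g := g) g.2 (fun x hx => ?_) ?_ ?_
    · rcases TV.z2 (φ (EA.mk gs.sq x hx)) with a | a
      · exact Or.inl (hgx0 x hx a)
      · exact Or.inr (hgx x hx a)
    · rw [her] at hφr
      exact mul_inv_eq_iff_eq_mul.1 (hgx0 _ _ hφr)
    · exact hgx _ (V₁_le_A (M₁.e_mem _)) hφ1

include wr in
/-- `C_G(V₂)` normalises `V₁` -/
theorem cent_le_norm (hk : ∃ g ∈ Kk (M₁.e nn), M₁.Ind g (Equiv.swap 0 1)) :
    centralizer (V₂ : Set G) ≤ normalizer (V₁ : Set G) := by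
  have h : AA V₁ V₂ = V₁ := le_antisymm (A_le_V₁ wr hk) (le_ncl _ _)
  have h1 : centralizer (V₂ : Set G) ≤ normalizer (AA V₁ V₂ : Set G) := le_normalizer_ncl _ _
  rwa [h] at h1

include wr in
/-- **THE CRUX: `N_G(V₁) = N_G(V₂)`** -/
theorem norm_eq (hk : ∃ g ∈ Kk (M₁.e nn), M₁.Ind g (Equiv.swap 0 1)) :
    normalizer (V₁ : Set G) = normalizer (V₂ : Set G) :=
  NormEq.norm_eq wr (df₁ wr hk) (df₂ wr hk) (cent_le_norm wr hk) (cent_le_norm wr.symm (hk_symm wr hk))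

end wr

end Cfsg.Agent.Omega.IId.LFour.CruxC
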