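import Cfsg.Agent.Omega.S5.Of
import Cfsg.Agent.Omega.Half.AppNat
import Cfsg.Agent.Omega.NO3b.UMethod

/-!
# The factors of a sum of even-subset modules (project OMEGA, II.d)

`M : SymK T H V ⊥ k m` (`Omega/FFThm.lean`): `V` is the sum of `k` even-subset modules of degree `2^m + 1`.

* `fac M i`, `cof M i` : the `i`-th summand and the sum of the others;
* `lab M hm i x` : the labels of `fac M i` (`x` a vector of `F₂^(2^m+1)`, modulo `⟨1⟩`);
* `Act.conj` : the action on labels;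
* `evenSet` : `EvenSet (2^m+1) (fac M i) (H ⊓ C(cof M i)) (lab M hm i)`;
* `not_dvd_grp` : `T ∩ grp M i` is a Sylow 2-subgroup of `grp M i`.
-/

set_option autoImplicit false

namespace Cfsg.Agent.Omega.IId.LFour.SymF

open Subgroup Pointwise Cfsg.Agent.Omega Cfsg.Agent.Omega.FFThm
open Cfsg.Agent.Omega.S5.Def
open Cfsg.Agent.Omega.S5.Of (hat hat_add hat_comp sum_hat hat_eq_zero_iff)
open Cfsg.Agent.Omega.Half (Amb)

universe u

variable {G : Type u} [Group G] {T H V : Subgroup G} {k m : ℕ} (M : SymK T H V ⊥ k m)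

theorem e_one : M.e 1 = 0 := by
  have h := M.mul 1 (one_mem V) 1 (one_mem V)
  rw [one_mul] at h
  exact left_eq_add.1 h

theorem e_inv {v : G} (hv : v ∈ V) : M.e v⁻¹ = M.e v := by
  have h := M.mul v hv v⁻¹ (inv_mem hv)
  rw [mul_inv_cancel, e_one] at h
  funext i x
  have h2 := congrFun (congrFun h i) x
  rw [Pi.zero_apply, Pi.zero_apply, Pi.add_apply, Pi.add_apply] at h2
  have h3 : M.e v i x = M.e v⁻¹ i x := CharTwo.add_eq_zero.mp h2.symm
  exact h3.symm

theorem eq_one {v : G} (hv : v ∈ V) (h : M.e v = 0) : v = 1 := mem_bot.1 ((M.ker v hv).1 h)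

theorem inj {v w : G} (hv : v ∈ V) (hw : w ∈ V) (h : M.e v = M.e w) : v = w := by
  rw [← mul_inv_eq_one]
  apply eq_one M (mul_mem hv (inv_mem hw))
  rw [M.mul v hv _ (inv_mem hw), e_inv M hw, h]
  funext i x
  exact CharTwo.add_self_eq_zero _

/-- the `i`-th summand -/
def fac (i : Fin k) : Subgroup G where
  carrier := {v | v ∈ V ∧ ∀ j, j ≠ i → M.e v j = 0}
  mul_mem' := by
    rintro v w ⟨hv, h1⟩ ⟨hw, h2⟩
    refine ⟨mul_mem hv hw, fun i hi => ?_⟩
    rw [M.mul v hv w hw, Pi.add_apply, h1 i hi, h2 i hi, add_zero]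
  one_mem' := ⟨one_mem V, fun i _ => by rw [e_one]; rfl⟩
  inv_mem' := by
    rintro v ⟨hv, h1⟩
    refine ⟨inv_mem hv, fun i hi => ?_⟩
    rw [e_inv M hv, h1 i hi]

/-- the sum of the other summands -/
def cof (i : Fin k) : Subgroup G where
  carrier := {v | v ∈ V ∧ M.e v i = 0}
  mul_mem' := by
    rintro v w ⟨hv, h1⟩ ⟨hw, h2⟩
    refine ⟨mul_mem hv hw, ?_⟩
    rw [M.mul v hv w hw, Pi.add_apply, h1, h2, add_zero]
  one_mem' := ⟨one_mem V, by rw [e_one]; rfl⟩
  inv_mem' := by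
    rintro v ⟨hv, h1⟩
    refine ⟨inv_mem hv, ?_⟩
    rw [e_inv M hv, h1]

theorem mem_fac {i : Fin k} {v : G} : v ∈ fac M i ↔ v ∈ V ∧ ∀ j, j ≠ i → M.e v j = 0 := Iff.rfl

theorem mem_cof {i : Fin k} {v : G} : v ∈ cof M i ↔ v ∈ V ∧ M.e v i = 0 := Iff.rfl

theorem fac_le (i : Fin k) : fac M i ≤ V := fun _ h => h.1

theorem cof_le (i : Fin k) : cof M i ≤ V := fun _ h => h.1

theorem fac_le_cof {i j : Fin k} (h : i ≠ j) : fac M i ≤ cof M j := fun _ hv => ⟨hv.1, hv.2 j h.symm⟩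

theorem fac_inf_cof (i : Fin k) : fac M i ⊓ cof M i = ⊥ := by
  rw [eq_bot_iff]
  rintro v ⟨h1, h2⟩
  rw [mem_bot]
  refine eq_one M h1.1 (funext fun j => ?_)
  by_cases hj : j = i
  · rw [hj, h2.2]; rfl
  · rw [h1.2 j hj]; rfl

/-! ### Labels -/

variable (hm : 1 ≤ m)

include hm in
theorem sum_single (i : Fin k) (x : Fin (2 ^ m + 1) → ZMod 2) (j : Fin k) :
    ∑ y, (Pi.single i (hat x) : Fin k → Fin (2 ^ m + 1) → ZMod 2) j y = 0 := by
  by_cases hj : j = i
  · subst hj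
    rw [Pi.single_eq_same]
    exact sum_hat hm x
  · rw [Pi.single_eq_of_ne hj]
    simp

/-- the labels of the `i`-th summand -/
noncomputable def lab (i : Fin k) (x : Fin (2 ^ m + 1) → ZMod 2) : G :=
  (M.surj (Pi.single i (hat x)) (sum_single hm i x)).choose

theorem lab_mem (i : Fin k) (x : Fin (2 ^ m + 1) → ZMod 2) : lab M hm i x ∈ V :=
  (M.surj (Pi.single i (hat x)) (sum_single hm i x)).choose_spec.1

theorem e_lab (i : Fin k) (x : Fin (2 ^ m + 1) → ZMod 2) : M.e (lab M hm i x) = Pi.single i (hat x) :=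
  (M.surj (Pi.single i (hat x)) (sum_single hm i x)).choose_spec.2

theorem lab_mem_fac (i : Fin k) (x : Fin (2 ^ m + 1) → ZMod 2) : lab M hm i x ∈ fac M i :=
  ⟨lab_mem M hm i x, fun j hj => by rw [e_lab, Pi.single_eq_of_ne hj]⟩

theorem hat_of_even {x : Fin (2 ^ m + 1) → ZMod 2} (h : ∑ i, x i = 0) : hat x = x := by
  funext i
  change x i + ∑ j, x j = x i
  rw [h, add_zero]

/-- every element of the `i`-th summand is a label -/
theorem lab_e {i : Fin k} {v : G} (hv : v ∈ fac M i) : lab M hm i (M.e v i) = v := by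
  refine inj M (lab_mem M hm _ _) hv.1 ?_
  rw [e_lab, hat_of_even (M.even v hv.1 i)]
  funext j
  by_cases hj : j = i
  · subst hj
    rw [Pi.single_eq_same]
  · rw [Pi.single_eq_of_ne hj, hv.2 j hj]

theorem lab_add (i : Fin k) (x y : Fin (2 ^ m + 1) → ZMod 2) :
    lab M hm i (x + y) = lab M hm i x * lab M hm i y := by
  refine inj M (lab_mem M hm _ _) (mul_mem (lab_mem M hm _ _) (lab_mem M hm _ _)) ?_
  rw [M.mul _ (lab_mem M hm _ _) _ (lab_mem M hm _ _), e_lab, e_lab, e_lab, hat_add, Pi.single_add]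

theorem lab_eq_one_iff (i : Fin k) (x : Fin (2 ^ m + 1) → ZMod 2) : lab M hm i x = 1 ↔ x = 0 ∨ x = 1 := by
  rw [← hat_eq_zero_iff hm]
  constructor
  · intro h1
    have h2 := e_lab M hm i x
    rw [h1, e_one M] at h2
    have h3 := congrFun h2 i
    rw [Pi.single_eq_same] at h3
    exact h3.symm
  · intro h1
    refine eq_one M (lab_mem M hm i x) ?_
    rw [e_lab, h1]
    exact Pi.single_zero i

/-- the action on labels -/
theorem conj_lab {g : G} (hg : g ∈ normalizer (V : Set G)) {σ : Equiv.Perm (Fin k)}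
    {τ : Fin k → Equiv.Perm (Fin (2 ^ m + 1))} (h : ActsSym M.e V g σ τ) (i : Fin k)
    (x : Fin (2 ^ m + 1) → ZMod 2) : g * lab M hm i x * g⁻¹ = lab M hm (σ i) (x ∘ (τ i).symm) := by
  refine inj M ((mem_normalizer_iff.1 hg _).1 (lab_mem M hm i x)) (lab_mem M hm _ _) ?_
  funext j' y'
  obtain ⟨j, rfl⟩ := σ.surjective j'
  obtain ⟨y, rfl⟩ := (τ j).surjective y'
  rw [h _ (lab_mem M hm i x) j y, e_lab, e_lab]
  by_cases hj : j = i
  · subst hj
    rw [Pi.single_eq_same, Pi.single_eq_same, hat_comp]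
    simp
  · rw [Pi.single_eq_of_ne hj, Pi.single_eq_of_ne fun h0 => hj (σ.injective h0)]
    rfl

theorem conj_fac {g : G} (hg : g ∈ normalizer (V : Set G)) {σ : Equiv.Perm (Fin k)}
    {τ : Fin k → Equiv.Perm (Fin (2 ^ m + 1))} (h : ActsSym M.e V g σ τ) {i : Fin k} {v : G}
    (hv : v ∈ fac M i) : g * v * g⁻¹ ∈ fac M (σ i) := by
  refine ⟨(mem_normalizer_iff.1 hg _).1 hv.1, fun j' hj => ?_⟩
  obtain ⟨j, rfl⟩ := σ.surjective j'
  funext y'
  obtain ⟨y, rfl⟩ := (τ j).surjective y'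
  rw [h v hv.1 j y, hv.2 j fun h0 => hj (by rw [h0])]
  rfl

/-- a label is moved to another summand by the action of `σ` -/
theorem fix_of_conj {i j : Fin k} {x y : Fin (2 ^ m + 1) → ZMod 2} (h : lab M hm i x = lab M hm j y)
    (hx : lab M hm i x ≠ 1) : i = j := by
  by_contra hne
  have h1 : lab M hm i x ∈ cof M i := by
    rw [h]
    exact fac_le_cof M (Ne.symm hne) (lab_mem_fac M hm j y)
  have h2 : lab M hm i x ∈ fac M i ⊓ cof M i := ⟨lab_mem_fac M hm i x, h1⟩
  rw [fac_inf_cof, mem_bot] at h2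
  exact hx h2

theorem exists_lab_ne (hm2 : 1 ≤ m) (i : Fin k) : lab M hm i (Pi.single 0 1) ≠ 1 := by
  rw [Ne, lab_eq_one_iff]
  rintro (h | h)
  · have := congrFun h 0
    rw [Pi.single_eq_same] at this
    exact one_ne_zero this
  · have h1 : (1 : Fin (2 ^ m + 1)) ≠ 0 := by
      intro h3
      have h4 := congrArg Fin.val h3
      have h5 : 2 ^ 1 ≤ 2 ^ m := Nat.pow_le_pow_right (by norm_num) hm2
      rw [Fin.val_one', Fin.val_zero, Nat.mod_eq_of_lt (by omega)] at h4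
      exact one_ne_zero h4
    have := congrFun h 1
    rw [Pi.single_eq_of_ne h1, Pi.one_apply] at this
    exact zero_ne_one this

/-- the elements of `H` which centralise the other summands -/
def grp (i : Fin k) : Subgroup G := H ⊓ centralizer (cof M i : Set G)

theorem grp_le (i : Fin k) : grp M i ≤ H := inf_le_left

include hm in
theorem perm_eq {g : G} {i : Fin k} (hA : Amb T H V) (hg : g ∈ grp M i) {σ : Equiv.Perm (Fin k)}
    {τ : Fin k → Equiv.Perm (Fin (2 ^ m + 1))} (h : ActsSym M.e V g σ τ) : ∀ j, σ j = j := by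
  have hm1 := hm
  have key : ∀ j, j ≠ i → σ j = j := by
    intro j hj
    have h1 : lab M hm j (Pi.single 0 1) ∈ cof M i := fac_le_cof M hj (lab_mem_fac M hm j _)
    have h2 := mem_centralizer_iff.1 hg.2 _ h1
    have h3 := conj_lab M hm (hA.HV hg.1) h j (Pi.single 0 1)
    rw [← h2, mul_inv_cancel_right] at h3
    exact (fix_of_conj M hm h3 (exists_lab_ne M hm hm1 j)).symm
  intro j
  by_cases hj : j = i
  · subst hj
    by_contra hne
    have h1 := key _ hne
    exact hne (σ.injective h1)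
  · exact key j hj

/-- **The summand as an even-subset module.** -/
theorem evenSet (hA : Amb T H V) (i : Fin k) : EvenSet (2 ^ m + 1) (fac M i) (grp M i) (lab M hm i) where
  add := lab_add M hm i
  mem := lab_mem_fac M hm i
  surj v hv := ⟨M.e v i, lab_e M hm hv⟩
  ker := lab_eq_one_iff M hm i
  perm g hg := by
    obtain ⟨σ, τ, h1⟩ := M.perm g hg.1
    have h2 := perm_eq M hm hA hg h1
    refine ⟨τ i, fun x => ?_⟩
    rw [conj_lab M hm (hA.HV hg.1) h1, h2]
  full σ := by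
    classical
    obtain ⟨g, hg, h1, -⟩ := M.lift (Function.update 1 i σ)
    refine ⟨g, ⟨hg, mem_centralizer_iff.2 fun v hv => ?_⟩, fun x => ?_⟩
    · have h2 : g * v * g⁻¹ = v := by
        refine inj M (hA.conj_mem hg hv.1) hv.1 ?_
        funext j y'
        obtain ⟨y, rfl⟩ := (Function.update (1 : Fin k → Equiv.Perm (Fin (2 ^ m + 1))) i σ j).surjective y'
        have h3 := h1 v hv.1 j y
        rw [Equiv.Perm.one_apply] at h3
        rw [h3]
        by_cases hj : j = i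
        · subst hj
          rw [hv.2]
          rfl
        · rw [Function.update_of_ne hj]
          rfl
      calc v * g = g * v * g⁻¹ * g := by rw [h2]
        _ = g * v := by group
    · rw [conj_lab M hm (hA.HV hg) h1, Equiv.Perm.one_apply, Function.update_self]

theorem conj_cof {g : G} (hg : g ∈ normalizer (V : Set G)) {σ : Equiv.Perm (Fin k)}
    {τ : Fin k → Equiv.Perm (Fin (2 ^ m + 1))} (h : ActsSym M.e V g σ τ) {i : Fin k} {v : G}
    (hv : v ∈ cof M (σ i)) : g⁻¹ * v * g ∈ cof M i := by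
  have h1 : g⁻¹ * v * g ∈ V := by
    have := (mem_normalizer_iff.1 (inv_mem hg) v).1 hv.1
    rwa [inv_inv] at this
  refine ⟨h1, funext fun y => ?_⟩
  have h2 := h _ h1 i y
  rw [← h2]
  have e : g * (g⁻¹ * v * g) * g⁻¹ = v := by group
  rw [e, hv.2]
  rfl

theorem conj_grp (hA : Amb T H V) {g l : G} (hg : g ∈ H) {σ : Equiv.Perm (Fin k)}
    {τ : Fin k → Equiv.Perm (Fin (2 ^ m + 1))} (h : ActsSym M.e V g σ τ) {i : Fin k}
    (hl : l ∈ grp M i) : g * l * g⁻¹ ∈ grp M (σ i) := by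
  refine ⟨H.mul_mem (H.mul_mem hg hl.1) (H.inv_mem hg), mem_centralizer_iff.2 fun v hv => ?_⟩
  have h1 := mem_centralizer_iff.1 hl.2 _ (conj_cof M (hA.HV hg) h hv)
  calc v * (g * l * g⁻¹) = g * ((g⁻¹ * v * g) * l) * g⁻¹ := by group
    _ = g * (l * (g⁻¹ * v * g)) * g⁻¹ := by rw [h1]
    _ = g * l * g⁻¹ * v := by group

include hm in
/-- `T ∩ grp i` is a Sylow 2-subgroup of `grp i` -/
theorem not_dvd_grp [Finite G] (hA : Amb T H V) (hT : ¬ 2 ∣ T.relIndex H) (i : Fin k) :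
    ¬ 2 ∣ (grp M i ⊓ T).relIndex (grp M i) := by
  set N := ⨆ j, grp M j with hN
  have hNH : N ≤ H := iSup_le fun j => grp_le M j
  have hn : H ≤ normalizer (N : Set G) := by
    intro g hg
    refine Cfsg.Agent.MinSimple.VModule.mem_normalizer_of_map_le ?_
    rw [hN, Subgroup.map_iSup]
    refine iSup_le fun j => ?_
    rintro _ ⟨l, hl, rfl⟩
    obtain ⟨σ, τ, h1⟩ := M.perm g hg
    exact (le_iSup (fun j => grp M j) (σ j)) (conj_grp M hA hg h1 hl)
  have h1 := NO3b.UMethod.not_dvd_inf hA.TH hT hNH hn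
  have h2 : N ≤ normalizer (grp M i : Set G) := by
    refine iSup_le fun j g hg => ?_
    refine Cfsg.Agent.MinSimple.VModule.mem_normalizer_of_map_le ?_
    rintro _ ⟨l, hl, rfl⟩
    obtain ⟨σ, τ, h1⟩ := M.perm g (grp_le M j hg)
    have h3 := conj_grp M hA (grp_le M j hg) h1 hl
    rwa [perm_eq M hm hA hg h1] at h3
  have h3 := NO3b.UMethod.not_dvd_inf (inf_le_left : N ⊓ T ≤ N) h1 (le_iSup (fun j => grp M j) i) h2
  have h4 : grp M i ⊓ (N ⊓ T) = grp M i ⊓ T := by
    rw [← inf_assoc, inf_eq_left.2 (le_iSup (fun j => grp M j) i)]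
  rwa [h4] at h3

/-- `V` is generated by `fac i` and `cof i` -/
theorem sup_eq (i : Fin k) : fac M i ⊔ cof M i = V := by
  apply le_antisymm (sup_le (fac_le M i) (cof_le M i))
  intro v hv
  have h1 := M.even v hv i
  obtain ⟨w, hw, he⟩ := M.surj (Pi.single i (M.e v i)) (fun j => by
    by_cases hj : j = i
    · subst hj; rw [Pi.single_eq_same]; exact h1
    · rw [Pi.single_eq_of_ne hj]; simp)
  have h2 : v = w * (w⁻¹ * v) := by group
  rw [h2]
  refine Subgroup.mul_mem_sup (⟨hw, fun j hj => ?_⟩ : w ∈ fac M i)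
    (⟨mul_mem (inv_mem hw) hv, ?_⟩ : w⁻¹ * v ∈ cof M i)
  · rw [he, Pi.single_eq_of_ne hj]
  · rw [M.mul _ (inv_mem hw) _ hv, e_inv M hw, he, Pi.add_apply, Pi.single_eq_same]
    funext x
    exact CharTwo.add_self_eq_zero _

end Cfsg.Agent.Omega.IId.LFour.SymF
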