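import Cfsg.Agent.Omega.S5.OfEven
import Cfsg.Agent.Omega.IId.LFour.Fac

/-!
# `V_P` the sum of two even-subset modules of degree 5 (project OMEGA, II.d L4; text helper839 #14703)

`Wr S P M₁ M₂` (`Mᵢ : FiveMod Vᵢ Lᵢ`): `V_P = V₁ × V₂`, `Lᵢ = C_P(V₃₋ᵢ)` induces `S₅` on `Vᵢ`, `P` permutes
`V₁`, `V₂`, an element of `S` interchanges them; `S ∩ Lᵢ` induces `D₈ = C((0 1)(2 3))` on `Vᵢ`.

Labels as in `S5/TT.lean`: `σ = e ss` (the point 4), `n = e nn = {0 1}`, `a = e aa = {2 3}`, `n a = σ`.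

* `exists_wr` : from `FFThm.SymK S P V_P ⊥ 2 2`;
* `Wr.symm`; `Wr.dS` : `N_S(V₁)` induces `D₈`; `Wr.zS_le` : `Ω₁(Z(S)) ≤ ⟨σ₁σ₂⟩`;
  `Wr.zS₁_le` : `Ω₁(Z(N_S(V₁))) ≤ ⟨σ₁, σ₂⟩`; `Wr.card_T` : `|S| = 4 |C_S(n)|`.
-/

set_option autoImplicit false
set_option linter.unusedSectionVars false

namespace Cfsg.Agent.Omega.IId.LFour

open Subgroup Pointwise Cfsg Cfsg.Agent.ZN Cfsg.Agent.Omega.MinPar Cfsg.Agent.Omega.FFThm
open Cfsg.Agent.ZN.ChoiceBase (cj mem_cj)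
open Cfsg.Agent.Omega.S5.Mod Cfsg.Agent.Omega.S5.TT
open Cfsg.Agent.Omega.S5.TT.Pos (na ns as sn n_ne s_ne a_ne n_ne_a n_ne_s a_ne_s e_sq' mem_C)
open Cfsg.Agent.Omega.Half (Amb amb_of_loc)
open Cfsg.Agent.MinSimple.VModule (mem_zc zc_le zc_comm zc_sq zc_le_zl le_normalizer_o2 o2_isPGroup o2_le
  normalizer_le_normalizer_zc le_normalizer_zl)

universe u

variable {G : Type u} [Group G]

/-- `g` interchanges the two summands. -/
def Sw {V₁ V₂ L₁ L₂ : Subgroup G} (M₁ : FiveMod V₁ L₁) (M₂ : FiveMod V₂ L₂) (g : G)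
    (p q : Equiv.Perm (Fin 5)) : Prop :=
  (∀ x, g * M₁.e x * g⁻¹ = M₂.e (x ∘ p.symm)) ∧ ∀ x, g * M₂.e x * g⁻¹ = M₁.e (x ∘ q.symm)

/-- `V_P = V₁ × V₂`, two even-subset modules of degree 5 interchanged by `S`. -/
structure Wr (S : Sylow 2 G) (P : Subgroup G) {V₁ V₂ L₁ L₂ : Subgroup G} (M₁ : FiveMod V₁ L₁)
    (M₂ : FiveMod V₂ L₂) : Prop where
  hG : IsCharacteristicTwoType G
  star : IsParS (S : Subgroup G) P
  L₁_eq : L₁ = P ⊓ centralizer (V₂ : Set G)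
  L₂_eq : L₂ = P ⊓ centralizer (V₁ : Set G)
  sup : zl (S : Subgroup G) P = V₁ ⊔ V₂
  inf : V₁ ⊓ V₂ = ⊥
  mov : ∀ g ∈ P, (∃ p q, M₁.Ind g p ∧ M₂.Ind g q) ∨ ∃ p q, Sw M₁ M₂ g p q
  swap : ∃ s ∈ (S : Subgroup G), ∃ p q, Sw M₁ M₂ s p q
  d₁ : ∀ g ∈ (S : Subgroup G) ⊓ L₁, ∀ p, M₁.Ind g p → p * dd = dd * p
  d₁' : ∀ p, p * dd = dd * p → ∃ g ∈ (S : Subgroup G) ⊓ L₁, M₁.Ind g p
  d₂ : ∀ g ∈ (S : Subgroup G) ⊓ L₂, ∀ p, M₂.Ind g p → p * dd = dd * p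
  d₂' : ∀ p, p * dd = dd * p → ∃ g ∈ (S : Subgroup G) ⊓ L₂, M₂.Ind g p

/-! ### Permutations -/

theorem dd_of_comm : ∀ r : Equiv.Perm (Fin 5), r * tt = tt * r →
    r * Equiv.swap 0 1 = Equiv.swap 0 1 * r → r = 1 ∨ r = dd := by
  decide +kernel

theorem dd_of_normalizes {p : Equiv.Perm (Fin 5)}
    (h : ∀ r : Equiv.Perm (Fin 5), r * dd = dd * r → (p⁻¹ * r * p) * dd = dd * (p⁻¹ * r * p)) :
    p * dd = dd * p := by
  have key : ∀ r : Equiv.Perm (Fin 5), r * dd = dd * r → (p * dd * p⁻¹) * r = r * (p * dd * p⁻¹) := by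
    intro r hr
    have h1 := h r hr
    calc p * dd * p⁻¹ * r = p * (dd * (p⁻¹ * r * p)) * p⁻¹ := by group
      _ = p * ((p⁻¹ * r * p) * dd) * p⁻¹ := by rw [h1]
      _ = r * (p * dd * p⁻¹) := by group
  rcases dd_of_comm _ (key tt (by decide)) (key _ (by decide)) with h1 | h1
  · exfalso
    have h2 : dd = 1 := by
      calc dd = p⁻¹ * (p * dd * p⁻¹) * p := by group
        _ = 1 := by rw [h1]; group
    revert h2
    decide
  · calc p * dd = p * dd * p⁻¹ * p := by group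
      _ = dd * p := by rw [h1]

namespace Wr

variable {S : Sylow 2 G} {P V₁ V₂ L₁ L₂ : Subgroup G} {M₁ : FiveMod V₁ L₁} {M₂ : FiveMod V₂ L₂}

/-- Interchange the two summands. -/
theorem symm (w : Wr S P M₁ M₂) : Wr S P M₂ M₁ where
  hG := w.hG
  star := w.star
  L₁_eq := w.L₂_eq
  L₂_eq := w.L₁_eq
  sup := by rw [w.sup, sup_comm]
  inf := by rw [inf_comm, w.inf]
  mov g hg := by
    rcases w.mov g hg with ⟨p, q, h1, h2⟩ | ⟨p, q, h1, h2⟩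
    · exact Or.inl ⟨q, p, h2, h1⟩
    · exact Or.inr ⟨q, p, h2, h1⟩
  swap := by
    obtain ⟨s, hs, p, q, h1, h2⟩ := w.swap
    exact ⟨s, hs, q, p, h2, h1⟩
  d₁ := w.d₂
  d₁' := w.d₂'
  d₂ := w.d₁
  d₂' := w.d₁'

section

variable (w : Wr S P M₁ M₂)
include w

/-! ### Elementary facts -/

theorem V₁_le : V₁ ≤ zl (S : Subgroup G) P := w.sup ▸ le_sup_left

theorem V₂_le : V₂ ≤ zl (S : Subgroup G) P := w.sup ▸ le_sup_right

theorem L₁_le : L₁ ≤ P := by rw [w.L₁_eq]; exact inf_le_left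

theorem L₂_le : L₂ ≤ P := w.symm.L₁_le

theorem L₁_comm {g v : G} (hg : g ∈ L₁) (hv : v ∈ V₂) : g * v = v * g := by
  rw [w.L₁_eq] at hg
  exact (mem_centralizer_iff.1 hg.2 v hv).symm

theorem L₂_comm {g v : G} (hg : g ∈ L₂) (hv : v ∈ V₁) : g * v = v * g := w.symm.L₁_comm hg hv

theorem mem_L₁ {g : G} (hg : g ∈ P) (h : ∀ v ∈ V₂, g * v = v * g) : g ∈ L₁ := by
  rw [w.L₁_eq]
  exact ⟨hg, mem_centralizer_iff.2 fun v hv => (h v hv).symm⟩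

theorem mem_L₂ {g : G} (hg : g ∈ P) (h : ∀ v ∈ V₁, g * v = v * g) : g ∈ L₂ := w.symm.mem_L₁ hg h

/-- an element which interchanges the summands does not fix an element `≠ 1` of `V₁` -/
theorem not_mem_of_sw {g : G} {p q : Equiv.Perm (Fin 5)} (h : Sw M₁ M₂ g p q) {v : G} (hv : v ∈ V₁)
    (hv1 : v ≠ 1) : g * v * g⁻¹ ∉ V₁ := by
  intro h1
  obtain ⟨x, rfl⟩ := (M₁.mem_iff v).1 hv
  have h2 : g * M₁.e x * g⁻¹ ∈ V₁ ⊓ V₂ := ⟨h1, by rw [h.1]; exact M₂.e_mem _⟩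
  rw [w.inf, mem_bot, mul_inv_eq_one, mul_eq_left] at h2
  exact hv1 h2

/-- an element of `P` which maps an element `≠ 1` of `V₁` into `V₁` acts on both summands -/
theorem ind_of_mem {g v : G} (hg : g ∈ P) (hv : v ∈ V₁) (hv1 : v ≠ 1) (h : g * v * g⁻¹ ∈ V₁) :
    ∃ p q, M₁.Ind g p ∧ M₂.Ind g q := by
  rcases w.mov g hg with h1 | ⟨p, q, h1⟩
  · exact h1
  · exact absurd h (w.not_mem_of_sw h1 hv hv1)

theorem ind_of_comm {g v : G} (hg : g ∈ P) (hv : v ∈ V₁) (hv1 : v ≠ 1) (h : g * v = v * g) :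
    ∃ p q, M₁.Ind g p ∧ M₂.Ind g q :=
  w.ind_of_mem hg hv hv1 (by rw [h, mul_inv_cancel_right]; exact hv)

theorem ind_of_norm {g : G} (hg : g ∈ P) (h : g ∈ normalizer (V₁ : Set G)) :
    ∃ p q, M₁.Ind g p ∧ M₂.Ind g q :=
  w.ind_of_mem hg (M₁.e_mem nn) (n_ne M₁) ((mem_normalizer_iff.1 h _).1 (M₁.e_mem nn))

/-- the elements of `P` normalising `V₁` normalise `L₁` -/
theorem conj_L₁ {g l : G} (hg : g ∈ P) {q : Equiv.Perm (Fin 5)} (hi : M₂.Ind g q) (hl : l ∈ L₁) :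
    g * l * g⁻¹ ∈ L₁ := by
  refine w.mem_L₁ (mul_mem (mul_mem hg (w.L₁_le hl)) (inv_mem hg)) fun v hv => ?_
  have h1 := (mem_normalizer_iff.1 (inv_mem hi.mem_normalizer) v).1 hv
  rw [inv_inv] at h1
  have h2 := w.L₁_comm hl h1
  calc g * l * g⁻¹ * v = g * (l * (g⁻¹ * v * g)) * g⁻¹ := by group
    _ = g * ((g⁻¹ * v * g) * l) * g⁻¹ := by rw [h2]
    _ = v * (g * l * g⁻¹) := by group

theorem conj_L₂ {g l : G} (hg : g ∈ P) {q : Equiv.Perm (Fin 5)} (hi : M₁.Ind g q) (hl : l ∈ L₂) :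
    g * l * g⁻¹ ∈ L₂ := w.symm.conj_L₁ hg hi hl

/-- `L₁` acts trivially on `V₂` -/
theorem ind₂_of_L₁ {g : G} (hg : g ∈ L₁) : M₂.Ind g 1 :=
  FiveMod.ind_one_iff.2 (mem_centralizer_iff.2 fun _ hv => (w.L₁_comm hg hv).symm)

theorem ind₁_of_L₂ {g : G} (hg : g ∈ L₂) : M₁.Ind g 1 := w.symm.ind₂_of_L₁ hg

end

section

variable (w : Wr S P M₁ M₂)
include w

/-- `N_S(V₁)` induces `D₈` on `V₁`. -/
theorem dS (hSP : (S : Subgroup G) ≤ P) {g : G} (hg : g ∈ (S : Subgroup G)) {p : Equiv.Perm (Fin 5)}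
    (hp : M₁.Ind g p) : p * dd = dd * p := by
  obtain ⟨p', q, -, hq⟩ := w.ind_of_norm (hSP hg) hp.mem_normalizer
  refine dd_of_normalizes fun r hr => ?_
  obtain ⟨t, ht, hi⟩ := w.d₁' r hr
  have h1 : g⁻¹ * t * g ∈ (S : Subgroup G) ⊓ L₁ := by
    refine ⟨(S : Subgroup G).mul_mem ((S : Subgroup G).mul_mem ((S : Subgroup G).inv_mem hg) ht.1) hg, ?_⟩
    have := w.conj_L₁ (inv_mem (hSP hg)) hq.inv ht.2
    rwa [inv_inv] at this
  have h2 := (hp.inv.mul hi).mul hp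
  exact w.d₁ _ h1 _ h2

/-- the fixed points of `S ∩ L₁` on `V₁` -/
theorem fixed₁ {v : G} (hv : v ∈ V₁) (h : ∀ t ∈ (S : Subgroup G) ⊓ L₁, t * v = v * t) :
    v = 1 ∨ v = M₁.e ss := by
  obtain ⟨y, rfl⟩ := (M₁.mem_iff v).1 hv
  have h1 : ∀ p, p * dd = dd * p → y ∘ p.symm = y ∨ y ∘ p.symm = y + 1 := by
    intro p hp
    obtain ⟨g, hg, hi⟩ := w.d₁' p hp
    exact (hi.commute_iff y).1 (h g hg)
  rcases fix_all y (h1 _ (by decide)) (h1 _ (by decide)) (h1 _ (by decide)) with h2 | h2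
  · exact Or.inl ((M₁.ker y).2 h2)
  · exact Or.inr (M₁.e_eq_iff.2 h2)

theorem comm_ss (hSP : (S : Subgroup G) ≤ P) {g : G} (hg : g ∈ (S : Subgroup G))
    (hn : g ∈ normalizer (V₁ : Set G)) : g * M₁.e ss = M₁.e ss * g := by
  obtain ⟨p, q, hp, -⟩ := w.ind_of_norm (hSP hg) hn
  exact (hp.commute_iff _).2 (Or.inl (fix_ss p (w.dS hSP hg hp)))

/-- an element of `S` which interchanges the summands maps `σ₁` to `σ₂` -/
theorem sw_ss (hSP : (S : Subgroup G) ≤ P) {s : G} (hs : s ∈ (S : Subgroup G)) {p q : Equiv.Perm (Fin 5)}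
    (h : Sw M₁ M₂ s p q) : s * M₁.e ss * s⁻¹ = M₂.e ss := by
  have h1 : s * M₁.e ss * s⁻¹ ∈ V₂ := by rw [h.1]; exact M₂.e_mem _
  have h2 : ∀ t ∈ (S : Subgroup G) ⊓ L₂, t * (s * M₁.e ss * s⁻¹) = s * M₁.e ss * s⁻¹ * t := by
    intro t ht
    have h3 : s⁻¹ * t * s ∈ L₁ := by
      refine w.mem_L₁ (mul_mem (mul_mem (inv_mem (hSP hs)) (w.L₂_le ht.2)) (hSP hs)) fun v hv => ?_
      obtain ⟨x, rfl⟩ := (M₂.mem_iff v).1 hv
      have h4 : s * M₂.e x * s⁻¹ ∈ V₁ := by rw [h.2]; exact M₁.e_mem _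
      have h5 := w.L₂_comm ht.2 h4
      calc s⁻¹ * t * s * M₂.e x = s⁻¹ * (t * (s * M₂.e x * s⁻¹)) * s := by group
        _ = s⁻¹ * ((s * M₂.e x * s⁻¹) * t) * s := by rw [h5]
        _ = M₂.e x * (s⁻¹ * t * s) := by group
    have h6 := w.comm_ss hSP (mul_mem (mul_mem (inv_mem hs) ht.1) hs) (M₁.le_normalizer h3)
    calc t * (s * M₁.e ss * s⁻¹) = s * ((s⁻¹ * t * s) * M₁.e ss) * s⁻¹ := by group
      _ = s * (M₁.e ss * (s⁻¹ * t * s)) * s⁻¹ := by rw [h6]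
      _ = s * M₁.e ss * s⁻¹ * t := by group
  rcases w.symm.fixed₁ h1 h2 with h3 | h3
  · exfalso
    rw [mul_inv_eq_one, mul_eq_left] at h3
    exact s_ne M₁ h3
  · exact h3

end

section fin

variable [Finite G] (w : Wr S P M₁ M₂)
include w

omit [Finite G] in
theorem S_le : (S : Subgroup G) ≤ P := w.star.isLoc.le

theorem amb : Amb (S : Subgroup G) P (zl (S : Subgroup G) P) := amb_of_loc w.hG S w.star.isLoc

theorem V₁_le_S : V₁ ≤ (S : Subgroup G) := w.V₁_le.trans w.amb.VT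

theorem V₂_le_S : V₂ ≤ (S : Subgroup G) := w.V₂_le.trans w.amb.VT

theorem comm {v v' : G} (hv : v ∈ V₁) (hv' : v' ∈ V₂) : v * v' = v' * v :=
  w.amb.comm v (w.V₁_le hv) v' (w.V₂_le hv')

theorem V₁_le_L₁ : V₁ ≤ L₁ := fun _ hv => w.mem_L₁ (w.S_le (w.V₁_le_S hv)) fun _ hv' => w.comm hv hv'

theorem V₂_le_L₂ : V₂ ≤ L₂ := w.symm.V₁_le_L₁

/-- `Ω₁(Z(S)) ≤ ⟨σ₁ σ₂⟩` -/
theorem zS_le {x : G} (hx : x ∈ zc (S : Subgroup G)) : x = 1 ∨ x = M₁.e ss * M₂.e ss := by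
  obtain ⟨hxS, hxc, hx2⟩ := mem_zc.1 hx
  have h1 : x ∈ V₁ ⊔ V₂ := w.sup ▸ zc_le_zl _ _ hx
  have hn : V₂ ≤ normalizer (V₁ : Set G) := fun v hv => by
    refine centralizer_le_normalizer _ (mem_centralizer_iff.2 fun u hu => w.comm hu hv)
  obtain ⟨v₁, hv₁, v₂, hv₂, rfl⟩ : ∃ v₁ ∈ V₁, ∃ v₂ ∈ V₂, v₁ * v₂ = x := by
    have h2 : x ∈ ((V₁ ⊔ V₂ : Subgroup G) : Set G) := h1
    rw [coe_mul_of_right_le_normalizer_left _ _ hn] at h2
    exact Set.mem_mul.1 h2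
  have f₁ : v₁ = 1 ∨ v₁ = M₁.e ss := by
    refine w.fixed₁ hv₁ fun t ht => ?_
    have h3 := hxc t ht.1
    have h4 := w.L₁_comm ht.2 hv₂
    refine mul_right_cancel (b := v₂) ?_
    calc t * v₁ * v₂ = v₁ * v₂ * t := by rw [mul_assoc, h3]
      _ = v₁ * (t * v₂) := by rw [h4, mul_assoc]
      _ = v₁ * t * v₂ := by group
  have f₂ : v₂ = 1 ∨ v₂ = M₂.e ss := by
    refine w.symm.fixed₁ hv₂ fun t ht => ?_
    have h3 := hxc t ht.1
    have h4 := w.L₂_comm ht.2 hv₁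
    refine mul_left_cancel (a := v₁) ?_
    calc v₁ * (t * v₂) = (v₁ * t) * v₂ := by group
      _ = t * (v₁ * v₂) := by rw [← h4]; group
      _ = v₁ * (v₂ * t) := by rw [h3, mul_assoc]
  obtain ⟨s, hs, p, q, hsw⟩ := w.swap
  have hs1 := w.sw_ss w.S_le hs hsw
  have hs2 := w.symm.sw_ss w.S_le hs (p := q) (q := p) ⟨hsw.2, hsw.1⟩
  have hxs : s * (v₁ * v₂) * s⁻¹ = v₁ * v₂ := by rw [hxc s hs, mul_inv_cancel_right]
  rcases f₁ with rfl | rfl <;> rcases f₂ with rfl | rfl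
  · left; group
  · exfalso
    rw [one_mul, hs2] at hxs
    have h5 : M₁.e ss ∈ V₁ ⊓ V₂ := ⟨M₁.e_mem _, by rw [hxs]; exact M₂.e_mem _⟩
    rw [w.inf, mem_bot] at h5
    exact s_ne M₁ h5
  · exfalso
    rw [mul_one, hs1] at hxs
    have h5 : M₂.e ss ∈ V₁ ⊓ V₂ := ⟨by rw [hxs]; exact M₁.e_mem _, M₂.e_mem _⟩
    rw [w.inf, mem_bot] at h5
    exact s_ne M₂ h5
  · right; rfl

/-- `S₁ = N_S(V₁)` -/
theorem mem_or {s : G} (hs : s ∈ (S : Subgroup G)) {p q : Equiv.Perm (Fin 5)} (h : Sw M₁ M₂ s p q) {x : G}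
    (hx : x ∈ (S : Subgroup G)) : x ∈ (S : Subgroup G) ⊓ normalizer (V₁ : Set G) ∨
      x * s ∈ (S : Subgroup G) ⊓ normalizer (V₁ : Set G) := by
  rcases w.mov x (w.S_le hx) with ⟨p', q', h1, -⟩ | ⟨p', q', h1⟩
  · exact Or.inl ⟨hx, h1.mem_normalizer⟩
  · right
    refine ⟨mul_mem hx hs, ?_⟩
    have h2 : M₁.Ind (x * s) (q' * p) := by
      intro y
      calc x * s * M₁.e y * (x * s)⁻¹ = x * (s * M₁.e y * s⁻¹) * x⁻¹ := by group
        _ = x * M₂.e (y ∘ p.symm) * x⁻¹ := by rw [h.1]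
        _ = M₁.e ((y ∘ p.symm) ∘ q'.symm) := h1.2 _
        _ = M₁.e (y ∘ (q' * p).symm) := rfl
    exact h2.mem_normalizer

omit [Finite G] in
theorem sw_not_mem {s : G} {p q : Equiv.Perm (Fin 5)} (h : Sw M₁ M₂ s p q) :
    s ∉ normalizer (V₁ : Set G) := fun hn =>
  w.not_mem_of_sw h (M₁.e_mem nn) (n_ne M₁) ((mem_normalizer_iff.1 hn _).1 (M₁.e_mem nn))

/-- `|S : S₁| = 2` -/
theorem card_S₁ : Nat.card (S : Subgroup G) =
    2 * Nat.card ((S : Subgroup G) ⊓ normalizer (V₁ : Set G) : Subgroup G) := by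
  obtain ⟨s, hs, p, q, hsw⟩ := w.swap
  set T := (S : Subgroup G) ⊓ normalizer (V₁ : Set G) with hT
  have h1 : (T.subgroupOf S).index = 2 := by
    rw [index_eq_two_iff]
    refine ⟨⟨s, hs⟩, fun x => ?_⟩
    have hsT : s ∉ T := fun h0 => w.sw_not_mem hsw h0.2
    by_cases hx : (x : G) ∈ T
    · right
      refine ⟨mem_subgroupOf.2 hx, fun h0 => hsT ?_⟩
      have h2 := mem_subgroupOf.1 h0
      have h3 := mul_mem (inv_mem hx) h2
      have h4 : (x : G)⁻¹ * ((x * ⟨s, hs⟩ : (S : Subgroup G)) : G) = s := by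
        rw [coe_mul]; group
      rwa [h4] at h3
    · left
      refine ⟨mem_subgroupOf.2 ?_, fun h0 => hx (mem_subgroupOf.1 h0)⟩
      rcases w.mem_or hs hsw x.2 with h2 | h2
      · exact absurd h2 hx
      · exact h2
  have h2 := (T.subgroupOf (S : Subgroup G)).card_mul_index
  rw [h1] at h2
  have h3 : Nat.card (T.subgroupOf (S : Subgroup G)) = Nat.card T :=
    Nat.card_congr (subgroupOfEquivOfLe inf_le_left).toEquiv
  rw [← h2, h3, mul_comm]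

/-- `C_S(n) ≤ S₁` -/
theorem T_le : (S : Subgroup G) ⊓ centralizer ({M₁.e nn} : Set G) ≤
    (S : Subgroup G) ⊓ normalizer (V₁ : Set G) := by
  rintro x ⟨hx, hc⟩
  obtain ⟨p, q, hp, -⟩ := w.ind_of_comm (w.S_le hx) (M₁.e_mem nn) (n_ne M₁) (mem_C.1 hc)
  exact ⟨hx, hp.mem_normalizer⟩

omit [Finite G] in
/-- an element of `S ∩ L₁` interchanging `n` and `a` -/
theorem exists_x : ∃ x ∈ (S : Subgroup G) ⊓ L₁, M₁.Ind x tt := w.d₁' tt (by decide)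

theorem T_ind {g : G} (hg : g ∈ (S : Subgroup G) ⊓ centralizer ({M₁.e nn} : Set G)) :
    ∃ p q, TTp p ∧ M₁.Ind g p ∧ M₂.Ind g q := by
  obtain ⟨p, q, hp, hq⟩ := w.ind_of_comm (w.S_le hg.1) (M₁.e_mem nn) (n_ne M₁) (mem_C.1 hg.2)
  exact ⟨p, q, ttp_of p (w.dS w.S_le hg.1 hp) ((hp.commute_iff _).1 (mem_C.1 hg.2)), hp, hq⟩

omit [Finite G] w in
theorem mem_T_of_ind {g : G} (hg : g ∈ (S : Subgroup G)) {p : Equiv.Perm (Fin 5)} (hp : TTp p)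
    (hi : M₁.Ind g p) : g ∈ (S : Subgroup G) ⊓ centralizer ({M₁.e nn} : Set G) :=
  ⟨hg, mem_C.2 ((hi.commute_iff _).2 (Or.inl (ttp_nn p hp)))⟩

theorem T_comm_a {g : G} (hg : g ∈ (S : Subgroup G) ⊓ centralizer ({M₁.e nn} : Set G)) :
    g * M₁.e aa = M₁.e aa * g := by
  obtain ⟨p, q, hp, hi, -⟩ := w.T_ind hg
  exact (hi.commute_iff _).2 (Or.inl (ttp_aa p hp))

theorem T_comm_s₁ {g : G} (hg : g ∈ (S : Subgroup G) ⊓ centralizer ({M₁.e nn} : Set G)) :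
    g * M₁.e ss = M₁.e ss * g := w.comm_ss w.S_le hg.1 (w.T_le hg).2

theorem T_comm_s₂ {g : G} (hg : g ∈ (S : Subgroup G) ⊓ centralizer ({M₁.e nn} : Set G)) :
    g * M₂.e ss = M₂.e ss * g := by
  obtain ⟨p, q, -, -, hq⟩ := w.T_ind hg
  exact w.symm.comm_ss w.S_le hg.1 hq.mem_normalizer

/-- `S₁ = T ∪ T x` -/
theorem mem_or₁ {x : G} (hx : x ∈ (S : Subgroup G)) (hi : M₁.Ind x tt) {y : G}
    (hy : y ∈ (S : Subgroup G) ⊓ normalizer (V₁ : Set G)) :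
    y ∈ (S : Subgroup G) ⊓ centralizer ({M₁.e nn} : Set G) ∨
      y * x ∈ (S : Subgroup G) ⊓ centralizer ({M₁.e nn} : Set G) := by
  obtain ⟨p, q, hp, -⟩ := w.ind_of_norm (w.S_le hy.1) hy.2
  rcases ttp_or p (w.dS w.S_le hy.1 hp) with h1 | h1
  · exact Or.inl (mem_T_of_ind hy.1 h1 hp)
  · exact Or.inr (mem_T_of_ind (mul_mem hy.1 hx) h1 (hp.mul hi))

omit [Finite G] w in
theorem tt_n {g : G} (hg : M₁.Ind g tt) : g * M₁.e nn * g⁻¹ = M₁.e aa := by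
  rw [hg, M₁.e_eq_iff]; decide

omit [Finite G] w in
theorem tt_a {g : G} (hg : M₁.Ind g tt) : g * M₁.e aa * g⁻¹ = M₁.e nn := by
  rw [hg, M₁.e_eq_iff]; decide

/-- `x` normalises `T = C_S(n)` -/
theorem conj_T {x : G} (hx : x ∈ (S : Subgroup G)) (hi : M₁.Ind x tt) {y : G}
    (hy : y ∈ (S : Subgroup G) ⊓ centralizer ({M₁.e nn} : Set G)) :
    x * y * x⁻¹ ∈ (S : Subgroup G) ⊓ centralizer ({M₁.e nn} : Set G) := by
  refine mem_inf.2 ⟨mul_mem (mul_mem hx hy.1) (inv_mem hx), mem_C.2 ?_⟩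
  rw [← tt_a hi]
  calc x * y * x⁻¹ * (x * M₁.e aa * x⁻¹) = x * (y * M₁.e aa) * x⁻¹ := by group
    _ = x * (M₁.e aa * y) * x⁻¹ := by rw [w.T_comm_a hy]
    _ = x * M₁.e aa * x⁻¹ * (x * y * x⁻¹) := by group

/-- `|S₁ : T| = 2` -/
theorem card_T₁ : Nat.card ((S : Subgroup G) ⊓ normalizer (V₁ : Set G) : Subgroup G) =
    2 * Nat.card ((S : Subgroup G) ⊓ centralizer ({M₁.e nn} : Set G) : Subgroup G) := by
  obtain ⟨x, hx, hi⟩ := w.exists_x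
  set S₁ := (S : Subgroup G) ⊓ normalizer (V₁ : Set G) with hS₁
  set T := (S : Subgroup G) ⊓ centralizer ({M₁.e nn} : Set G) with hT
  have hxS : x ∈ S₁ := ⟨hx.1, hi.mem_normalizer⟩
  have h1 : (T.subgroupOf S₁).index = 2 := by
    rw [index_eq_two_iff]
    refine ⟨⟨x, hxS⟩, fun y => ?_⟩
    have hxT : x ∉ T := by
      intro h0
      have h2 := tt_n hi
      rw [mem_C.1 h0.2, mul_inv_cancel_right] at h2
      exact n_ne_a M₁ h2
    by_cases hy : (y : G) ∈ T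
    · right
      refine ⟨mem_subgroupOf.2 hy, fun h0 => hxT ?_⟩
      have h2 := mem_subgroupOf.1 h0
      have h3 := mul_mem (inv_mem hy) h2
      have h4 : (y : G)⁻¹ * ((y * ⟨x, hxS⟩ : S₁) : G) = x := by
        rw [coe_mul]; group
      rwa [h4] at h3
    · left
      refine ⟨mem_subgroupOf.2 ?_, fun h0 => hy (mem_subgroupOf.1 h0)⟩
      rcases w.mem_or₁ hx.1 hi y.2 with h2 | h2
      · exact absurd h2 hy
      · exact h2
  have h2 := (T.subgroupOf S₁).card_mul_index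
  rw [h1] at h2
  have h3 : Nat.card (T.subgroupOf S₁) = Nat.card T :=
    Nat.card_congr (subgroupOfEquivOfLe w.T_le).toEquiv
  rw [← h2, h3, mul_comm]

/-- `|S : C_S(n)| = 4` -/
theorem card_T : Nat.card (S : Subgroup G) =
    4 * Nat.card ((S : Subgroup G) ⊓ centralizer ({M₁.e nn} : Set G) : Subgroup G) := by
  rw [w.card_S₁, w.card_T₁]
  ring

/-- `Ω₁(Z(S₁)) ≤ ⟨σ₁, σ₂⟩` -/
theorem zS₁_le {x : G} (hx : x ∈ zc ((S : Subgroup G) ⊓ normalizer (V₁ : Set G))) :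
    x = 1 ∨ x = M₁.e ss ∨ x = M₂.e ss ∨ x = M₁.e ss * M₂.e ss := by
  obtain ⟨s, hs, p, q, hsw⟩ := w.swap
  have hs1 := w.sw_ss w.S_le hs hsw
  obtain ⟨hxS, hxc, hx2⟩ := mem_zc.1 hx
  set S₁ := (S : Subgroup G) ⊓ normalizer (V₁ : Set G) with hS₁
  -- `s` normalises `S₁`
  have hssw : M₁.Ind (s * s) (q * p) := by
    intro y
    calc s * s * M₁.e y * (s * s)⁻¹ = s * (s * M₁.e y * s⁻¹) * s⁻¹ := by group
      _ = s * M₂.e (y ∘ p.symm) * s⁻¹ := by rw [hsw.1]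
      _ = M₁.e ((y ∘ p.symm) ∘ q.symm) := hsw.2 _
      _ = M₁.e (y ∘ (q * p).symm) := rfl
  have hss : s * s ∈ S₁ := ⟨mul_mem hs hs, hssw.mem_normalizer⟩
  have hnS : ∀ y ∈ S₁, s * y * s⁻¹ ∈ S₁ := by
    rintro y ⟨hy, hyn⟩
    refine ⟨(S : Subgroup G).mul_mem ((S : Subgroup G).mul_mem hs hy) ((S : Subgroup G).inv_mem hs), ?_⟩
    obtain ⟨p', q', -, hq'⟩ := w.ind_of_norm (w.S_le hy) hyn
    have h1 : ∀ v ∈ V₁, s * y * s⁻¹ * v * (s * y * s⁻¹)⁻¹ ∈ V₁ := by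
      intro v hv
      obtain ⟨z, rfl⟩ := (M₁.mem_iff v).1 hv
      have e1 := hsw.2 (z ∘ q)
      have e2 : (z ∘ q) ∘ q.symm = z := by funext i; simp
      rw [e2] at e1
      have e3 : s * y * s⁻¹ * M₁.e z * (s * y * s⁻¹)⁻¹ = s * (y * M₂.e (z ∘ q) * y⁻¹) * s⁻¹ := by
        rw [← e1]; group
      rw [e3, hq', hsw.2]
      exact M₁.e_mem _
    refine MinSimple.VModule.mem_normalizer_of_map_le ?_
    rintro _ ⟨v, hv, rfl⟩
    exact h1 v hv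
  -- the fixed points of `s`
  have key : ∀ y ∈ zc S₁, s * y * s⁻¹ = y → y = 1 ∨ y = M₁.e ss * M₂.e ss := by
    intro y hy hys
    obtain ⟨hyS, hyc, hy2⟩ := mem_zc.1 hy
    refine w.zS_le (mem_zc.2 ⟨hyS.1, fun b hb => ?_, hy2⟩)
    have hys' : s * y = y * s := by rwa [mul_inv_eq_iff_eq_mul] at hys
    rcases w.mem_or hs hsw hb with h4 | h4
    · exact hyc b h4
    · have h5 := hyc _ h4
      have h6 : b * y * s = y * b * s := by
        calc b * y * s = b * (y * s) := by group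
          _ = b * (s * y) := by rw [hys']
          _ = b * s * y := by group
          _ = y * (b * s) := h5
          _ = y * b * s := by group
      exact mul_right_cancel h6
  have hxx : x * x = 1 := by rw [← pow_two]; exact hx2
  have hxsz : s * x * s⁻¹ ∈ zc S₁ := by
    refine mem_zc.2 ⟨hnS x hxS, fun b hb => ?_, ?_⟩
    · have h1 : s⁻¹ * b * s ∈ S₁ := by
        have h2 := hnS b hb
        have h3 := mul_mem (mul_mem (inv_mem hss) h2) hss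
        have e : (s * s)⁻¹ * (s * b * s⁻¹) * (s * s) = s⁻¹ * b * s := by group
        rwa [e] at h3
      have h2 := hxc _ h1
      calc b * (s * x * s⁻¹) = s * (s⁻¹ * b * s * x) * s⁻¹ := by group
        _ = s * (x * (s⁻¹ * b * s)) * s⁻¹ := by rw [h2]
        _ = s * x * s⁻¹ * b := by group
    · rw [pow_two]
      calc s * x * s⁻¹ * (s * x * s⁻¹) = s * (x * x) * s⁻¹ := by group
        _ = 1 := by rw [hxx]; group
  have hcomm : x * (s * x * s⁻¹) = s * x * s⁻¹ * x := (hxc _ (mem_zc.1 hxsz).1).symm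
  have hy : x * (s * x * s⁻¹) ∈ zc S₁ := by
    refine mem_zc.2 ⟨mul_mem hxS (mem_zc.1 hxsz).1, fun b hb => ?_, ?_⟩
    · calc b * (x * (s * x * s⁻¹)) = (b * x) * (s * x * s⁻¹) := by group
        _ = x * (b * (s * x * s⁻¹)) := by rw [hxc b hb]; group
        _ = x * (s * x * s⁻¹) * b := by rw [(mem_zc.1 hxsz).2.1 b hb]; group
    · rw [pow_two]
      calc x * (s * x * s⁻¹) * (x * (s * x * s⁻¹)) = x * ((s * x * s⁻¹) * x) * (s * x * s⁻¹) := by group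
        _ = x * (x * (s * x * s⁻¹)) * (s * x * s⁻¹) := by rw [← hcomm]
        _ = (x * x) * (s * (x * x) * s⁻¹) := by group
        _ = 1 := by rw [hxx]; group
  have hyfix : s * (x * (s * x * s⁻¹)) * s⁻¹ = x * (s * x * s⁻¹) := by
    have h1 : s * s * x = x * (s * s) := hxc _ hss
    calc s * (x * (s * x * s⁻¹)) * s⁻¹ = (s * x * s⁻¹) * ((s * s * x) * (s * s)⁻¹) := by group
      _ = (s * x * s⁻¹) * x := by rw [h1]; group
      _ = x * (s * x * s⁻¹) := hcomm.symm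
  rcases key _ hy hyfix with h1 | h1
  · have h2 : s * x * s⁻¹ = x := by
      have h3 := eq_inv_of_mul_eq_one_right h1
      rw [h3]
      exact inv_eq_of_mul_eq_one_left hxx
    rcases key x hx h2 with h3 | h3
    · exact Or.inl h3
    · exact Or.inr (Or.inr (Or.inr h3))
  · -- `x σ₁` is fixed by `s`
    have hσS : M₁.e ss ∈ S₁ := ⟨w.V₁_le_S (M₁.e_mem ss), M₁.le_normalizer (w.V₁_le_L₁ (M₁.e_mem ss))⟩
    have hσz : M₁.e ss ∈ zc S₁ :=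
      mem_zc.2 ⟨hσS, fun b hb => w.comm_ss w.S_le hb.1 hb.2, e_sq' M₁ ss⟩
    have hxσ : x * M₁.e ss = M₁.e ss * x := (hxc _ hσS).symm
    have hz2 : x * M₁.e ss ∈ zc S₁ := by
      refine mem_zc.2 ⟨mul_mem hxS hσS, fun b hb => ?_, ?_⟩
      · calc b * (x * M₁.e ss) = (b * x) * M₁.e ss := by group
          _ = x * (b * M₁.e ss) := by rw [hxc b hb]; group
          _ = x * M₁.e ss * b := by rw [(mem_zc.1 hσz).2.1 b hb]; group
      · rw [pow_two]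
        calc x * M₁.e ss * (x * M₁.e ss) = x * (M₁.e ss * x) * M₁.e ss := by group
          _ = (x * x) * (M₁.e ss * M₁.e ss) := by rw [← hxσ]; group
          _ = 1 := by rw [hxx, M₁.e_sq, one_mul]
    have h12 : M₁.e ss * M₂.e ss = M₂.e ss * M₁.e ss := w.comm (M₁.e_mem _) (M₂.e_mem _)
    have h2 : s * (x * M₁.e ss) * s⁻¹ = x * M₁.e ss := by
      have h3 : s * x * s⁻¹ = x * (M₁.e ss * M₂.e ss) := by
        rw [← h1, ← mul_assoc, hxx, one_mul]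
      calc s * (x * M₁.e ss) * s⁻¹ = (s * x * s⁻¹) * (s * M₁.e ss * s⁻¹) := by group
        _ = x * (M₁.e ss * (M₂.e ss * M₂.e ss)) := by rw [h3, hs1]; group
        _ = x * M₁.e ss := by rw [M₂.e_sq, mul_one]
    rcases key _ hz2 h2 with h3 | h3
    · right; left
      have := congrArg (· * M₁.e ss) h3
      simpa [mul_assoc, M₁.e_sq] using this
    · right; right; left
      have h4 : x = (M₁.e ss * M₂.e ss) * M₁.e ss := by
        rw [← h3, mul_assoc, M₁.e_sq, mul_one]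
      rw [h4, h12, mul_assoc, M₁.e_sq, mul_one]

end fin

end Wr

end Cfsg.Agent.Omega.IId.LFour
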