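import Cfsg.Agent.Omega.IId.LFour.HomFive

/-!
# An equivariant map fixed by `T W` (project OMEGA, II.d L4)
-/

set_option autoImplicit false

namespace Cfsg.Agent.Omega.IId.LFour

open Subgroup Cfsg Cfsg.Agent.ZN Cfsg.Agent.Omega.S5.Mod Cfsg.Agent.Omega.S5.TT
open Cfsg.Agent.Omega.S5.TT.Pos (s_ne)

universe u

variable {G : Type u} [Group G]

/-- `L` acts on `W / W₀`, `|W : W₀| ≤ 4`, `W₀ ≤ C(V)`. -/
structure QD {V L : Subgroup G} (M : FiveMod V L) (W W₀ : Subgroup G) : Prop where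
  VL : V ≤ L
  LW : L ≤ normalizer (W : Set G)
  W₀W : W₀ ≤ W
  L0 : L ≤ normalizer (W₀ : Set G)
  W₀V : W₀ ≤ centralizer (V : Set G)
  card : Nat.card W ≤ 4 * Nat.card W₀

namespace QD

variable {V L W W₀ : Subgroup G} {M : FiveMod V L}

theorem exists_five [Finite G] (h : QD M W W₀) : ∃ g ∈ Ker L W W₀, M.Ind g c5 := by
  obtain ⟨l, hl, hi⟩ := M.exists_lift c5⁻¹
  refine ⟨l ^ 24, pow_mem_Ker h.W₀W h.LW h.L0 h.card hl, ?_⟩
  have key : ∀ n : ℕ, M.Ind (l ^ n) (c5⁻¹ ^ n) := by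
    intro n
    induction n with
    | zero => rw [pow_zero, pow_zero]; exact M.ind_one
    | succ n ih => rw [pow_succ, pow_succ]; exact ih.mul hi
  have h1 := key 24
  rwa [c5_pow] at h1

theorem V_le_Ker [Finite G] (h : QD M W W₀) : V ≤ Ker L W W₀ := by
  intro v hv
  obtain ⟨g, hg, hi⟩ := h.exists_five
  obtain ⟨y, rfl⟩ := (M.mem_iff v).1 hv
  obtain ⟨x, hx⟩ := rot_surj y
  have hxL : M.e x ∈ L := h.VL (M.e_mem x)
  have h1 : M.e x * g * (M.e x)⁻¹ ∈ Ker L W W₀ :=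
    Ker_conj (le_normalizer hxL) (h.LW hxL) (h.L0 hxL) hg
  have h2 := mul_mem h1 (inv_mem hg)
  have e : M.e x * g * (M.e x)⁻¹ * g⁻¹ = M.e y := by
    calc M.e x * g * (M.e x)⁻¹ * g⁻¹ = M.e x * (g * M.e x * g⁻¹) := by rw [M.e_inv]; group
      _ = M.e (x + rot x) := by rw [hi, M.e_add]
      _ = M.e y := by rw [M.e_eq_iff]; exact hx
  rwa [e] at h2

theorem key {g w w' : G} (hg : g ∈ Ker L W W₀) (hw : w ∈ W) (hw' : w' ∈ W) :
    w'⁻¹ * (w⁻¹ * (g * w * g⁻¹)) * w' ∈ W₀ := by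
  have h1 := mul_mem (hg.2.2 _ (mul_mem hw hw')) (inv_mem (hg.2.2 _ hw'))
  have e : (w * w')⁻¹ * (g * (w * w') * g⁻¹) * (w'⁻¹ * (g * w' * g⁻¹))⁻¹ =
      w'⁻¹ * (w⁻¹ * (g * w * g⁻¹)) * w' := by group
  rwa [e] at h1

theorem hom_conj (h : QD M W W₀) {w : G} (hw : w ∈ W) :
    Hom5 M (Ker L W W₀) fun x => w * M.e x * w⁻¹ :=
  (Hom5.base M _).conj fun g hg x =>
    (mem_centralizer_iff.1 (h.W₀V (hg.2.2 w hw)) _ (M.e_mem x)).symm

theorem comm_conj [Finite G] (h : QD M W W₀) {w w' : G} (hw : w ∈ W) (hw' : w' ∈ W) (x y : Vec) :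
    w * M.e x * w⁻¹ * (w' * M.e y * w'⁻¹) = w' * M.e y * w'⁻¹ * (w * M.e x * w⁻¹) := by
  have h1 := (h.hom_conj (mul_mem (inv_mem hw) hw')).comm_of_mem (h.V_le_Ker (M.e_mem x)) (M.e_mem x) y
  calc w * M.e x * w⁻¹ * (w' * M.e y * w'⁻¹) =
      w * (M.e x * (w⁻¹ * w' * M.e y * (w⁻¹ * w')⁻¹)) * w⁻¹ := by group
    _ = w * ((w⁻¹ * w' * M.e y * (w⁻¹ * w')⁻¹) * M.e x) * w⁻¹ := by rw [h1]
    _ = w' * M.e y * w'⁻¹ * (w * M.e x * w⁻¹) := by group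

/-- `⟨V^W⟩` -/
def UU (M : FiveMod V L) (W : Subgroup G) : Subgroup G :=
  closure {u | ∃ w ∈ W, ∃ x, u = w * M.e x * w⁻¹}

theorem mem_UU {w : G} (hw : w ∈ W) (x : Vec) : w * M.e x * w⁻¹ ∈ UU M W :=
  subset_closure ⟨w, hw, x, rfl⟩

theorem UU_comm [Finite G] (h : QD M W W₀) {u u' : G} (hu : u ∈ UU M W) (hu' : u' ∈ UU M W) :
    u * u' = u' * u := by
  have h1 : UU M W ≤ centralizer {u | ∃ w ∈ W, ∃ x, u = w * M.e x * w⁻¹} := by
    rw [UU, closure_le]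
    rintro _ ⟨w, hw, x, rfl⟩
    refine mem_centralizer_iff.2 ?_
    rintro _ ⟨w', hw', y, rfl⟩
    exact h.comm_conj hw' hw y x
  have h2 : UU M W ≤ centralizer (UU M W : Set G) := by
    rw [UU, closure_le]
    intro s hs
    refine mem_centralizer_iff.2 fun g hg => ?_
    exact (mem_centralizer_iff.1 (h1 hg) s hs).symm
  exact (mem_centralizer_iff.1 (h2 hu) u' hu').symm

theorem UU_conj_w {w u : G} (hw : w ∈ W) (hu : u ∈ UU M W) : w * u * w⁻¹ ∈ UU M W := by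
  have h1 : UU M W ≤ (UU M W).comap (MulAut.conj w).toMonoidHom := by
    rw [UU, closure_le]
    rintro _ ⟨w', hw', x, rfl⟩
    change w * (w' * M.e x * w'⁻¹) * w⁻¹ ∈ UU M W
    have e : w * (w' * M.e x * w'⁻¹) * w⁻¹ = w * w' * M.e x * (w * w')⁻¹ := by group
    rw [e]
    exact mem_UU (mul_mem hw hw') x
  exact h1 hu

theorem UU_conj_t {t u : G} (htW : t ∈ normalizer (W : Set G)) {q : Equiv.Perm (Fin 5)} (hq : M.Ind t q)
    (hu : u ∈ UU M W) : t * u * t⁻¹ ∈ UU M W := by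
  have h1 : UU M W ≤ (UU M W).comap (MulAut.conj t).toMonoidHom := by
    rw [UU, closure_le]
    rintro _ ⟨w', hw', x, rfl⟩
    change t * (w' * M.e x * w'⁻¹) * t⁻¹ ∈ UU M W
    have e : t * (w' * M.e x * w'⁻¹) * t⁻¹ = (t * w' * t⁻¹) * (t * M.e x * t⁻¹) * (t * w' * t⁻¹)⁻¹ := by group
    rw [e, hq]
    exact mem_UU ((mem_normalizer_iff.1 htW _).1 hw') _
  exact h1 hu

theorem hom_conj' (h : QD M W W₀) {w : G} (hw : w ∈ W) {c : Vec → G}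
    (hc : Hom5 M (Ker L W W₀) c) (hcU : ∀ x, c x ∈ UU M W) :
    Hom5 M (Ker L W W₀) fun x => w * c x * w⁻¹ := by
  refine hc.conj fun g hg x => ?_
  have h1 : UU M W ≤ centralizer {w⁻¹ * (g * w * g⁻¹)} := by
    rw [UU, closure_le]
    rintro _ ⟨w', hw', y, rfl⟩
    refine mem_centralizer_iff.2 ?_
    rintro _ rfl
    have h2 := mem_centralizer_iff.1 (h.W₀V (key hg hw hw')) _ (M.e_mem y)
    calc w⁻¹ * (g * w * g⁻¹) * (w' * M.e y * w'⁻¹) =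
        w' * ((w'⁻¹ * (w⁻¹ * (g * w * g⁻¹)) * w') * M.e y) * w'⁻¹ := by group
      _ = w' * (M.e y * (w'⁻¹ * (w⁻¹ * (g * w * g⁻¹)) * w')) * w'⁻¹ := by rw [h2]
      _ = w' * M.e y * w'⁻¹ * (w⁻¹ * (g * w * g⁻¹)) := by group
  exact mem_centralizer_iff.1 (h1 (hcU x)) _ rfl

/-- the values at `ss` of the equivariant maps `V → ⟨V^W⟩` -/
def CC [Finite G] (h : QD M W W₀) : Subgroup G where
  carrier := {u | ∃ c, Hom5 M (Ker L W W₀) c ∧ (∀ x, c x ∈ UU M W) ∧ c ss = u}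
  mul_mem' := by
    rintro _ _ ⟨c, hc, hcU, rfl⟩ ⟨c', hc', hcU', rfl⟩
    exact ⟨fun x => c x * c' x, hc.mul hc' fun x y => h.UU_comm (hcU x) (hcU' y),
      fun x => mul_mem (hcU x) (hcU' x), rfl⟩
  one_mem' := ⟨fun _ => 1, Hom5.triv _ _, fun _ => one_mem _, rfl⟩
  inv_mem' := by
    rintro _ ⟨c, hc, hcU, rfl⟩
    exact ⟨fun x => (c x)⁻¹, hc.inv_hom, fun x => inv_mem (hcU x), rfl⟩

theorem ss_mem_CC [Finite G] (h : QD M W W₀) : M.e ss ∈ h.CC := by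
  refine ⟨M.e, Hom5.base _ _, fun x => ?_, rfl⟩
  have := mem_UU (M := M) (one_mem W) x
  simpa using this

/-- **A map fixed by `T W`.** -/
theorem exists_fixed_hom [Finite G] (h : QD M W W₀) {T : Subgroup G} (hT2 : IsPGroup 2 (T ⊔ W : Subgroup G))
    (hTL : T ≤ normalizer (L : Set G)) (hTW : T ≤ normalizer (W : Set G))
    (hT0 : T ≤ normalizer (W₀ : Set G)) (hT : ∀ t ∈ T, ∃ q, M.Ind t q ∧ ss ∘ q = ss) :
    ∃ c, Hom5 M (Ker L W W₀) c ∧ (∀ x, c x ∈ UU M W) ∧ c ss ≠ 1 ∧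
      ∀ g ∈ T ⊔ W, g * c ss = c ss * g := by
  have hC2 : IsPGroup 2 h.CC := by
    rintro ⟨u, hu⟩
    refine ⟨1, Subtype.ext ?_⟩
    obtain ⟨c, hc, -, rfl⟩ := hu
    change (c ss) ^ (2 ^ 1) = 1
    rw [pow_one, pow_two]
    exact hc.sq ss
  have hC1 : h.CC ≠ ⊥ := by
    intro h0
    have h1 := h.ss_mem_CC
    rw [h0, mem_bot] at h1
    exact s_ne M h1
  have hn : T ⊔ W ≤ normalizer (h.CC : Set G) := by
    refine sup_le (fun t ht => ?_) fun w hw => ?_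
    · refine MinSimple.VModule.mem_normalizer_of_map_le ?_
      rintro _ ⟨_, ⟨c, hc, hcU, rfl⟩, rfl⟩
      obtain ⟨q, hq, hqs⟩ := hT t ht
      refine ⟨fun x => t * c (x ∘ q) * t⁻¹, hc.twist hq fun g hg =>
        Ker_conj' (hTL ht) (hTW ht) (hT0 ht) hg, fun x => UU_conj_t (hTW ht) hq (hcU _), ?_⟩
      change t * c (ss ∘ q) * t⁻¹ = t * c ss * t⁻¹
      rw [hqs]
    · refine MinSimple.VModule.mem_normalizer_of_map_le ?_
      rintro _ ⟨_, ⟨c, hc, hcU, rfl⟩, rfl⟩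
      exact ⟨fun x => w * c x * w⁻¹, h.hom_conj' hw hc hcU, fun x => UU_conj_w hw (hcU x), rfl⟩
  obtain ⟨u, ⟨c, hc, hcU, rfl⟩, hu1, hu⟩ := Half.exists_fixed hC2 hC1 hT2 hn
  exact ⟨c, hc, hcU, hu1, fun g hg => by
    have := hu g hg
    rwa [mul_inv_eq_iff_eq_mul] at this⟩

end QD

end Cfsg.Agent.Omega.IId.LFour
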