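import Cfsg.Agent.Omega.S5.TT
import Cfsg.Agent.Omega.Half.Basic

/-!
# Equivariant maps of the even-subset module of degree 5 (project OMEGA, II.d L4)

`M : FiveMod V L`; `Hom5 M K c` : `c : Vec → G` induces a homomorphism `V → G` which is equivariant for
`K ≤ L`.  `Ker L W W₀` : the elements of `L` acting trivially on `W / W₀`.  If `|W : W₀| ≤ 4`, `W₀ ≤ C(V)`,
`L` normalises `W`, `W₀` and `V ≤ L`, then `K = Ker L W W₀` contains `V` and an element inducing a 5-cycle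
(`exists_five`, `V_le_Ker`), the maps `v ↦ w v w⁻¹` are equivariant for `K` (`hom_conj`), and there is an
equivariant map whose value at `ss` is fixed by `T W` (`exists_fixed_hom`).
-/

set_option autoImplicit false

namespace Cfsg.Agent.Omega.IId.LFour

open Subgroup Cfsg Cfsg.Agent.ZN Cfsg.Agent.Omega.S5.Mod Cfsg.Agent.Omega.S5.TT
open Cfsg.Agent.Omega.S5.TT.Pos (s_ne)

universe u

variable {G : Type u} [Group G]

/-! ### The 5-cycle -/

/-- the 5-cycle -/
def c5 : Equiv.Perm (Fin 5) := ⟨fun i => i + 1, fun i => i - 1, by decide, by decide⟩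

/-- rotation of labels -/
abbrev rot (x : Vec) : Vec := x ∘ c5.symm

theorem c5_pow : (c5⁻¹) ^ 24 = c5 := by decide +kernel

theorem rot_surj : ∀ y : Vec, ∃ x : Vec, x + rot x = y ∨ x + rot x = y + 1 := by decide +kernel

theorem rot_sum : ∀ x : Vec, x + rot x + rot (rot x) + rot (rot (rot x)) + rot (rot (rot (rot x))) = 0 ∨
    x + rot x + rot (rot x) + rot (rot (rot x)) + rot (rot (rot (rot x))) = 1 := by decide +kernel

theorem rot_span : ∀ x y : Vec, x = 0 ∨ x = 1 ∨ ∃ b₀ b₁ b₂ b₃ : Bool,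
    (cond b₀ x 0 + cond b₁ (rot x) 0 + cond b₂ (rot (rot x)) 0 + cond b₃ (rot (rot (rot x))) 0 = y ∨
      cond b₀ x 0 + cond b₁ (rot x) 0 + cond b₂ (rot (rot x)) 0 + cond b₃ (rot (rot (rot x))) 0 = y + 1) := by
  decide +kernel

theorem ss_ne : ss ≠ 0 ∧ ss ≠ 1 := by decide

/-! ### Equivariant maps -/

/-- `c` induces a homomorphism of `V` into `G`, equivariant for `K`. -/
structure Hom5 {V L : Subgroup G} (M : FiveMod V L) (K : Subgroup G) (c : Vec → G) : Prop where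
  add : ∀ x y, c (x + y) = c x * c y
  one : c 1 = 1
  eqv : ∀ g ∈ K, ∀ p, M.Ind g p → ∀ x, g * c x * g⁻¹ = c (x ∘ p.symm)

namespace Hom5

variable {V L K : Subgroup G} {M : FiveMod V L} {c c' : Vec → G}

theorem zero (h : Hom5 M K c) : c 0 = 1 := by
  have := h.add 0 0
  rw [add_zero] at this
  exact mul_eq_left.1 this.symm

theorem sq (h : Hom5 M K c) (x : Vec) : c x * c x = 1 := by rw [← h.add, add_self, h.zero]

theorem inv (h : Hom5 M K c) (x : Vec) : (c x)⁻¹ = c x := inv_eq_of_mul_eq_one_left (h.sq x)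

theorem comm (h : Hom5 M K c) (x y : Vec) : c x * c y = c y * c x := by
  rw [← h.add, ← h.add, add_comm]

theorem add_one (h : Hom5 M K c) (x : Vec) : c (x + 1) = c x := by rw [h.add, h.one, mul_one]

theorem base (M : FiveMod V L) (K : Subgroup G) : Hom5 M K M.e where
  add := M.e_add
  one := M.e_one
  eqv _ _ _ hp x := hp x

theorem mul (h : Hom5 M K c) (h' : Hom5 M K c') (hc : ∀ x y, c x * c' y = c' y * c x) :
    Hom5 M K fun x => c x * c' x where
  add x y := by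
    rw [h.add, h'.add]
    calc c x * c y * (c' x * c' y) = c x * (c y * c' x) * c' y := by group
      _ = c x * c' x * (c y * c' y) := by rw [hc y x]; group
  one := by rw [h.one, h'.one, mul_one]
  eqv g hg p hp x := by
    rw [← h.eqv g hg p hp, ← h'.eqv g hg p hp]; group

theorem inv_hom (h : Hom5 M K c) : Hom5 M K fun x => (c x)⁻¹ := by
  have : (fun x => (c x)⁻¹) = c := funext h.inv
  rwa [this]

theorem triv (M : FiveMod V L) (K : Subgroup G) : Hom5 M K fun _ => 1 where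
  add _ _ := (mul_one _).symm
  one := rfl
  eqv g _ _ _ _ := by group

/-- conjugation by an element commuting with `K` modulo the centralizer of the image -/
theorem conj (h : Hom5 M K c) {w : G} (hw : ∀ g ∈ K, ∀ x, w⁻¹ * (g * w * g⁻¹) * c x = c x * (w⁻¹ * (g * w * g⁻¹))) :
    Hom5 M K fun x => w * c x * w⁻¹ where
  add x y := by rw [h.add]; group
  one := by rw [h.one]; group
  eqv g hg p hp x := by
    have h1 := hw g hg (x ∘ p.symm)
    calc g * (w * c x * w⁻¹) * g⁻¹ = w * ((w⁻¹ * (g * w * g⁻¹)) * (g * c x * g⁻¹)) * (g * w⁻¹ * g⁻¹) := by group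
      _ = w * (c (x ∘ p.symm) * (w⁻¹ * (g * w * g⁻¹))) * (g * w⁻¹ * g⁻¹) := by rw [h.eqv g hg p hp, h1]
      _ = w * c (x ∘ p.symm) * w⁻¹ := by group

/-- the action of an element normalising `K` and `V` -/
theorem twist (h : Hom5 M K c) {t : G} {q : Equiv.Perm (Fin 5)} (hq : M.Ind t q)
    (ht : ∀ g ∈ K, t⁻¹ * g * t ∈ K) : Hom5 M K fun x => t * c (x ∘ q) * t⁻¹ where
  add x y := by
    have e : (x + y) ∘ q = x ∘ q + y ∘ q := rfl
    rw [e, h.add]; group
  one := by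
    have e : (1 : Vec) ∘ q = 1 := rfl
    rw [e, h.one]; group
  eqv g hg p hp x := by
    have h1 : M.Ind (t⁻¹ * g * t) (q⁻¹ * p * q) := (hq.inv.mul hp).mul hq
    have h2 := h.eqv _ (ht g hg) _ h1 (x ∘ q)
    have e : (x ∘ q) ∘ (q⁻¹ * p * q).symm = (x ∘ p.symm) ∘ q := by
      funext i
      change x (q ((q⁻¹ * p * q)⁻¹ i)) = x (p⁻¹ (q i))
      rw [← Equiv.Perm.mul_apply, ← Equiv.Perm.mul_apply]
      congr 2
      group
    rw [e] at h2
    rw [← h2]; group

/-- a subgroup normalised by a 5-cycle which contains one value contains all -/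
theorem mem_of_mem (h : Hom5 M K c) {g : G} (hg : g ∈ K) (hi : M.Ind g c5) {X : Subgroup G}
    (hX : ∀ u ∈ X, g * u * g⁻¹ ∈ X) {x : Vec} (hx0 : x ≠ 0) (hx1 : x ≠ 1) (hx : c x ∈ X) (y : Vec) :
    c y ∈ X := by
  have key : ∀ z, c z ∈ X → c (rot z) ∈ X := by
    intro z hz
    rw [← h.eqv g hg c5 hi]
    exact hX _ hz
  have key2 : ∀ (b : Bool) (z : Vec), c z ∈ X → c (cond b z 0) ∈ X := by
    intro b z hz
    cases b
    · exact (congrArg (· ∈ X) h.zero).mpr (one_mem X)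
    · exact hz
  rcases rot_span x y with h0 | h0 | ⟨b₀, b₁, b₂, b₃, h1⟩
  · exact absurd h0 hx0
  · exact absurd h0 hx1
  · have h2 : c (cond b₀ x 0 + cond b₁ (rot x) 0 + cond b₂ (rot (rot x)) 0 + cond b₃ (rot (rot (rot x))) 0) ∈ X := by
      rw [h.add, h.add, h.add]
      exact X.mul_mem (X.mul_mem (X.mul_mem (key2 _ _ hx) (key2 _ _ (key _ hx)))
        (key2 _ _ (key _ (key _ hx)))) (key2 _ _ (key _ (key _ (key _ hx))))
    rcases h1 with h1 | h1
    · rwa [h1] at h2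
    · rwa [h1, h.add_one] at h2

/-- if one value is `1` then all are -/
theorem eq_one_of_eq_one (h : Hom5 M K c) {g : G} (hg : g ∈ K) (hi : M.Ind g c5)
    {x : Vec} (hx0 : x ≠ 0) (hx1 : x ≠ 1) (hx : c x = 1) (y : Vec) : c y = 1 := by
  have := h.mem_of_mem hg hi (X := ⊥) (fun u hu => by rw [mem_bot.1 hu]; simp) hx0 hx1 (mem_bot.2 hx) y
  exact mem_bot.1 this

/-- a value fixed by a 5-cycle is `1` -/
theorem eq_one_of_fixed (h : Hom5 M K c) {g : G} (hg : g ∈ K) (hi : M.Ind g c5) {x : Vec}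
    (hx : g * c x = c x * g) : c x = 1 := by
  have h1 : c (rot x) = c x := by
    rw [← h.eqv g hg c5 hi, hx, mul_inv_cancel_right]
  have h2 : c (rot (rot x)) = c x := by
    have := h.eqv g hg c5 hi (rot x)
    rw [h1, hx, mul_inv_cancel_right] at this
    exact this.symm
  have h3 : c (rot (rot (rot x))) = c x := by
    have := h.eqv g hg c5 hi (rot (rot x))
    rw [h2, hx, mul_inv_cancel_right] at this
    exact this.symm
  have h4 : c (rot (rot (rot (rot x)))) = c x := by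
    have := h.eqv g hg c5 hi (rot (rot (rot x)))
    rw [h3, hx, mul_inv_cancel_right] at this
    exact this.symm
  have h5 : c (x + rot x + rot (rot x) + rot (rot (rot x)) + rot (rot (rot (rot x)))) = 1 := by
    rcases rot_sum x with h5 | h5
    · rw [h5, h.zero]
    · rw [h5, h.one]
  rw [h.add, h.add, h.add, h.add, h1, h2, h3, h4] at h5
  calc c x = (c x * c x) * (c x * c x) * c x := by rw [h.sq, one_mul, one_mul]
    _ = c x * c x * c x * c x * c x := by group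
    _ = 1 := h5

/-- `V ≤ K` commutes with the values -/
theorem comm_of_mem (h : Hom5 M K c) {v : G} (hvK : v ∈ K) (hv : v ∈ V) (x : Vec) :
    v * c x = c x * v := by
  have h1 : M.Ind v 1 := FiveMod.ind_one_iff.2 (mem_centralizer_iff.2 fun u hu => M.comm hu hv)
  have h2 := h.eqv v hvK 1 h1 x
  have e : x ∘ (1 : Equiv.Perm (Fin 5)).symm = x := rfl
  rw [e, mul_inv_eq_iff_eq_mul] at h2
  exact h2

end Hom5

/-! ### Elements of `L` acting trivially on `W / W₀` -/

/-- The elements of `L` acting trivially on `W / W₀`. -/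
def Ker (L W W₀ : Subgroup G) : Subgroup G where
  carrier := {g | g ∈ L ∧ g ∈ normalizer (W : Set G) ∧ ∀ w ∈ W, w⁻¹ * (g * w * g⁻¹) ∈ W₀}
  mul_mem' := by
    rintro g h ⟨hg, hgW, hg0⟩ ⟨hh, hhW, hh0⟩
    refine ⟨mul_mem hg hh, mul_mem hgW hhW, fun w hw => ?_⟩
    have h1 : h * w * h⁻¹ ∈ W := (mem_normalizer_iff.1 hhW w).1 hw
    have h2 := mul_mem (hh0 w hw) (hg0 _ h1)
    have e : w⁻¹ * (h * w * h⁻¹) * ((h * w * h⁻¹)⁻¹ * (g * (h * w * h⁻¹) * g⁻¹)) =
        w⁻¹ * (g * h * w * (g * h)⁻¹) := by group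
    rwa [e] at h2
  one_mem' := ⟨one_mem _, one_mem _, fun w _ => by
    have e : w⁻¹ * (1 * w * 1⁻¹) = 1 := by group
    rw [e]; exact one_mem _⟩
  inv_mem' := by
    rintro g ⟨hg, hgW, hg0⟩
    refine ⟨inv_mem hg, inv_mem hgW, fun w hw => ?_⟩
    have h1 : g⁻¹ * w * g⁻¹⁻¹ ∈ W := (mem_normalizer_iff.1 (inv_mem hgW) w).1 hw
    have h2 := inv_mem (hg0 _ h1)
    have e : ((g⁻¹ * w * g⁻¹⁻¹)⁻¹ * (g * (g⁻¹ * w * g⁻¹⁻¹) * g⁻¹))⁻¹ = w⁻¹ * (g⁻¹ * w * g⁻¹⁻¹) := by group
    rwa [e] at h2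

variable {V L W W₀ : Subgroup G}

theorem mem_Ker {g : G} : g ∈ Ker L W W₀ ↔
    g ∈ L ∧ g ∈ normalizer (W : Set G) ∧ ∀ w ∈ W, w⁻¹ * (g * w * g⁻¹) ∈ W₀ := Iff.rfl

theorem Ker_le : Ker L W W₀ ≤ L := fun _ h => h.1

theorem Ker_conj {t g : G} (htL : t ∈ normalizer (L : Set G)) (htW : t ∈ normalizer (W : Set G))
    (ht0 : t ∈ normalizer (W₀ : Set G)) (hg : g ∈ Ker L W W₀) : t * g * t⁻¹ ∈ Ker L W W₀ := by
  refine ⟨(mem_normalizer_iff.1 htL g).1 hg.1, mul_mem (mul_mem htW hg.2.1) (inv_mem htW), fun w hw => ?_⟩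
  have h1 : t⁻¹ * w * t⁻¹⁻¹ ∈ W := (mem_normalizer_iff.1 (inv_mem htW) w).1 hw
  have h2 := (mem_normalizer_iff.1 ht0 _).1 (hg.2.2 _ h1)
  have e : t * ((t⁻¹ * w * t⁻¹⁻¹)⁻¹ * (g * (t⁻¹ * w * t⁻¹⁻¹) * g⁻¹)) * t⁻¹ =
      w⁻¹ * (t * g * t⁻¹ * w * (t * g * t⁻¹)⁻¹) := by group
  rwa [e] at h2

theorem Ker_conj' {t g : G} (htL : t ∈ normalizer (L : Set G)) (htW : t ∈ normalizer (W : Set G))
    (ht0 : t ∈ normalizer (W₀ : Set G)) (hg : g ∈ Ker L W W₀) : t⁻¹ * g * t ∈ Ker L W W₀ := by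
  have := Ker_conj (inv_mem htL) (inv_mem htW) (inv_mem ht0) hg
  rwa [inv_inv] at this

/-- `g ^ 24` acts trivially on `W / W₀` if `|W : W₀| ≤ 4`. -/
theorem pow_mem_Ker [Finite G] (hW₀ : W₀ ≤ W) (hLW : L ≤ normalizer (W : Set G))
    (hL0 : L ≤ normalizer (W₀ : Set G)) (hcard : Nat.card W ≤ 4 * Nat.card W₀) {g : G} (hg : g ∈ L) :
    g ^ 24 ∈ Ker L W W₀ := by
  classical
  let X := W ⧸ W₀.subgroupOf W
  have hX : Nat.card X ≤ 4 := by
    have h1 : Nat.card W₀ * W₀.relIndex W = Nat.card W := Half.card_mul_relIndex hW₀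
    have h2 : Nat.card X = W₀.relIndex W := rfl
    rw [h2]
    by_contra h3
    push Not at h3
    have h4 : 4 * Nat.card W₀ < Nat.card W₀ * W₀.relIndex W := by
      rw [mul_comm]
      exact Nat.mul_lt_mul_of_pos_left h3 Nat.card_pos
    omega
  let f : L → X → X := fun l => Quotient.map' (fun w : W => (⟨(l : G) * w * (l : G)⁻¹,
    (mem_normalizer_iff.1 (hLW l.2) _).1 w.2⟩ : W)) (by
      intro a b hab
      rw [QuotientGroup.leftRel_apply] at hab ⊢
      rw [mem_subgroupOf] at hab ⊢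
      have h1 := (mem_normalizer_iff.1 (hL0 l.2) _).1 hab
      have e : (l : G) * ((a⁻¹ * b : W) : G) * (l : G)⁻¹ =
          ((⟨(l : G) * a * (l : G)⁻¹, (mem_normalizer_iff.1 (hLW l.2) _).1 a.2⟩ : W)⁻¹ *
            (⟨(l : G) * b * (l : G)⁻¹, (mem_normalizer_iff.1 (hLW l.2) _).1 b.2⟩ : W) : W) := by
        push_cast
        group
      rwa [e] at h1)
  let _ : MulAction L X :=
    { smul := f
      one_smul := by
        intro x
        induction x using Quotient.inductionOn'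
        rename_i a
        change Quotient.mk'' _ = _
        congr 1
        apply Subtype.ext
        simp
      mul_smul := by
        intro l l' x
        induction x using Quotient.inductionOn'
        rename_i a
        change Quotient.mk'' _ = Quotient.mk'' _
        congr 1
        apply Subtype.ext
        simp [mul_assoc] }
  let φ : L →* Equiv.Perm X := MulAction.toPermHom L X
  have h24 : Nat.card (Equiv.Perm X) ∣ 24 := by
    rw [Nat.card_perm]
    exact Nat.factorial_dvd_factorial hX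
  have h1 : φ (⟨g, hg⟩ ^ 24) = 1 := by
    rw [map_pow]
    obtain ⟨k, hk⟩ := h24
    rw [hk, pow_mul, pow_card_eq_one', one_pow]
  refine ⟨pow_mem hg 24, hLW (pow_mem hg 24), fun w hw => ?_⟩
  have h2 : φ (⟨g, hg⟩ ^ 24) (Quotient.mk'' (⟨w, hw⟩ : W)) = Quotient.mk'' (⟨w, hw⟩ : W) := by
    rw [h1]; rfl
  have h3 : (Quotient.mk'' (⟨w, hw⟩ : W) : X) = Quotient.mk'' (⟨g ^ 24 * w * (g ^ 24)⁻¹,
      (mem_normalizer_iff.1 (hLW (pow_mem hg 24)) _).1 hw⟩ : W) := h2.symm
  rw [Quotient.eq'', QuotientGroup.leftRel_apply, mem_subgroupOf] at h3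
  simpa using h3

end Cfsg.Agent.Omega.IId.LFour
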