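import Cfsg.Agent.Omega.IId.LFour.NoTri
import Cfsg.Agent.Omega.IId.LFour.AThree
import Cfsg.Agent.Omega.IId.SwNat.ZT
import Cfsg.Agent.Omega.IId.Pair
import Cfsg.Agent.Omega.IId.SymNf
import Cfsg.Agent.Omega.NO1.Nat.SevenA

/-!
# Normalisation of a mixed pair `S₅ wr 2` / `S₅ wr 2` (project OMEGA, II.d L4; helper644 #19215)

`w : Wr S P M₁ M₂`, `S₁ = N_S(V₁)`, `n = M₁.e nn`, `T = C_S(n)`.

* `Wr.cj` : the conjugate of a structure `Wr`;
* `Wr.zT_cases₈` : `Ω₁(Z(T)) = ⟨n, σ₁, σ₂⟩`;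
* `Wr.S₁_syl_Nn` : `S₁` is a Sylow 2-subgroup of `N_G(T)`;
* `exists_two` : two structures with the same `n`, `T` Sylow in `C_G(n)`: after conjugation in `C_G(n)` the groups
  `T`, `S₁` and the elements `n`, `a`, `σ₁`, `σ₂` are the same for both of them.
-/

set_option autoImplicit false
set_option linter.unusedSectionVars false

namespace Cfsg.Agent.Omega.IId.LFour

open Subgroup Pointwise Cfsg Cfsg.Agent.Omega.MinPar Cfsg.Agent.Omega.FFThm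
open Cfsg.Agent.ZN (o2 zc zl)
open Cfsg.Agent.ZN.ChoiceBase (mem_cj cj_cj cj_inv_cj cj_cj_inv)
open Cfsg.Agent.Omega.S5.Mod Cfsg.Agent.Omega.S5.TT
open Cfsg.Agent.Omega.S5.TT.Pos (na ns as sn n_ne s_ne a_ne n_ne_a n_ne_s a_ne_s e_sq' mem_C)
open Cfsg.Agent.Omega.Half (Amb amb_of_loc)
open Cfsg.Agent.MinSimple.VModule (mem_zc zc_le zc_comm zc_sq zc_le_zl le_normalizer_o2 o2_isPGroup o2_le
  normalizer_le_normalizer_zc le_normalizer_zl)
open Cfsg.Agent.Omega.TwoFFour (Syl2)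

universe u

variable {G : Type u} [Group G]

/-! ### Conjugates -/

theorem Sw.cj {V₁ V₂ L₁ L₂ : Subgroup G} {M₁ : FiveMod V₁ L₁} {M₂ : FiveMod V₂ L₂} {s : G}
    {p q : Equiv.Perm (Fin 5)} (h : Sw M₁ M₂ s p q) (g : G) :
    Sw (M₁.cj g) (M₂.cj g) (g * s * g⁻¹) p q := by
  refine ⟨fun x => ?_, fun x => ?_⟩
  · rw [FiveMod.cj_e, FiveMod.cj_e, ← h.1]; group
  · rw [FiveMod.cj_e, FiveMod.cj_e, ← h.2]; group

theorem Wr.cj {S : Sylow 2 G} {P V₁ V₂ L₁ L₂ : Subgroup G} {M₁ : FiveMod V₁ L₁} {M₂ : FiveMod V₂ L₂}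
    (w : Wr S P M₁ M₂) (g : G) : Wr (sy g S) (ZN.ChoiceBase.cj g P) (M₁.cj g) (M₂.cj g) where
  hG := w.hG
  star := by rw [sy_coe]; exact isParS_cj w.star g
  L₁_eq := by
    rw [← ZN.ChoiceBase.cj_centralizer, ← ZN.ChoiceBase.cj_inf, ← w.L₁_eq]
  L₂_eq := by
    rw [← ZN.ChoiceBase.cj_centralizer, ← ZN.ChoiceBase.cj_inf, ← w.L₂_eq]
  sup := by
    rw [sy_coe, zl_cj, w.sup]
    exact Subgroup.map_sup _ _ _
  inf := by
    rw [← ZN.ChoiceBase.cj_inf, w.inf]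
    exact Subgroup.map_bot _
  mov h hh := by
    have e : g * (g⁻¹ * h * g) * g⁻¹ = h := by group
    rcases w.mov _ (mem_cj.1 hh) with ⟨p, q, h1, h2⟩ | ⟨p, q, h1⟩
    · have h3 := M₁.cj_ind (g := g) h1
      have h4 := M₂.cj_ind (g := g) h2
      rw [e] at h3 h4
      exact Or.inl ⟨p, q, h3, h4⟩
    · have h3 := h1.cj g
      rw [e] at h3
      exact Or.inr ⟨p, q, h3⟩
  swap := by
    obtain ⟨s, hs, p, q, h⟩ := w.swap
    refine ⟨g * s * g⁻¹, ?_, p, q, h.cj g⟩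
    rw [sy_coe]
    exact ⟨s, hs, rfl⟩
  d₁ h hh p hp := by
    rw [sy_coe] at hh
    exact w.d₁ _ ⟨mem_cj.1 hh.1, mem_cj.1 hh.2⟩ p (M₁.ind_of_cj hp)
  d₁' p hp := by
    obtain ⟨h, hh, hi⟩ := w.d₁' p hp
    rw [sy_coe]
    exact ⟨g * h * g⁻¹, ⟨⟨h, hh.1, rfl⟩, ⟨h, hh.2, rfl⟩⟩, M₁.cj_ind hi⟩
  d₂ h hh p hp := by
    rw [sy_coe] at hh
    exact w.d₂ _ ⟨mem_cj.1 hh.1, mem_cj.1 hh.2⟩ p (M₂.ind_of_cj hp)
  d₂' p hp := by
    obtain ⟨h, hh, hi⟩ := w.d₂' p hp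
    rw [sy_coe]
    exact ⟨g * h * g⁻¹, ⟨⟨h, hh.1, rfl⟩, ⟨h, hh.2, rfl⟩⟩, M₂.cj_ind hi⟩

namespace Wr

variable {S : Sylow 2 G} {P V₁ V₂ L₁ L₂ : Subgroup G} {M₁ : FiveMod V₁ L₁} {M₂ : FiveMod V₂ L₂}

section fin

variable [Finite G] (w : Wr S P M₁ M₂)
include w

/-- `Ω₁(Z(T)) = ⟨n, σ₁, σ₂⟩` -/
theorem zT_cases₈ {y : G} (hy : y ∈ zc ((S : Subgroup G) ⊓ centralizer ({M₁.e nn} : Set G))) :
    y = 1 ∨ y = M₁.e ss ∨ y = M₂.e ss ∨ y = M₁.e ss * M₂.e ss ∨ y = M₁.e nn ∨ y = M₁.e aa ∨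
      y = M₁.e nn * M₂.e ss ∨ y = M₁.e aa * M₂.e ss := by
  obtain ⟨x, hx, hi⟩ := w.exists_x
  set T := (S : Subgroup G) ⊓ centralizer ({M₁.e nn} : Set G) with hT
  set S₁ := (S : Subgroup G) ⊓ normalizer (V₁ : Set G) with hS₁
  have hxS : x ∈ S₁ := ⟨hx.1, hi.mem_normalizer⟩
  -- the elements fixed by `x`
  have key : ∀ y ∈ zc T, x * y * x⁻¹ = y → y = 1 ∨ y = M₁.e ss ∨ y = M₂.e ss ∨
      y = M₁.e ss * M₂.e ss := by
    intro y hy hxy
    obtain ⟨hyT, hyc, hy2⟩ := mem_zc.1 hy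
    have hxy' : x * y = y * x := mul_inv_eq_iff_eq_mul.1 hxy
    refine w.zS₁_le (mem_zc.2 ⟨w.T_le hyT, fun b hb => ?_, hy2⟩)
    rcases w.mem_or₁ hx.1 hi hb with h1 | h1
    · exact hyc b h1
    · refine mul_right_cancel (b := x) ?_
      calc b * y * x = b * x * y := by rw [mul_assoc, ← hxy', mul_assoc]
        _ = y * (b * x) := hyc _ h1
        _ = y * b * x := by rw [mul_assoc]
  have hnT : M₁.e nn ∈ zc T := by
    refine mem_zc.2 ⟨w.n_mem_T, fun b hb => mem_C.1 hb.2, e_sq' M₁ nn⟩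
  have hyy : y * y = 1 := by rw [← pow_two]; exact (mem_zc.1 hy).2.2
  rcases SwNat.zT_conj w hxS hy with h1 | h1
  · rcases key y hy h1 with h | h | h | h
    · exact Or.inl h
    · exact Or.inr (Or.inl h)
    · exact Or.inr (Or.inr (Or.inl h))
    · exact Or.inr (Or.inr (Or.inr (Or.inl h)))
  · have h2 : y * M₁.e nn ∈ zc T := (zc T).mul_mem hy hnT
    have h3 : x * (y * M₁.e nn) * x⁻¹ = y * M₁.e nn := by
      calc x * (y * M₁.e nn) * x⁻¹ = (x * y * x⁻¹) * (x * M₁.e nn * x⁻¹) := by group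
        _ = y * (M₁.e ss * M₁.e aa) := by rw [h1, tt_n hi, mul_assoc]
        _ = y * M₁.e nn := by rw [M₁.e_comm ss aa, as]
    have h4 : y = y * M₁.e nn * M₁.e nn := by rw [mul_assoc, M₁.e_sq, mul_one]
    have c2 : M₂.e ss * M₁.e nn = M₁.e nn * M₂.e ss := (w.comm (M₁.e_mem nn) (M₂.e_mem ss)).symm
    rcases key _ h2 h3 with h | h | h | h
    · rw [h, one_mul] at h4
      exact Or.inr (Or.inr (Or.inr (Or.inr (Or.inl h4))))
    · rw [h, sn] at h4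
      exact Or.inr (Or.inr (Or.inr (Or.inr (Or.inr (Or.inl h4)))))
    · rw [h, c2] at h4
      exact Or.inr (Or.inr (Or.inr (Or.inr (Or.inr (Or.inr (Or.inl h4))))))
    · rw [h, mul_assoc, c2, ← mul_assoc, sn] at h4
      exact Or.inr (Or.inr (Or.inr (Or.inr (Or.inr (Or.inr (Or.inr h4))))))

theorem n_zT : M₁.e nn ∈ zc ((S : Subgroup G) ⊓ centralizer ({M₁.e nn} : Set G)) :=
  mem_zc.2 ⟨w.n_mem_T, fun _ hb => mem_C.1 hb.2, e_sq' M₁ nn⟩

/-- `S₁ ≤ N(T)` -/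
theorem S₁_le_Nn : (S : Subgroup G) ⊓ normalizer (V₁ : Set G) ≤
    normalizer (((S : Subgroup G) ⊓ centralizer ({M₁.e nn} : Set G) : Subgroup G) : Set G) := by
  obtain ⟨x, hx, hi⟩ := w.exists_x
  have hxS : x ∈ (S : Subgroup G) ⊓ normalizer (V₁ : Set G) := ⟨hx.1, hi.mem_normalizer⟩
  exact Sym.le_normalizer_two w.T_le w.card_T₁

/-- `S₁` is a Sylow 2-subgroup of `C(σ₁)` -/
theorem S₁_syl_s : Syl2 ((S : Subgroup G) ⊓ normalizer (V₁ : Set G)) (centralizer ({M₁.e ss} : Set G)) :=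
  ⟨fun _ hg => mem_C.2 (w.S₁_comm_s₁ hg), S.isPGroup'.to_le inf_le_left, w.no_tri⟩

/-- **`S₁` is a Sylow 2-subgroup of `N_G(T)`.** -/
theorem S₁_syl_Nn : Syl2 ((S : Subgroup G) ⊓ normalizer (V₁ : Set G))
    (normalizer (((S : Subgroup G) ⊓ centralizer ({M₁.e nn} : Set G) : Subgroup G) : Set G)) := by
  obtain ⟨x, hx, hi⟩ := w.exists_x
  set T := (S : Subgroup G) ⊓ centralizer ({M₁.e nn} : Set G) with hT
  set S₁ := (S : Subgroup G) ⊓ normalizer (V₁ : Set G) with hS₁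
  have hxS : x ∈ S₁ := ⟨hx.1, hi.mem_normalizer⟩
  obtain ⟨R, hSR, hRN, hR2, hRs⟩ := Half.exists_sylow_le (S.isPGroup'.to_le inf_le_left) w.S₁_le_Nn
  suffices h : R ≤ S₁ by
    rw [le_antisymm h hSR] at hRs
    exact ⟨w.S₁_le_Nn, S.isPGroup'.to_le inf_le_left, hRs⟩
  by_contra hcon
  obtain ⟨r, hr, hrS, hrn⟩ := exists_mem_normalizer hR2 hSR hcon
  have hrT := hRN hr
  -- `r` centralises `σ₁`
  have hzc : ∀ y ∈ zc T, r * y * r⁻¹ ∈ zc T := fun y hy =>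
    (mem_normalizer_iff.1 (normalizer_le_normalizer_zc _ hrT) y).1 hy
  have h1 : r * M₁.e ss * r⁻¹ = M₁.e ss := by
    have h2 : r * x * r⁻¹ ∈ S₁ := (mem_normalizer_iff.1 hrn x).1 hxS
    have e : r * M₁.e ss * r⁻¹ = (r * M₁.e nn * r⁻¹) * ((r * x * r⁻¹) * (r * M₁.e nn * r⁻¹) * (r * x * r⁻¹)⁻¹) := by
      calc r * M₁.e ss * r⁻¹ = r * (M₁.e nn * M₁.e aa) * r⁻¹ := by rw [na]
        _ = r * (M₁.e nn * (x * M₁.e nn * x⁻¹)) * r⁻¹ := by rw [tt_n hi]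
        _ = _ := by group
    have hne : r * M₁.e ss * r⁻¹ ≠ 1 := fun h => s_ne M₁ (by
      have := congrArg (fun u => r⁻¹ * u * r) h
      simpa [mul_assoc] using this)
    have hsq : (r * M₁.e nn * r⁻¹) * (r * M₁.e nn * r⁻¹) = 1 := by
      rw [← pow_two]
      exact (mem_zc.1 (hzc _ w.n_zT)).2.2
    rcases SwNat.zT_conj w h2 (hzc _ w.n_zT) with h3 | h3
    · rw [h3, hsq] at e
      exact absurd e hne
    · rw [h3, ← mul_assoc, hsq, one_mul] at e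
      exact e
  have h3 : R ⊓ centralizer ({M₁.e ss} : Set G) ≤ S₁ := by
    have h4 := card_le_of_syl w.S₁_syl_s (R := R ⊓ centralizer ({M₁.e ss} : Set G)) inf_le_right
      (hR2.to_le inf_le_left)
    exact (eq_of_le_of_card_ge (le_inf hSR w.S₁_syl_s.le) h4).ge
  exact hrS (h3 ⟨hr, mem_C.2 (mul_inv_eq_iff_eq_mul.1 h1)⟩)

/-- `n` is not conjugate to an element centralised by `S₁` -/
theorem not_conj (hsyl : ¬ 2 ∣ ((S : Subgroup G) ⊓ centralizer ({M₁.e nn} : Set G)).relIndex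
    (centralizer ({M₁.e nn} : Set G))) {g : G}
    (h : ∀ b ∈ (S : Subgroup G) ⊓ normalizer (V₁ : Set G), b * (g * M₁.e nn * g⁻¹) = g * M₁.e nn * g⁻¹ * b) :
    False := by
  have hcard := w.card_T₁
  set T := (S : Subgroup G) ⊓ centralizer ({M₁.e nn} : Set G) with hT
  set S₁ := (S : Subgroup G) ⊓ normalizer (V₁ : Set G) with hS₁
  have hT2 : Syl2 T (centralizer ({M₁.e nn} : Set G)) := ⟨inf_le_right, S.isPGroup'.to_le inf_le_left, hsyl⟩
  have h1 : ZN.ChoiceBase.cj g⁻¹ S₁ ≤ centralizer ({M₁.e nn} : Set G) := by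
    rintro _ ⟨b, hb, rfl⟩
    have h2 := h b hb
    refine mem_C.2 ?_
    change g⁻¹ * b * g⁻¹⁻¹ * M₁.e nn = M₁.e nn * (g⁻¹ * b * g⁻¹⁻¹)
    calc g⁻¹ * b * g⁻¹⁻¹ * M₁.e nn = g⁻¹ * (b * (g * M₁.e nn * g⁻¹)) * g := by group
      _ = g⁻¹ * (g * M₁.e nn * g⁻¹ * b) * g := by rw [h2]
      _ = M₁.e nn * (g⁻¹ * b * g⁻¹⁻¹) := by group
  have h2 := card_le_of_syl hT2 h1 (ZN.ChoiceBase.isPGroup_cj _ (S.isPGroup'.to_le inf_le_left))
  rw [ZN.ChoiceBase.card_cj, hcard] at h2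
  have h3 : 0 < Nat.card T := Nat.card_pos
  omega

/-- **`N_G(T)` maps `n` to `n` or `a`.** -/
theorem conj_n (hsyl : ¬ 2 ∣ ((S : Subgroup G) ⊓ centralizer ({M₁.e nn} : Set G)).relIndex
    (centralizer ({M₁.e nn} : Set G))) {g : G}
    (hg : g ∈ normalizer (((S : Subgroup G) ⊓ centralizer ({M₁.e nn} : Set G) : Subgroup G) : Set G)) :
    g * M₁.e nn * g⁻¹ = M₁.e nn ∨ g * M₁.e nn * g⁻¹ = M₁.e aa := by
  obtain ⟨x, hx, hi⟩ := w.exists_x
  have hncj := fun g h => w.not_conj hsyl (g := g) h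
  have hN := w.S₁_syl_Nn
  have hcard := w.card_T₁
  have hn_zT := w.n_zT
  have hcs := fun {g} hg => w.S₁_comm_s₁ (g := g) hg
  have hct := fun {g} hg => w.S₁_comm_s₂ (g := g) hg
  have hzT := fun {y} hy => w.zT_cases₈ (y := y) hy
  set T := (S : Subgroup G) ⊓ centralizer ({M₁.e nn} : Set G) with hT
  set S₁ := (S : Subgroup G) ⊓ normalizer (V₁ : Set G) with hS₁
  have hxS : x ∈ S₁ := ⟨hx.1, hi.mem_normalizer⟩
  set O : Set G := {y | ∃ g ∈ normalizer (T : Set G), g * M₁.e nn * g⁻¹ = y} with hO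
  have hsub : O ⊆ {M₁.e nn, M₁.e aa, M₁.e nn * M₂.e ss, M₁.e aa * M₂.e ss} := by
    rintro _ ⟨g, hg, rfl⟩
    have h1 : g * M₁.e nn * g⁻¹ ∈ zc T :=
      (mem_normalizer_iff.1 (normalizer_le_normalizer_zc _ hg) _).1 hn_zT
    rcases hzT h1 with h | h | h | h | h | h | h | h
    · exfalso
      apply n_ne M₁
      have h2 := congrArg (fun u => g⁻¹ * u * g) h
      simpa [mul_assoc] using h2
    · exfalso
      refine hncj g fun b hb => ?_
      rw [h]; exact hcs hb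
    · exfalso
      refine hncj g fun b hb => ?_
      rw [h]; exact hct hb
    · exfalso
      refine hncj g fun b hb => ?_
      rw [h, ← mul_assoc, hcs hb, mul_assoc, hct hb, mul_assoc]
    · simp [h]
    · simp [h]
    · simp [h]
    · simp [h]
  have hOle : O.ncard ≤ 4 := by
    refine (Set.ncard_le_ncard hsub (Set.toFinite _)).trans ?_
    refine (Set.ncard_insert_le _ _).trans ?_
    refine Nat.succ_le_succ ?_
    refine (Set.ncard_insert_le _ _).trans ?_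
    refine Nat.succ_le_succ ?_
    refine (Set.ncard_insert_le _ _).trans ?_
    rw [Set.ncard_singleton]
  have horb : (centralizer ({M₁.e nn} : Set G)).relIndex (normalizer (T : Set G)) = O.ncard :=
    NO1.Nat.SevenA.orb (normalizer (T : Set G)) (M₁.e nn)
  have hTC : T ≤ centralizer ({M₁.e nn} : Set G) ⊓ normalizer (T : Set G) := le_inf inf_le_right le_normalizer
  -- `|N(T)| = |S₁| k₁`
  have c1 := Half.card_mul_relIndex hN.le
  have c2 := Half.card_mul_relIndex hTC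
  have c3 := Half.card_mul_relIndex (inf_le_right : centralizer ({M₁.e nn} : Set G) ⊓ normalizer (T : Set G) ≤
    normalizer (T : Set G))
  rw [inf_relIndex_right, horb] at c3
  have hodd₁ := hN.odd
  have hodd₂ : ¬ 2 ∣ T.relIndex (centralizer ({M₁.e nn} : Set G) ⊓ normalizer (T : Set G)) := by
    intro h
    apply hsyl
    rw [← relIndex_mul_relIndex T _ _ hTC inf_le_left]
    exact h.mul_right _
  have hTpos : 0 < Nat.card T := Nat.card_pos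
  have c4 : 2 * S₁.relIndex (normalizer (T : Set G)) =
      T.relIndex (centralizer ({M₁.e nn} : Set G) ⊓ normalizer (T : Set G)) * O.ncard := by
    refine Nat.eq_of_mul_eq_mul_left hTpos ?_
    rw [← mul_assoc, ← mul_assoc, c2, c3, ← c1, hcard, mul_comm 2]
  have hm : O.ncard = 2 := by
    generalize T.relIndex (centralizer ({M₁.e nn} : Set G) ⊓ normalizer (T : Set G)) = k₂ at c4 hodd₂
    generalize S₁.relIndex (normalizer (T : Set G)) = k₁ at c4 hodd₁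
    generalize O.ncard = m at c4 hOle
    have h1 : m = 0 ∨ m = 1 ∨ m = 2 ∨ m = 3 ∨ m = 4 := by omega
    rcases h1 with rfl | rfl | rfl | rfl | rfl <;> omega
  have hnO : M₁.e nn ∈ O := ⟨1, one_mem _, by group⟩
  have haO : M₁.e aa ∈ O := ⟨x, hN.le hxS, tt_n hi⟩
  have hpair : ({M₁.e nn, M₁.e aa} : Set G) = O := by
    refine Set.eq_of_subset_of_ncard_le ?_ ?_ (Set.toFinite _)
    · rintro y (rfl | rfl)
      · exact hnO
      · exact haO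
    · rw [hm, Set.ncard_pair (n_ne_a M₁)]
  have hgO : g * M₁.e nn * g⁻¹ ∈ O := ⟨g, hg, rfl⟩
  rw [← hpair] at hgO
  exact hgO

end fin

end Wr

/-! ### Two structures -/

/-- Two structures `Wr` with the same `T`, `S₁`, `n`, `a`, `σ₁`, `σ₂`. -/
structure Two (S S' : Sylow 2 G) (P P' : Subgroup G) {V₁ V₂ L₁ L₂ V₁' V₂' L₁' L₂' : Subgroup G}
    (M₁ : FiveMod V₁ L₁) (M₂ : FiveMod V₂ L₂) (M₁' : FiveMod V₁' L₁') (M₂' : FiveMod V₂' L₂') : Prop where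
  w : Wr S P M₁ M₂
  w' : Wr S' P' M₁' M₂'
  n : M₁'.e nn = M₁.e nn
  a : M₁'.e aa = M₁.e aa
  s₁ : M₁'.e ss = M₁.e ss
  s₂ : M₂'.e ss = M₂.e ss
  S₁ : (S' : Subgroup G) ⊓ normalizer (V₁' : Set G) = (S : Subgroup G) ⊓ normalizer (V₁ : Set G)
  T : (S' : Subgroup G) ⊓ centralizer ({M₁.e nn} : Set G) = (S : Subgroup G) ⊓ centralizer ({M₁.e nn} : Set G)
  syl : ¬ 2 ∣ ((S : Subgroup G) ⊓ centralizer ({M₁.e nn} : Set G)).relIndex (centralizer ({M₁.e nn} : Set G))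

theorem Two.symm {S S' : Sylow 2 G} {P P' : Subgroup G} {V₁ V₂ L₁ L₂ V₁' V₂' L₁' L₂' : Subgroup G}
    {M₁ : FiveMod V₁ L₁} {M₂ : FiveMod V₂ L₂} {M₁' : FiveMod V₁' L₁'} {M₂' : FiveMod V₂' L₂'}
    (h : Two S S' P P' M₁ M₂ M₁' M₂') : Two S' S P' P M₁' M₂' M₁ M₂ where
  w := h.w'
  w' := h.w
  n := h.n.symm
  a := h.a.symm
  s₁ := h.s₁.symm
  s₂ := h.s₂.symm
  S₁ := h.S₁.symm
  T := by rw [h.n, h.T]
  syl := by rw [h.n, h.T]; exact h.syl

section two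

variable [Finite G] {S S' : Sylow 2 G} {P P' : Subgroup G} {V₁ V₂ L₁ L₂ V₁' V₂' L₁' L₂' : Subgroup G}
  {M₁ : FiveMod V₁ L₁} {M₂ : FiveMod V₂ L₂} {M₁' : FiveMod V₁' L₁'} {M₂' : FiveMod V₂' L₂'}

/-- the same `n`, `T` and `S₁` suffice -/
theorem two_of (w : Wr S P M₁ M₂) (w' : Wr S' P' M₁' M₂') (hn : M₁'.e nn = M₁.e nn)
    (hS : (S' : Subgroup G) ⊓ normalizer (V₁' : Set G) = (S : Subgroup G) ⊓ normalizer (V₁ : Set G))
    (hT : (S' : Subgroup G) ⊓ centralizer ({M₁.e nn} : Set G) = (S : Subgroup G) ⊓ centralizer ({M₁.e nn} : Set G))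
    (hsyl : ¬ 2 ∣ ((S : Subgroup G) ⊓ centralizer ({M₁.e nn} : Set G)).relIndex
      (centralizer ({M₁.e nn} : Set G))) : Two S S' P P' M₁ M₂ M₁' M₂' := by
  obtain ⟨x, hx, hi⟩ := w'.exists_x
  have ha : M₁'.e aa = M₁.e aa := by
    have h1 : x ∈ (S : Subgroup G) ⊓ normalizer (V₁ : Set G) := hS ▸ ⟨hx.1, hi.mem_normalizer⟩
    have h2 : x * M₁.e nn * x⁻¹ = M₁'.e aa := by rw [← hn]; exact Wr.tt_n hi
    rcases w.conj_n hsyl (w.S₁_le_Nn h1) with h3 | h3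
    · exfalso
      rw [h2, ← hn] at h3
      exact n_ne_a M₁' h3.symm
    · rw [← h2, h3]
  have hs : M₁'.e ss = M₁.e ss := by rw [← na, ← na, ha, hn]
  refine ⟨w, w', hn, ha, hs, ?_, hS, hT, hsyl⟩
  have h1 : M₂'.e ss ∈ zc ((S : Subgroup G) ⊓ normalizer (V₁ : Set G)) := by
    rw [← hS]
    exact mem_zc.2 ⟨w'.V₂_le_S₁ (M₂'.e_mem ss), fun b hb => w'.S₁_comm_s₂ hb, e_sq' M₂' ss⟩
  rcases w.zS₁_le h1 with h | h | h | h
  · exact absurd h (s_ne M₂')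
  · exfalso
    exact s_ne M₂' (w'.V₁_ne_V₂ (by rw [h, ← hs]; exact M₁'.e_mem ss) (M₂'.e_mem ss))
  · exact h
  · exfalso
    -- `σ₂'` would be 2-central
    obtain ⟨s, hs', p, q, hsw⟩ := w.swap
    have h2 : (S : Subgroup G) ≤ centralizer ({M₂'.e ss} : Set G) := by
      have e1 := w.sw_ss w.S_le hs' hsw
      have e2 := w.symm.sw_ss w.S_le hs' (p := q) (q := p) ⟨hsw.2, hsw.1⟩
      have h3 : s * (M₁.e ss * M₂.e ss) = M₁.e ss * M₂.e ss * s := by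
        refine mul_inv_eq_iff_eq_mul.1 ?_
        calc s * (M₁.e ss * M₂.e ss) * s⁻¹ = (s * M₁.e ss * s⁻¹) * (s * M₂.e ss * s⁻¹) := by group
          _ = M₂.e ss * M₁.e ss := by rw [e1, e2]
          _ = M₁.e ss * M₂.e ss := (w.comm (M₁.e_mem ss) (M₂.e_mem ss)).symm
      have h4 : ∀ b ∈ (S : Subgroup G) ⊓ normalizer (V₁ : Set G), b * (M₁.e ss * M₂.e ss) =
          M₁.e ss * M₂.e ss * b := fun b hb => by
        rw [← mul_assoc, w.S₁_comm_s₁ hb, mul_assoc, w.S₁_comm_s₂ hb, mul_assoc]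
      intro b hb
      refine mem_C.2 ?_
      rw [h]
      rcases w.mem_or hs' hsw hb with h5 | h5
      · exact h4 b h5
      · refine mul_right_cancel (b := s) ?_
        calc b * (M₁.e ss * M₂.e ss) * s = b * s * (M₁.e ss * M₂.e ss) := by rw [mul_assoc, ← h3, mul_assoc]
          _ = M₁.e ss * M₂.e ss * (b * s) := h4 _ h5
          _ = M₁.e ss * M₂.e ss * b * s := by rw [mul_assoc _ b]
    have h5 : Syl2 ((S' : Subgroup G) ⊓ normalizer (V₂' : Set G)) (centralizer ({M₂'.e ss} : Set G)) :=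
      w'.symm.S₁_syl_s
    have h6 := card_le_of_syl h5 h2 S.isPGroup'
    rw [← w'.S₁_eq, hS, w.card_S₁] at h6
    have h7 : 0 < Nat.card ((S : Subgroup G) ⊓ normalizer (V₁ : Set G) : Subgroup G) := Nat.card_pos
    omega

/-- **Normalisation.** -/
theorem exists_two (w : Wr S P M₁ M₂) (w' : Wr S' P' M₁' M₂') (hn : M₁'.e nn = M₁.e nn)
    (hsyl : ¬ 2 ∣ ((S : Subgroup G) ⊓ centralizer ({M₁.e nn} : Set G)).relIndex
      (centralizer ({M₁.e nn} : Set G))) :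
    ∃ g ∈ centralizer ({M₁.e nn} : Set G),
      Two S (sy g S') P (ZN.ChoiceBase.cj g P') M₁ M₂ (M₁'.cj g) (M₂'.cj g) := by
  obtain ⟨x, hx, hi⟩ := w.exists_x
  have hN := w.S₁_syl_Nn
  have hconj := fun {g} hg => w.conj_n hsyl (g := g) hg
  have hxS : x ∈ (S : Subgroup G) ⊓ normalizer (V₁ : Set G) := ⟨hx.1, hi.mem_normalizer⟩
  set C := centralizer ({M₁.e nn} : Set G) with hC
  set T := (S : Subgroup G) ⊓ C with hT
  have hcT : Nat.card ((S' : Subgroup G) ⊓ C : Subgroup G) = Nat.card T := by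
    have h1 := w.card_T
    have h2 := w'.card_T
    rw [hn] at h2
    have h3 := Sym.card_eq_sylow S S'
    have h4 : 4 * Nat.card ((S' : Subgroup G) ⊓ C : Subgroup G) = 4 * Nat.card T := by
      rw [← h1, ← h3, h2]
    omega
  obtain ⟨c, hc, hcT'⟩ := Sym.exists_conj_le_syl (inf_le_right : (S' : Subgroup G) ⊓ C ≤ C)
    (S.isPGroup'.to_le inf_le_left : IsPGroup 2 T) (S'.isPGroup'.to_le inf_le_left) hsyl
  have hcT2 : ZN.ChoiceBase.cj c ((S' : Subgroup G) ⊓ C) = T :=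
    eq_of_le_of_card_ge hcT' (by rw [ZN.ChoiceBase.card_cj, hcT])
  have hcC : ZN.ChoiceBase.cj c C = C := ZN.ChoiceBase.cj_eq_of_mem_normalizer (le_normalizer hc)
  have hcn : c * M₁.e nn * c⁻¹ = M₁.e nn := by rw [mem_C.1 hc, mul_inv_cancel_right]
  have w₁ := w'.cj c
  have hn₁ : (M₁'.cj c).e nn = M₁.e nn := by rw [FiveMod.cj_e, hn, hcn]
  have hT₁ : ((sy c S' : Sylow 2 G) : Subgroup G) ⊓ C = T := by
    rw [sy_coe, ← hcT2, ZN.ChoiceBase.cj_inf, hcC]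
  have hN₁ := w₁.S₁_syl_Nn
  rw [hn₁, hT₁] at hN₁
  obtain ⟨y, hy, hy1, hy2⟩ := hN₁.exists_conj hN
  -- we may take `y ∈ C(n)`
  obtain ⟨y, hyN, hyC, hy1⟩ : ∃ y ∈ normalizer (T : Set G), y ∈ C ∧
      ∀ g ∈ ((sy c S' : Sylow 2 G) : Subgroup G) ⊓ normalizer ((ZN.ChoiceBase.cj c V₁' : Subgroup G) : Set G),
        y * g * y⁻¹ ∈ (S : Subgroup G) ⊓ normalizer (V₁ : Set G) := by
    rcases hconj hy with h1 | h1
    · exact ⟨y, hy, mem_C.2 (mul_inv_eq_iff_eq_mul.1 h1), hy1⟩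
    · refine ⟨x * y, mul_mem (hN.le hxS) hy, mem_C.2 (mul_inv_eq_iff_eq_mul.1 ?_), fun g hg => ?_⟩
      · calc x * y * M₁.e nn * (x * y)⁻¹ = x * (y * M₁.e nn * y⁻¹) * x⁻¹ := by group
          _ = M₁.e nn := by rw [h1, Wr.tt_a hi]
      · have e : x * y * g * (x * y)⁻¹ = x * (y * g * y⁻¹) * x⁻¹ := by group
        rw [e]
        exact mul_mem (mul_mem hxS (hy1 g hg)) (inv_mem hxS)
  have hyc : y * c ∈ C := mul_mem hyC hc
  have w₂ := w'.cj (y * c)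
  have hyn : y * M₁.e nn * y⁻¹ = M₁.e nn := by rw [mem_C.1 hyC, mul_inv_cancel_right]
  refine ⟨y * c, hyc, two_of w w₂ ?_ ?_ ?_ hsyl⟩
  · rw [FiveMod.cj_e, hn]
    calc y * c * M₁.e nn * (y * c)⁻¹ = y * (c * M₁.e nn * c⁻¹) * y⁻¹ := by group
      _ = M₁.e nn := by rw [hcn, hyn]
  · refine eq_of_le_of_card_ge ?_ ?_
    · intro g hg
      rw [sy_coe] at hg
      have h1 : y⁻¹ * g * y ∈ ((sy c S' : Sylow 2 G) : Subgroup G) ⊓
          normalizer ((ZN.ChoiceBase.cj c V₁' : Subgroup G) : Set G) := by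
        have h2 : ZN.ChoiceBase.cj (y * c) ((S' : Subgroup G) ⊓ normalizer (V₁' : Set G)) =
            ZN.ChoiceBase.cj y (ZN.ChoiceBase.cj c ((S' : Subgroup G) ⊓ normalizer (V₁' : Set G))) :=
          (cj_cj _ _ _).symm
        have h3 : g ∈ ZN.ChoiceBase.cj (y * c) ((S' : Subgroup G) ⊓ normalizer (V₁' : Set G)) := by
          rw [ZN.ChoiceBase.cj_inf, ZN.ChoiceBase.cj_normalizer]
          exact hg
        rw [h2, mem_cj, ZN.ChoiceBase.cj_inf, ZN.ChoiceBase.cj_normalizer] at h3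
        rw [sy_coe]
        exact h3
      have h2 := hy1 _ h1
      have e : y * (y⁻¹ * g * y) * y⁻¹ = g := by group
      rwa [e] at h2
    · have h1 := w.card_S₁
      have h2 := w₂.card_S₁
      have h3 := Sym.card_eq_sylow S (sy (y * c) S')
      omega
  · rw [sy_coe]
    have h1 : ZN.ChoiceBase.cj (y * c) ((S' : Subgroup G) ⊓ C) = T := by
      rw [← cj_cj, hcT2]
      exact ZN.ChoiceBase.cj_eq_of_mem_normalizer hyN
    rw [ZN.ChoiceBase.cj_inf, ZN.ChoiceBase.cj_eq_of_mem_normalizer (le_normalizer hyc)] at h1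
    exact h1

end two

end Cfsg.Agent.Omega.IId.LFour
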