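import Cfsg.Agent.Omega.HT.Basic
import Cfsg.Agent.Omega.IId.LFour.Crux
import Cfsg.Agent.Omega.IId.LFour.Norm

/-!
# `S₅ wr 2`, the pure pair: the situation `HTT` over `T = C_S(n)` (project OMEGA, II.d L4; text 644 #19215 (B))

`n = e {0 1}`, `a = e {2 3}`, `σ = e {4}`, `τ` = the singular vector `M₂.e ss`.
* `pt`, `Rl`, `Vl` : the three duads `{0 1}`, `{0 4}`, `{1 4}`, the points and the line `V_l` they span;
* `Tn`, `Pn` : `T = C_S(n)`, `P = T X`;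
* `bt` : `BT V_l R`; `htt` : `HTT T P V_l R 0`; `mem_cz` : `C_{Ω₁Z(T)}(P) = {1, a, τ, aτ}`.
-/

set_option autoImplicit false
set_option linter.unusedSectionVars false

namespace Cfsg.Agent.Omega.IId.LFour.Htt

open Subgroup Pointwise Cfsg Cfsg.Agent.ZN Cfsg.Agent.Omega.MinPar
open Cfsg.Agent.Omega.BTwo Cfsg.Agent.Omega.HT
open Cfsg.Agent.Omega.S5.Mod Cfsg.Agent.Omega.S5.TT
open Cfsg.Agent.Omega.S5.TT.Pos (na ns as sn n_ne s_ne a_ne n_ne_a n_ne_s a_ne_s e_sq' mem_C)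
open Cfsg.Agent.Omega.IId.LFour.Crux (du DF df₁ swap_cases)
open Cfsg.Agent.Omega.IId.One (Kk mem_Kk Kk_conj conj_Kk)

universe u

variable {G : Type u} [Group G]

/-! ### Labels -/

/-- the duads `{0 1}`, `{0 4}`, `{1 4}` -/
def pt : Fin 3 → Vec := ![du 0 1, du 0 4, du 1 4]

/-- the transpositions -/
def sw : Fin 3 → Equiv.Perm (Fin 5) := ![Equiv.swap 0 1, Equiv.swap 0 4, Equiv.swap 1 4]

theorem pt_zero : pt 0 = nn := by decide +kernel

theorem pt_ne : ∀ i : Fin 3, ¬ (pt i = 0 ∨ pt i = 1) := by decide +kernel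

theorem pt_inj : ∀ i j : Fin 3, (pt i = pt j ∨ pt i = pt j + 1) → i = j := by decide +kernel

theorem pt_add : ∀ i j : Fin 3, i = j ∨ ∃ k, k ≠ i ∧ k ≠ j ∧ pt i + pt j = pt k := by decide +kernel

theorem pt_du : ∀ i : Fin 3, ∃ a b : Fin 5, a ≠ b ∧ pt i = du a b ∧ sw i = Equiv.swap a b := by decide +kernel

theorem pt_sw : ∀ i j k : Fin 3, j ≠ i → k ≠ i → j = k ∨ pt j ∘ (sw i).symm = pt k := by decide +kernel

theorem pt_ttp : ∀ p : Equiv.Perm (Fin 5), TTp p → ∀ i : Fin 3, ∃ j, pt i ∘ p.symm = pt j := by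
  intro p hp
  rcases hp with rfl | rfl | rfl | rfl <;> decide +kernel

theorem pt_move : ∀ i : Fin 3, ∃ p : Equiv.Perm (Fin 5), ∃ ρ : Equiv.Perm (Fin 3), ρ 0 = i ∧
    (∀ j, pt j ∘ p.symm = pt (ρ j)) ∧ p * sw 0 * p⁻¹ = sw i := by
  decide +kernel

/-! ### Points and line -/

section defs

variable {V L : Subgroup G} (M : FiveMod V L)

/-- the points -/
def Rl (i : Fin 3) : Subgroup G where
  carrier := {x | x = 1 ∨ x = M.e (pt i)}
  mul_mem' := by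
    rintro a b (rfl | rfl) (rfl | rfl)
    · left; exact one_mul 1
    · right; exact one_mul _
    · right; exact mul_one _
    · left; exact M.e_sq _
  one_mem' := Or.inl rfl
  inv_mem' := by
    rintro a (rfl | rfl)
    · left; exact inv_one
    · right; exact M.e_inv _

/-- the line -/
def Vl : Subgroup G where
  carrier := {x | x = 1 ∨ ∃ i, x = M.e (pt i)}
  mul_mem' := by
    rintro a b (rfl | ⟨i, rfl⟩) (rfl | ⟨j, rfl⟩)
    · left; exact one_mul 1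
    · right; exact ⟨j, one_mul _⟩
    · right; exact ⟨i, mul_one _⟩
    · rcases pt_add i j with rfl | ⟨k, -, -, hk⟩
      · left; exact M.e_sq _
      · right; exact ⟨k, by rw [← M.e_add, hk]⟩
  one_mem' := Or.inl rfl
  inv_mem' := by
    rintro a (rfl | ⟨i, rfl⟩)
    · left; exact inv_one
    · right; exact ⟨i, M.e_inv _⟩

variable {M}

theorem mem_Rl {i : Fin 3} {x : G} : x ∈ Rl M i ↔ x = 1 ∨ x = M.e (pt i) := Iff.rfl

theorem mem_Vl {x : G} : x ∈ Vl M ↔ x = 1 ∨ ∃ i, x = M.e (pt i) := Iff.rfl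

theorem pt_mem_R (i : Fin 3) : M.e (pt i) ∈ Rl M i := Or.inr rfl

theorem pt_mem (i : Fin 3) : M.e (pt i) ∈ Vl M := Or.inr ⟨i, rfl⟩

theorem e_pt_ne (i : Fin 3) : M.e (pt i) ≠ 1 := fun h => pt_ne i ((M.ker _).1 h)

theorem e_pt_inj {i j : Fin 3} (h : M.e (pt i) = M.e (pt j)) : i = j := pt_inj i j (M.e_eq_iff.1 h)

theorem Vl_le : Vl M ≤ V := by
  rintro x (rfl | ⟨i, rfl⟩)
  · exact one_mem V
  · exact M.e_mem _

theorem Rl_le (i : Fin 3) : Rl M i ≤ Vl M := by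
  rintro x (rfl | rfl)
  · exact one_mem _
  · exact pt_mem i

theorem card_Rl (i : Fin 3) : Nat.card (Rl M i) = 2 := by
  have h : ((Rl M i : Subgroup G) : Set G) = {1, M.e (pt i)} := by
    ext x
    rw [Set.mem_insert_iff, Set.mem_singleton_iff]
    exact Iff.rfl
  change Nat.card ((Rl M i : Subgroup G) : Set G) = 2
  rw [h, Nat.card_coe_set_eq, Set.ncard_pair (e_pt_ne i).symm]

/-- `N(R i) = C(e (pt i))` -/
theorem normalizer_Rl (i : Fin 3) : normalizer (Rl M i : Set G) = centralizer ({M.e (pt i)} : Set G) := by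
  ext g
  rw [mem_C]
  constructor
  · intro hg
    rcases (mem_normalizer_iff.1 hg _).1 (pt_mem_R i) with h | h
    · exact absurd (conj_eq_one_iff.1 h) (e_pt_ne i)
    · exact mul_inv_eq_iff_eq_mul.1 h
  · intro hg
    rw [mem_normalizer_iff]
    intro x
    rw [mem_Rl, mem_Rl]
    constructor
    · rintro (rfl | rfl)
      · left; group
      · right; rw [hg, mul_inv_cancel_right]
    · rintro (h | h)
      · left; exact conj_eq_one_iff.1 h
      · right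
        rw [mul_inv_eq_iff_eq_mul, ← hg] at h
        exact mul_left_cancel h

/-- an element inducing a permutation which permutes the three duads -/
theorem Ind.cj_Rl {g : G} {p : Equiv.Perm (Fin 5)} (h : M.Ind g p) {i j : Fin 3}
    (hp : pt i ∘ p.symm = pt j) : cj g (Rl M i) = Rl M j := by
  have h1 : g * M.e (pt i) * g⁻¹ = M.e (pt j) := by rw [h, hp]
  ext x
  rw [mem_cj, mem_Rl, mem_Rl]
  constructor
  · rintro (h2 | h2)
    · left
      have : x = g * (g⁻¹ * x * g) * g⁻¹ := by group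
      rw [this, h2]; group
    · right
      have : x = g * (g⁻¹ * x * g) * g⁻¹ := by group
      rw [this, h2, h1]
  · rintro (rfl | rfl)
    · left; group
    · right
      rw [← h1]; group

theorem Ind.norm_Vl {g : G} {p : Equiv.Perm (Fin 5)} (h : M.Ind g p)
    (hp : ∀ i : Fin 3, ∃ j, pt i ∘ p.symm = pt j) : g ∈ normalizer (Vl M : Set G) := by
  rw [← cj_eq_self_iff]
  have h1 : cj g (Vl M) ≤ Vl M := by
    rintro _ ⟨x, (rfl | ⟨i, rfl⟩), rfl⟩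
    · change g * 1 * g⁻¹ ∈ _
      rw [mul_one, mul_inv_cancel]
      exact one_mem _
    · change g * M.e (pt i) * g⁻¹ ∈ _
      obtain ⟨j, hj⟩ := hp i
      rw [h, hj]
      exact pt_mem j
  choose f hf using hp
  have hinj : Function.Injective f := by
    intro i j hij
    apply e_pt_inj (M := M)
    have h2 : g * M.e (pt i) * g⁻¹ = g * M.e (pt j) * g⁻¹ := by
      rw [h, h, hf, hf, hij]
    exact mul_left_cancel (mul_right_cancel h2)
  refine le_antisymm h1 ?_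
  rintro x (rfl | ⟨j, rfl⟩)
  · exact one_mem _
  · obtain ⟨i, rfl⟩ := (Finite.injective_iff_surjective.1 hinj) j
    rw [mem_cj]
    have h2 : g⁻¹ * M.e (pt (f i)) * g = M.e (pt i) := by
      rw [← hf, ← h]; group
    rw [h2]
    exact pt_mem i

end defs

/-! ### `BT` -/

/-- `V_l` does not commute with its conjugates under `h`, `h⁻¹ ∈ N(R i)` -/
structure Mv {V L : Subgroup G} (M : FiveMod V L) (i : Fin 3) (h : G) : Prop where
  nor : h ∈ normalizer (Rl M i : Set G)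
  pos : ∃ u ∈ Vl M, M.Ind (h * u * h⁻¹) (sw i)
  neg : ∃ u ∈ Vl M, M.Ind (h⁻¹ * u * h) (sw i)

theorem bt [Finite G] {V L V' : Subgroup G} {M : FiveMod V L} (d : DF M V')
    (hmv : ∀ i, ∃ h, Mv M i h) : BT (Vl M) (Rl M) where
  V_comm a ha b hb := M.comm (Vl_le ha) (Vl_le hb)
  V_sq a ha := M.sq (Vl_le ha)
  R_le := Rl_le
  R_inf i j hij := by
    rw [eq_bot_iff]
    rintro x ⟨h1, h2⟩
    rw [mem_bot]
    rcases h1 with h1 | h1
    · exact h1
    rcases h2 with h2 | h2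
    · exact h2
    exact absurd (e_pt_inj (h1.symm.trans h2)) hij
  R_sup i j hij := by
    refine le_antisymm (sup_le (Rl_le i) (Rl_le j)) ?_
    rintro x (rfl | ⟨k, rfl⟩)
    · exact one_mem _
    by_cases hki : k = i
    · rw [hki]; exact mem_sup_left (pt_mem_R i)
    by_cases hkj : k = j
    · rw [hkj]; exact mem_sup_right (pt_mem_R j)
    rcases pt_add i j with h | ⟨l, hli, hlj, h⟩
    · exact absurd h hij
    · have hlk : l = k := by
        revert hij hki hkj hli hlj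
        clear h
        revert i j k l
        decide
      rw [← hlk, ← h, M.e_add]
      exact mul_mem (mem_sup_left (pt_mem_R i)) (mem_sup_right (pt_mem_R j))
  R_cov := by
    rintro v (rfl | ⟨i, rfl⟩)
    · exact ⟨0, one_mem _⟩
    · exact ⟨i, pt_mem_R i⟩
  R_ne i h := e_pt_ne (M := M) i (by
    have := pt_mem_R (M := M) i
    rw [h, mem_bot] at this
    exact this)
  third := by decide
  perm g hg i := by
    have h1 := (mem_normalizer_iff.1 hg _).1 (pt_mem (M := M) i)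
    rcases h1 with h | ⟨j, h⟩
    · exact absurd (conj_eq_one_iff.1 h) (e_pt_ne i)
    · refine ⟨j, ?_⟩
      ext x
      rw [mem_cj, mem_Rl, mem_Rl]
      constructor
      · rintro (h2 | h2)
        · left
          have : x = g * (g⁻¹ * x * g) * g⁻¹ := by group
          rw [this, h2]; group
        · right
          have : x = g * (g⁻¹ * x * g) * g⁻¹ := by group
          rw [this, h2, h]
      · rintro (rfl | rfl)
        · left; group
        · right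
          rw [← h]; group
  V_Q i := by
    obtain ⟨a, b, hab, h1, -⟩ := pt_du i
    rw [QQ, normalizer_Rl, h1]
    exact Vl_le.trans (d.s a b hab)
  QV i g hg v hv := by
    obtain ⟨a, b, hab, h1, -⟩ := pt_du i
    rw [QQ, normalizer_Rl, h1] at hg
    obtain ⟨x, rfl⟩ := (M.mem_iff v).1 (Vl_le hv)
    rcases d.ind a b hab g hg with h2 | h2
    · left
      rw [h2]
      change M.e x * _ = 1
      rw [mul_inv_cancel]
    · rw [h2.comm_eq, mem_Rl, h1]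
      rcases swap_cases a b x with ⟨-, h3⟩ | ⟨-, h3⟩
      · left; rw [h3, add_self, M.e_zero]
      · right; rw [h3, add_add_cancel']
  QR i g hg a ha := by
    rw [QQ, normalizer_Rl] at hg
    have h1 := mem_C.1 (o2_le _ hg)
    rcases ha with rfl | rfl
    · rw [mul_one, one_mul]
    · exact h1
  mt i := by
    obtain ⟨h, hn, ⟨u, hu, hui⟩, u', hu', hui'⟩ := hmv i
    refine ⟨h, hn, fun j k hj hk => ⟨?_, ?_⟩⟩
    · rcases pt_sw i j k hj hk with rfl | h1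
      · refine ⟨1, one_mem _, ?_⟩
        rw [mul_one, mul_inv_cancel, cj_one]
      · exact ⟨u, hu, Ind.cj_Rl hui h1⟩
    · rcases pt_sw i j k hj hk with rfl | h1
      · refine ⟨1, one_mem _, ?_⟩
        rw [mul_one, inv_mul_cancel, cj_one]
      · exact ⟨u', hu', Ind.cj_Rl hui' h1⟩

/-! ### The supply -/

section wr

variable {S : Sylow 2 G} {P V₁ V₂ L₁ L₂ : Subgroup G} {M₁ : FiveMod V₁ L₁} {M₂ : FiveMod V₂ L₂}
variable [Finite G] (wr : Wr S P M₁ M₂)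

theorem sw_zero : sw 0 = Equiv.swap 0 1 := rfl

theorem vec_split : ∀ y : Vec, y 0 ≠ y 1 → (pt 1 + y) 0 = (pt 1 + y) 1 := by decide +kernel

theorem add_add_cancel_left' (x y : Vec) : x + (x + y) = y := by rw [← add_assoc, add_self, zero_add]

include wr in
/-- the line acts as `(0 1)` -/
theorem exists_ind {h v w : G} (hh : h * M₁.e nn = M₁.e nn * h) (hv : v ∈ V₁) (hw : w ∈ V₁)
    (hne : v * (h * w * h⁻¹) ≠ h * w * h⁻¹ * v) :
    ∃ u ∈ Vl M₁, M₁.Ind (h * u * h⁻¹) (sw 0) ∧ h * u * h⁻¹ ∈ Kk (M₁.e nn) := by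
  obtain ⟨y, rfl⟩ := (M₁.mem_iff w).1 hw
  have hhi : h⁻¹ * M₁.e nn * h = M₁.e nn := by rw [mul_assoc, ← hh]; group
  have hhn : h * M₁.e nn * h⁻¹ = M₁.e nn := by rw [hh]; group
  have hvQ : h⁻¹ * v * h ∈ o2 (centralizer ({M₁.e nn} : Set G)) := by
    have h1 : h⁻¹ ∈ centralizer ({M₁.e nn} : Set G) := inv_mem (mem_C.2 hh)
    have := (mem_normalizer_iff.1 (le_normalizer_o2 _ h1) v).1 (wr.V₁_le_o2 hv)
    rwa [inv_inv] at this
  have hc : ∀ z : Vec, z 0 = z 1 → v * (h * M₁.e z * h⁻¹) = h * M₁.e z * h⁻¹ * v := by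
    intro z hz
    have h1 := wr.perp_cent hvQ hz
    calc v * (h * M₁.e z * h⁻¹) = h * (h⁻¹ * v * h * M₁.e z) * h⁻¹ := by group
      _ = h * (M₁.e z * (h⁻¹ * v * h)) * h⁻¹ := by rw [h1]
      _ = h * M₁.e z * h⁻¹ * v := by group
  have hK : h * M₁.e (pt 1) * h⁻¹ ∈ Kk (M₁.e nn) := conj_Kk hhn (wr.V₁_le_Kk (M₁.e_mem _))
  refine ⟨M₁.e (pt 1), pt_mem 1, ?_, hK⟩
  rcases wr.Kk_ind hK with h1 | h1
  · exfalso
    apply hne
    by_cases hy : y 0 = y 1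
    · exact hc y hy
    have h2 := hc _ (vec_split y hy)
    have h3 : h * M₁.e y * h⁻¹ = h * M₁.e (pt 1) * h⁻¹ * (h * M₁.e (pt 1 + y) * h⁻¹) := by
      calc h * M₁.e y * h⁻¹ = h * M₁.e (pt 1 + (pt 1 + y)) * h⁻¹ := by rw [add_add_cancel_left']
        _ = h * (M₁.e (pt 1) * M₁.e (pt 1 + y)) * h⁻¹ := by rw [M₁.e_add (pt 1) (pt 1 + y)]
        _ = _ := by group
    have h4 := mem_centralizer_iff.1 (FiveMod.ind_one_iff.1 h1) v hv
    rw [h3, ← mul_assoc, h4, mul_assoc, h2]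
    group
  · exact h1

/-- the partner: a conjugate of `V₁` under `C(n)` which does not commute with `V₁` -/
def Ex (M₁ : FiveMod V₁ L₁) : Prop :=
  ∃ h, h * M₁.e nn = M₁.e nn * h ∧ ∃ v ∈ V₁, ∃ w ∈ V₁, v * (h * w * h⁻¹) ≠ h * w * h⁻¹ * v

include wr in
theorem hk_of (ex : Ex M₁) : ∃ g ∈ Kk (M₁.e nn), M₁.Ind g (Equiv.swap 0 1) := by
  obtain ⟨h, hh, v, hv, w, hw, hne⟩ := ex
  obtain ⟨u, -, h1, h2⟩ := exists_ind wr hh hv hw hne
  exact ⟨_, h2, h1⟩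

include wr in
theorem exists_Mv (ex : Ex M₁) (i : Fin 3) : ∃ h, Mv M₁ i h := by
  obtain ⟨h, hh, v, hv, w, hw, hne⟩ := ex
  have hhi : h⁻¹ * M₁.e nn = M₁.e nn * h⁻¹ := by
    rw [inv_mul_eq_iff_eq_mul, ← mul_assoc, hh, mul_inv_cancel_right]
  obtain ⟨u, hu, h1, -⟩ := exists_ind wr hh hv hw hne
  obtain ⟨u', hu', h1', -⟩ := exists_ind wr hhi hw hv (fun h2 => hne (by
    rw [inv_inv] at h2
    calc v * (h * w * h⁻¹) = h * (h⁻¹ * v * h * w) * h⁻¹ := by group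
      _ = h * (w * (h⁻¹ * v * h)) * h⁻¹ := by rw [h2]
      _ = h * w * h⁻¹ * v := by group))
  rw [inv_inv] at h1'
  obtain ⟨p, ρ, hρ, hp, hps⟩ := pt_move i
  obtain ⟨l, hl, hi⟩ := M₁.exists_lift p
  have hi : M₁.Ind l p := hi
  have hlV : l ∈ normalizer (Vl M₁ : Set G) := Ind.norm_Vl hi fun j => ⟨ρ j, hp j⟩
  have hl0 : l * M₁.e (pt 0) * l⁻¹ = M₁.e (pt i) := by rw [hi, hp, hρ]
  refine ⟨l * h * l⁻¹, ?_, ⟨l * u * l⁻¹, (mem_normalizer_iff.1 hlV u).1 hu, ?_⟩,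
    ⟨l * u' * l⁻¹, (mem_normalizer_iff.1 hlV u').1 hu', ?_⟩⟩
  · rw [normalizer_Rl, mem_C, ← hl0, pt_zero]
    calc l * h * l⁻¹ * (l * M₁.e nn * l⁻¹) = l * (h * M₁.e nn) * l⁻¹ := by group
      _ = l * (M₁.e nn * h) * l⁻¹ := by rw [hh]
      _ = l * M₁.e nn * l⁻¹ * (l * h * l⁻¹) := by group
  · have h3 := (hi.mul h1).mul hi.inv
    rw [hps] at h3
    have e : l * h * l⁻¹ * (l * u * l⁻¹) * (l * h * l⁻¹)⁻¹ = l * (h * u * h⁻¹) * l⁻¹ := by group
    rw [e]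
    exact h3
  · have h3 := (hi.mul h1').mul hi.inv
    rw [hps] at h3
    have e : (l * h * l⁻¹)⁻¹ * (l * u' * l⁻¹) * (l * h * l⁻¹) = l * (h⁻¹ * u' * h) * l⁻¹ := by group
    rw [e]
    exact h3

include wr in
theorem df_of (ex : Ex M₁) : DF M₁ V₂ := df₁ wr (hk_of wr ex)

include wr in
theorem bt_of (ex : Ex M₁) : BT (Vl M₁) (Rl M₁) := bt (df_of wr ex) (exists_Mv wr ex)

/-! ### `T` and `P` -/

/-- `T = C_S(n)` -/
abbrev Tn (S : Sylow 2 G) (M₁ : FiveMod V₁ L₁) : Subgroup G :=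
  (S : Subgroup G) ⊓ centralizer ({M₁.e nn} : Set G)

/-- `P = T X` -/
abbrev Pn (S : Sylow 2 G) (M₁ : FiveMod V₁ L₁) : Subgroup G := Tn S M₁ ⊔ XX (Vl M₁) (Rl M₁)

include wr in
theorem T_norm_Vl : Tn S M₁ ≤ normalizer (Vl M₁ : Set G) := by
  intro t ht
  obtain ⟨p, q, hp, hi, -⟩ := wr.T_ind ht
  exact Ind.norm_Vl hi (pt_ttp p hp)

/-- the elements of `N(V)` acting trivially on `Z V / V` -/
def PZ (V Z : Subgroup G) : Subgroup G where
  carrier := {x | x ∈ normalizer (V : Set G) ∧ ∀ z ∈ Z, x * z * x⁻¹ * z⁻¹ ∈ V}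
  mul_mem' := by
    rintro x y ⟨hx, hx'⟩ ⟨hy, hy'⟩
    refine ⟨mul_mem hx hy, fun z hz => ?_⟩
    have e : x * y * z * (x * y)⁻¹ * z⁻¹ = x * (y * z * y⁻¹ * z⁻¹) * x⁻¹ * (x * z * x⁻¹ * z⁻¹) := by group
    rw [e]
    exact mul_mem ((mem_normalizer_iff.1 hx _).1 (hy' z hz)) (hx' z hz)
  one_mem' := ⟨one_mem _, fun z _ => by
    have e : 1 * z * 1⁻¹ * z⁻¹ = (1 : G) := by group
    rw [e]; exact one_mem _⟩
  inv_mem' := by
    rintro x ⟨hx, hx'⟩
    refine ⟨inv_mem hx, fun z hz => ?_⟩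
    have e : x⁻¹ * z * x⁻¹⁻¹ * z⁻¹ = x⁻¹ * (x * z * x⁻¹ * z⁻¹)⁻¹ * x⁻¹⁻¹ := by group
    rw [e]
    exact (mem_normalizer_iff.1 (inv_mem hx) _).1 (inv_mem (hx' z hz))

include wr in
/-- `Q i` centralises `V₂` and acts on `V₁` as `⟨sw i⟩` -/
theorem Q_spec (ex : Ex M₁) {i : Fin 3} {g : G} (hg : g ∈ QQ (Rl M₁ i)) :
    (M₁.Ind g 1 ∨ M₁.Ind g (sw i)) ∧ ∀ v ∈ V₂, v * g = g * v := by
  have d := df_of wr ex
  obtain ⟨a, b, hab, h1, h2⟩ := pt_du i
  rw [QQ, normalizer_Rl, h1] at hg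
  refine ⟨?_, mem_centralizer_iff.1 (d.qc a b hab hg)⟩
  rw [h2]
  exact d.ind a b hab g hg

include wr in
theorem Q_comm (ex : Ex M₁) {i : Fin 3} {g : G} (hg : g ∈ QQ (Rl M₁ i)) (x : Vec) :
    g * M₁.e x * g⁻¹ * (M₁.e x)⁻¹ ∈ Vl M₁ := by
  obtain ⟨a, b, hab, h1, h2⟩ := pt_du i
  rcases (Q_spec wr ex hg).1 with h | h
  · rw [h]
    change M₁.e x * _ ∈ _
    rw [mul_inv_cancel]
    exact one_mem _
  · rw [h2] at h
    rw [h.comm_eq]
    rcases swap_cases a b x with ⟨-, h3⟩ | ⟨-, h3⟩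
    · rw [h3, add_self, M₁.e_zero]; exact one_mem _
    · rw [h3, add_add_cancel', ← h1]; exact pt_mem i

include wr in
/-- `[Q i, Ω₁(Z(T))] ≤ V_l` -/
theorem Q_zc (ex : Ex M₁) {i : Fin 3} {g z : G} (hg : g ∈ QQ (Rl M₁ i)) (hz : z ∈ zc (Tn S M₁)) :
    g * z * g⁻¹ * z⁻¹ ∈ Vl M₁ := by
  have h2 := (Q_spec wr ex hg).2 (M₂.e ss) (M₂.e_mem ss)
  have h1 := Q_comm wr ex hg
  have key : ∀ x : Vec, g * (M₁.e x * M₂.e ss) * g⁻¹ * (M₁.e x * M₂.e ss)⁻¹ ∈ Vl M₁ := by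
    intro x
    have e : g * (M₁.e x * M₂.e ss) * g⁻¹ * (M₁.e x * M₂.e ss)⁻¹ = g * M₁.e x * g⁻¹ * (M₁.e x)⁻¹ := by
      have h3 : M₂.e ss * g⁻¹ = g⁻¹ * M₂.e ss := by
        rw [eq_inv_mul_iff_mul_eq, ← mul_assoc, ← h2, mul_inv_cancel_right]
      calc g * (M₁.e x * M₂.e ss) * g⁻¹ * (M₁.e x * M₂.e ss)⁻¹
          = g * M₁.e x * (M₂.e ss * g⁻¹) * (M₂.e ss)⁻¹ * (M₁.e x)⁻¹ := by group
        _ = g * M₁.e x * g⁻¹ * (M₁.e x)⁻¹ := by rw [h3]; group
    rw [e]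
    exact h1 x
  have h0 : M₂.e ss = M₁.e 0 * M₂.e ss := by rw [M₁.e_zero, one_mul]
  rcases wr.zT_cases₈ hz with rfl | rfl | rfl | rfl | rfl | rfl | rfl | rfl
  · have e : g * 1 * g⁻¹ * 1⁻¹ = (1 : G) := by group
    rw [e]; exact one_mem _
  · exact h1 _
  · rw [h0]; exact key 0
  · exact key _
  · exact h1 _
  · exact h1 _
  · exact key _
  · exact key _

include wr in
theorem P_le_PZ (ex : Ex M₁) : Pn S M₁ ≤ PZ (Vl M₁) (zc (Tn S M₁)) := by
  have b := bt_of wr ex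
  refine sup_le (fun t ht => ⟨T_norm_Vl wr ht, fun z hz => ?_⟩) (iSup_le fun i => fun g hg => ⟨?_, fun z hz => ?_⟩)
  · rw [(mem_zc.1 hz).2.1 t ht]
    have e : z * t * t⁻¹ * z⁻¹ = (1 : G) := by group
    rw [e]; exact one_mem _
  · exact b.X_le_NV (W_le_X _ _ i hg)
  · exact Q_zc wr ex (b.W_le_Q i hg) hz

/-- `O₂(M)` centralises `V_l` for every `M ≥ T, X` of characteristic 2 (LEMMA O) -/
def Loc (S : Sylow 2 G) (M₁ : FiveMod V₁ L₁) : Prop :=
  ∀ M : Subgroup G, Tn S M₁ ≤ M → XX (Vl M₁) (Rl M₁) ≤ M → o2 M ≠ ⊥ →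
    M ⊓ centralizer (o2 M : Set G) ≤ o2 M → o2 M ≤ centralizer (Vl M₁ : Set G)

include wr in
theorem htt (ex : Ex M₁) (syl : ¬ 2 ∣ (Tn S M₁).relIndex (centralizer ({M₁.e nn} : Set G)))
    (loc : Loc S M₁) : HTT (Tn S M₁) (Pn S M₁) (Vl M₁) (Rl M₁) 0 where
  toBT := bt_of wr ex
  card_R := card_Rl
  char2 := wr.hG
  S_p := S.isPGroup'.to_le inf_le_left
  S_odd := by rw [normalizer_Rl, pt_zero]; exact syl
  S_V := T_norm_Vl wr
  S_R := by rw [normalizer_Rl, pt_zero]; exact inf_le_right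
  S_P := le_sup_left
  P_V := (P_le_PZ wr ex).trans fun _ h => h.1
  P_trans i := by
    obtain ⟨x, hx, e⟩ := (bt_of wr ex).trans_X_one 0 i
    exact ⟨x, mem_sup_right hx, e⟩
  P_Z x hx z hz := (P_le_PZ wr ex hx).2 z hz
  loc := loc

/-! ### `C_{Ω₁Z(T)}(P)` -/

theorem perp_aa : ∀ i : Fin 3, aa ∘ (sw i).symm = aa := by decide +kernel

theorem move_nn : ¬ (nn ∘ (sw 1).symm = nn ∨ nn ∘ (sw 1).symm = nn + 1) := by decide +kernel

theorem move_ss : ¬ (ss ∘ (sw 1).symm = ss ∨ ss ∘ (sw 1).symm = ss + 1) := by decide +kernel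

include wr in
theorem X_comm_a (ex : Ex M₁) {g : G} (hg : g ∈ XX (Vl M₁) (Rl M₁)) : g * M₁.e aa = M₁.e aa * g := by
  have b := bt_of wr ex
  have h : XX (Vl M₁) (Rl M₁) ≤ centralizer ({M₁.e aa} : Set G) := by
    refine iSup_le fun i => fun g hg => mem_C.2 ?_
    rcases (Q_spec wr ex (b.W_le_Q i hg)).1 with h | h
    · exact (h.commute_iff _).2 (Or.inl rfl)
    · exact (h.commute_iff _).2 (Or.inl (perp_aa i))
  exact mem_C.1 (h hg)

include wr in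
theorem X_comm_V₂ (ex : Ex M₁) {g v : G} (hg : g ∈ XX (Vl M₁) (Rl M₁)) (hv : v ∈ V₂) : g * v = v * g := by
  have b := bt_of wr ex
  have h : XX (Vl M₁) (Rl M₁) ≤ centralizer ({v} : Set G) := by
    refine iSup_le fun i => fun g hg => mem_C.2 ?_
    exact ((Q_spec wr ex (b.W_le_Q i hg)).2 v hv).symm
  exact mem_C.1 (h hg)

include wr in
/-- an element of `X` inducing `(0 4)` -/
theorem exists_w (ex : Ex M₁) : ∃ g ∈ XX (Vl M₁) (Rl M₁), M₁.Ind g (sw 1) := by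
  obtain ⟨h, hn, ⟨u, hu, hui⟩, -⟩ := exists_Mv wr ex 1
  exact ⟨_, W_le_X _ _ 1 (cj_le_WW hn ⟨u, hu, rfl⟩), hui⟩

include wr in
theorem a_mem_cz (ex : Ex M₁) : M₁.e aa ∈ zc (Tn S M₁) ⊓ centralizer (Pn S M₁ : Set G) := by
  have haT : M₁.e aa ∈ Tn S M₁ := ⟨wr.V₁_le_S (M₁.e_mem _), mem_C.2 (M₁.e_comm _ _)⟩
  refine ⟨mem_zc.2 ⟨haT, fun t ht => wr.T_comm_a ht, e_sq' M₁ _⟩, ?_⟩
  have h : Pn S M₁ ≤ centralizer ({M₁.e aa} : Set G) :=
    sup_le (fun t ht => mem_C.2 (wr.T_comm_a ht)) fun g hg => mem_C.2 (X_comm_a wr ex hg)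
  exact mem_centralizer_iff.2 fun g hg => mem_C.1 (h hg)

include wr in
theorem t_mem_cz (ex : Ex M₁) : M₂.e ss ∈ zc (Tn S M₁) ⊓ centralizer (Pn S M₁ : Set G) := by
  have htT : M₂.e ss ∈ Tn S M₁ := wr.V₂_le_T (M₂.e_mem _)
  refine ⟨mem_zc.2 ⟨htT, fun t ht => wr.T_comm_s₂ ht, e_sq' M₂ _⟩, ?_⟩
  have h : Pn S M₁ ≤ centralizer ({M₂.e ss} : Set G) :=
    sup_le (fun t ht => mem_C.2 (wr.T_comm_s₂ ht)) fun g hg => mem_C.2 (X_comm_V₂ wr ex hg (M₂.e_mem _))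
  exact mem_centralizer_iff.2 fun g hg => mem_C.1 (h hg)

include wr in
theorem mem_cz (ex : Ex M₁) {x : G} : x ∈ zc (Tn S M₁) ⊓ centralizer (Pn S M₁ : Set G) ↔
    x = 1 ∨ x = M₁.e aa ∨ x = M₂.e ss ∨ x = M₁.e aa * M₂.e ss := by
  constructor
  · rintro ⟨h1, h2⟩
    obtain ⟨g, hg, hi⟩ := exists_w wr ex
    have hgx : g * x = x * g := mem_centralizer_iff.1 h2 g (mem_sup_right hg)
    have hgt : g * M₂.e ss = M₂.e ss * g := X_comm_V₂ wr ex hg (M₂.e_mem _)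
    have hga : g * M₁.e aa = M₁.e aa * g := X_comm_a wr ex hg
    have k1 : ∀ y : Vec, g * (M₁.e y * M₂.e ss) = M₁.e y * M₂.e ss * g → g * M₁.e y = M₁.e y * g := by
      intro y hy
      refine mul_right_cancel (b := M₂.e ss) ?_
      calc g * M₁.e y * M₂.e ss = g * (M₁.e y * M₂.e ss) := by group
        _ = M₁.e y * (M₂.e ss * g) := by rw [hy]; group
        _ = M₁.e y * g * M₂.e ss := by rw [← hgt]; group
    have kn : ¬ g * M₁.e nn = M₁.e nn * g := fun h => move_nn ((hi.commute_iff _).1 h)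
    have ks : ¬ g * M₁.e ss = M₁.e ss * g := fun h => move_ss ((hi.commute_iff _).1 h)
    rcases wr.zT_cases₈ h1 with h | h | h | h | h | h | h | h
    · exact Or.inl h
    · rw [h] at hgx; exact absurd hgx ks
    · exact Or.inr (Or.inr (Or.inl h))
    · rw [h] at hgx; exact absurd (k1 _ hgx) ks
    · rw [h] at hgx; exact absurd hgx kn
    · exact Or.inr (Or.inl h)
    · rw [h] at hgx; exact absurd (k1 _ hgx) kn
    · exact Or.inr (Or.inr (Or.inr h))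
  · rintro (rfl | rfl | rfl | rfl)
    · exact one_mem _
    · exact a_mem_cz wr ex
    · exact t_mem_cz wr ex
    · exact mul_mem (a_mem_cz wr ex) (t_mem_cz wr ex)

end wr

end Cfsg.Agent.Omega.IId.LFour.Htt
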