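import Cfsg.Agent.Omega.IId.LFour.HttLE
import Cfsg.Agent.Omega.HT.Final
import Cfsg.Agent.Omega.HT.End
import Cfsg.Agent.Omega.HT.AlphaY

/-!
# LEMMA O (II.d L4, `S₅ wr 2`, pure pair): 2-groups normalised by `T_n` and `X` (helper430)

`T = C_S(n)` Sylow in `C_G(n)`; an element of `N_G(T)` centralises `n` or swaps `n` and `a` (`Tn`).

* `Tn.odd` : `T` has odd index in every `M`, `T ≤ M ≤ C(a)`;
* `Tn.lemO` : a 2-group `K` normalised by `T` and by `x₁, x₂ ∈ C(a)` with `n ^ x₁ = {0 4}`, `n ^ x₂ = {1 4}` centralises `n`;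
* `Tn.loc` : a 2-group normalised by `T` and `X` centralises `V` (`HTT.loc`);
* `false_of_fr` : the end, `HT.Final.false_of`.
-/

set_option autoImplicit false
set_option linter.unusedSectionVars false

namespace Cfsg.Agent.Omega.IId.LFour.HttLE

open Subgroup Pointwise Cfsg Cfsg.Agent.ZN Cfsg.Agent.Omega.MinPar
open Cfsg.Agent.Omega.S5.Mod Cfsg.Agent.Omega.S5.TT
open Cfsg.Agent.Omega.S5.TT.Pos (na ns as sn n_ne s_ne a_ne n_ne_a n_ne_s a_ne_s e_sq' mem_C)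
open Cfsg.Agent.MinSimple.VModule (o2_isPGroup le_o2 o2_le zc_le zc_comm)
open Cfsg.Agent.Omega.HTwo.ThmA (LE)
open Cfsg.Agent.Omega.HT
open Cfsg.Agent.Omega.BTwo (XX CenX QQ cj_one)

universe u

variable {G : Type u} [Group G]

/-! ### 2-groups -/

theorem exists_grow [Finite G] {R T : Subgroup G} (hR : IsPGroup 2 R) (hTR : T ≤ R) (hne : ¬ R ≤ T) :
    ∃ w ∈ R, w ∉ T ∧ w ∈ normalizer (T : Set G) := by
  have : Fact (Nat.Prime 2) := ⟨Nat.prime_two⟩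
  have : Group.IsNilpotent R := hR.isNilpotent
  have h1 : T.subgroupOf R < ⊤ := by
    refine lt_top_iff_ne_top.2 fun h => hne ?_
    exact subgroupOf_eq_top.1 h
  have h2 := Group.normalizerCondition_of_isNilpotent (G := R) _ h1
  obtain ⟨x, hx, hxT⟩ := SetLike.exists_of_lt h2
  refine ⟨x, x.2, fun h => hxT (mem_subgroupOf.2 h), ?_⟩
  rw [mem_normalizer_iff]
  intro y
  constructor
  · intro hy
    have h3 := (mem_normalizer_iff.1 hx ⟨y, hTR hy⟩).1 (mem_subgroupOf.2 hy)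
    exact mem_subgroupOf.1 h3
  · intro hy
    have hyR : y ∈ R := by
      have h4 := mul_mem (mul_mem (inv_mem x.2) (hTR hy)) x.2
      have e : (x : G)⁻¹ * (x * y * (x : G)⁻¹) * x = y := by group
      rwa [e] at h4
    exact mem_subgroupOf.1 ((mem_normalizer_iff.1 hx ⟨y, hyR⟩).2 (mem_subgroupOf.2 hy))

/-- `|n ^ R| ≤ |R : T|` if `T` centralises `n` -/
theorem card_orbit_le [Finite G] {R T : Subgroup G} {n : G} (hTR : T ≤ R) (hT : ∀ t ∈ T, t * n = n * t)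
    {k : ℕ} (hk : Nat.card R ≤ k * Nat.card T) (s : Finset G) (hs : ∀ y ∈ s, ∃ r ∈ R, y = r * n * r⁻¹) :
    s.card ≤ k := by
  classical
  choose! r hr hry using hs
  -- `s → R / T`
  have hinj : Function.Injective fun y : s => (QuotientGroup.mk (⟨r y, hr y y.2⟩ : R) : R ⧸ T.subgroupOf R) := by
    rintro ⟨y, hy⟩ ⟨y', hy'⟩ h
    rw [QuotientGroup.eq] at h
    have h1 : (r y)⁻¹ * r y' ∈ T := mem_subgroupOf.1 h
    have h2 := hT _ h1
    apply Subtype.ext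
    change y = y'
    rw [hry y hy, hry y' hy']
    calc r y * n * (r y)⁻¹ = r y * (n * ((r y)⁻¹ * r y')) * (r y')⁻¹ := by group
      _ = r y * ((r y)⁻¹ * r y' * n) * (r y')⁻¹ := by rw [h2]
      _ = r y' * n * (r y')⁻¹ := by group
  have h1 := Nat.card_le_card_of_injective _ hinj
  rw [Nat.card_eq_fintype_card, Fintype.card_coe] at h1
  have h2 : Nat.card (R ⧸ T.subgroupOf R) * Nat.card T = Nat.card R := by
    have h3 := (T.subgroupOf R).card_mul_index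
    rw [Nat.card_congr (subgroupOfEquivOfLe hTR).toEquiv] at h3
    rw [mul_comm]
    exact h3
  have h3 : 0 < Nat.card T := Nat.card_pos
  rw [← h2] at hk
  exact h1.trans (Nat.le_of_mul_le_mul_right hk h3)

variable {S : Sylow 2 G} {P V₁ V₂ L₁ L₂ : Subgroup G} {M₁ : FiveMod V₁ L₁} {M₂ : FiveMod V₂ L₂}

/-- `T_n` is Sylow in `C(n)`; `N(T_n)` fixes `n` or swaps `n` and `a`. -/
structure Tn (S : Sylow 2 G) (M₁ : FiveMod V₁ L₁) : Prop where
  syl : ¬ 2 ∣ ((S : Subgroup G) ⊓ centralizer ({M₁.e nn} : Set G)).relIndex (centralizer ({M₁.e nn} : Set G))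
  cor : ∀ g ∈ normalizer (((S : Subgroup G) ⊓ centralizer ({M₁.e nn} : Set G) : Subgroup G) : Set G),
    g * M₁.e nn = M₁.e nn * g ∨ (g * M₁.e nn * g⁻¹ = M₁.e aa ∧ g * M₁.e aa * g⁻¹ = M₁.e nn)

namespace Tn

variable (t : Tn S M₁)
include t

/-- a 2-group `R ≥ T` has `C_R(n) = T` -/
theorem mem_of_comm [Finite G] {R : Subgroup G} (hR : IsPGroup 2 R)
    (hTR : (S : Subgroup G) ⊓ centralizer ({M₁.e nn} : Set G) ≤ R) {w : G} (hw : w ∈ R)
    (hwn : w * M₁.e nn = M₁.e nn * w) : w ∈ (S : Subgroup G) ⊓ centralizer ({M₁.e nn} : Set G) := by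
  have h1 : R ⊓ centralizer ({M₁.e nn} : Set G) ≤ (S : Subgroup G) ⊓ centralizer ({M₁.e nn} : Set G) := by
    set T := (S : Subgroup G) ⊓ centralizer ({M₁.e nn} : Set G) with hT
    have h2 : T ≤ R ⊓ centralizer ({M₁.e nn} : Set G) := le_inf hTR inf_le_right
    have h3 := HT.card_dvd_card (S := T) (N := centralizer ({M₁.e nn} : Set G)) inf_le_right t.syl
      (T := R ⊓ centralizer ({M₁.e nn} : Set G)) (hR.to_le inf_le_left) inf_le_right
    exact (eq_of_le_of_card_ge h2 (Nat.le_of_dvd Nat.card_pos h3)).ge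
  exact h1 ⟨hw, mem_C.2 hwn⟩

/-- `T` has odd index in every `M`, `T ≤ M ≤ C(a)`. -/
theorem odd [Finite G] {M : Subgroup G} (hTM : (S : Subgroup G) ⊓ centralizer ({M₁.e nn} : Set G) ≤ M)
    (hM : ∀ m ∈ M, m * M₁.e aa = M₁.e aa * m) :
    ¬ 2 ∣ ((S : Subgroup G) ⊓ centralizer ({M₁.e nn} : Set G)).relIndex M := by
  obtain ⟨T', h1, h2, h3, h4⟩ := HT.exists_syl (S.isPGroup'.to_le inf_le_left :
    IsPGroup 2 ((S : Subgroup G) ⊓ centralizer ({M₁.e nn} : Set G) : Subgroup G)) hTM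
  have h5 : T' ≤ (S : Subgroup G) ⊓ centralizer ({M₁.e nn} : Set G) := by
    by_contra hne
    obtain ⟨w, hw, hwT, hwn⟩ := exists_grow h3 h1 hne
    rcases t.cor w hwn with h | ⟨-, h⟩
    · exact hwT (t.mem_of_comm h3 h1 hw h)
    · rw [hM w (h2 hw), mul_inv_cancel_right] at h
      exact n_ne_a M₁ h.symm
  rw [le_antisymm h1 h5]
  exact h4

theorem card_le [Finite G] (wr : Wr S P M₁ M₂) {R : Subgroup G} (hR : IsPGroup 2 R) :
    Nat.card R ≤ 4 * Nat.card ((S : Subgroup G) ⊓ centralizer ({M₁.e nn} : Set G) : Subgroup G) := by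
  rw [← wr.card_T]
  have : Fact (Nat.Prime 2) := ⟨Nat.prime_two⟩
  obtain ⟨S', hS'⟩ := hR.exists_le_sylow
  exact (card_le_of_le hS').trans (sylow_card_eq S' S).le

/-- **LEMMA O** -/
theorem lemO [Finite G] (wr : Wr S P M₁ M₂) {K : Subgroup G} (hK : IsPGroup 2 K)
    (hTK : (S : Subgroup G) ⊓ centralizer ({M₁.e nn} : Set G) ≤ normalizer (K : Set G)) {x₁ x₂ : G}
    (hx₁ : x₁ ∈ normalizer (K : Set G)) (hx₂ : x₂ ∈ normalizer (K : Set G))
    (ha₁ : x₁ * M₁.e aa = M₁.e aa * x₁) (ha₂ : x₂ * M₁.e aa = M₁.e aa * x₂)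
    (hr₁ : x₁ * M₁.e nn * x₁⁻¹ = M₁.e (Crux.du 0 4)) (hr₂ : x₂ * M₁.e nn * x₂⁻¹ = M₁.e (Crux.du 1 4)) :
    ∀ k ∈ K, k * M₁.e nn = M₁.e nn * k := by
  classical
  obtain ⟨T, hT⟩ : ∃ T, T = (S : Subgroup G) ⊓ centralizer ({M₁.e nn} : Set G) := ⟨_, rfl⟩
  have hTp : IsPGroup 2 T := by rw [hT]; exact S.isPGroup'.to_le inf_le_left
  rw [← hT] at hTK
  have hTn : ∀ x ∈ T, x * M₁.e nn = M₁.e nn * x := fun x hx => by rw [hT] at hx; exact mem_C.1 hx.2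
  have hR : IsPGroup 2 (K ⊔ T : Subgroup G) := IsPGroup.to_sup_of_normal_left' hK hTp hTK
  by_cases hle : K ⊔ T ≤ T
  · exact fun k hk => hTn k (hle (mem_sup_left hk))
  exfalso
  obtain ⟨w, hw, hwT, hwn⟩ := exists_grow hR le_sup_right hle
  -- `w ∈ K`
  obtain ⟨w', hw'K, hw'T, hw'n⟩ : ∃ w' ∈ K, w' ∉ T ∧ w' ∈ normalizer (T : Set G) := by
    have h1 := hw
    rw [← SetLike.mem_coe, coe_mul_of_right_le_normalizer_left _ _ hTK] at h1
    obtain ⟨k, hk, y, hy, rfl⟩ := h1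
    refine ⟨k, hk, fun h => hwT (mul_mem h hy), ?_⟩
    have h2 := mul_mem hwn (inv_mem (le_normalizer hy))
    have e : k * y * y⁻¹ = k := by group
    rwa [e] at h2
  have hTR : (S : Subgroup G) ⊓ centralizer ({M₁.e nn} : Set G) ≤ K ⊔ T := by rw [← hT]; exact le_sup_right
  obtain ⟨h1, h2⟩ : w' * M₁.e nn * w'⁻¹ = M₁.e aa ∧ w' * M₁.e aa * w'⁻¹ = M₁.e nn := by
    rw [hT] at hw'n hw'T
    rcases t.cor w' hw'n with h | h
    · exact absurd (t.mem_of_comm hR hTR (mem_sup_left hw'K) h) hw'T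
    · exact h
  -- `n ^ K` contains `n, a, r₁, r₂`
  have hconj : ∀ {x : G}, x ∈ normalizer (K : Set G) → x * M₁.e aa = M₁.e aa * x → ∃ k ∈ K,
      x * M₁.e nn * x⁻¹ = k * M₁.e nn * k⁻¹ := by
    intro x hx hxa
    refine ⟨(x * w' * x⁻¹)⁻¹ * w', mul_mem (inv_mem ((mem_normalizer_iff.1 hx _).1 hw'K)) hw'K, ?_⟩
    have e1 : x * M₁.e nn * x⁻¹ = (x * w' * x⁻¹)⁻¹ * (x * (w' * M₁.e nn * w'⁻¹) * x⁻¹) * (x * w' * x⁻¹) := by
      group
    rw [e1, h1, hxa, mul_inv_cancel_right, ← h1]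
    group
  obtain ⟨k₁, hk₁, e₁⟩ := hconj hx₁ ha₁
  obtain ⟨k₂, hk₂, e₂⟩ := hconj hx₂ ha₂
  rw [hr₁] at e₁
  rw [hr₂] at e₂
  -- every member of `n ^ K` is one of the four
  have hfour : ∀ k ∈ K, k * M₁.e nn * k⁻¹ = M₁.e nn ∨ k * M₁.e nn * k⁻¹ = M₁.e aa ∨
      k * M₁.e nn * k⁻¹ = M₁.e (Crux.du 0 4) ∨ k * M₁.e nn * k⁻¹ = M₁.e (Crux.du 1 4) := by
    intro k hk
    by_contra hcon
    push Not at hcon
    obtain ⟨c1, c2, c3, c4⟩ := hcon
    have d1 : M₁.e nn ≠ M₁.e (Crux.du 0 4) := by rw [Ne, M₁.e_eq_iff]; decide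
    have d2 : M₁.e nn ≠ M₁.e (Crux.du 1 4) := by rw [Ne, M₁.e_eq_iff]; decide
    have d3 : M₁.e aa ≠ M₁.e (Crux.du 0 4) := by rw [Ne, M₁.e_eq_iff]; decide
    have d4 : M₁.e aa ≠ M₁.e (Crux.du 1 4) := by rw [Ne, M₁.e_eq_iff]; decide
    have d5 : M₁.e (Crux.du 0 4) ≠ M₁.e (Crux.du 1 4) := by rw [Ne, M₁.e_eq_iff]; decide
    have h5 := card_orbit_le (R := K ⊔ T) (T := T) (n := M₁.e nn) (k := 4) le_sup_right hTn
      (by rw [hT]; rw [hT] at hR; exact t.card_le wr hR)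
      {k * M₁.e nn * k⁻¹, M₁.e nn, M₁.e aa, M₁.e (Crux.du 0 4), M₁.e (Crux.du 1 4)} (by
        intro y hy
        simp only [Finset.mem_insert, Finset.mem_singleton] at hy
        rcases hy with rfl | rfl | rfl | rfl | rfl
        · exact ⟨k, mem_sup_left hk, rfl⟩
        · exact ⟨1, one_mem _, by group⟩
        · exact ⟨w', mem_sup_left hw'K, h1.symm⟩
        · exact ⟨k₁, mem_sup_left hk₁, e₁⟩
        · exact ⟨k₂, mem_sup_left hk₂, e₂⟩)
    rw [Finset.card_insert_of_notMem, Finset.card_insert_of_notMem, Finset.card_insert_of_notMem,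
      Finset.card_insert_of_notMem, Finset.card_singleton] at h5
    · omega
    · simpa using d5
    · simp only [Finset.mem_insert, Finset.mem_singleton]; tauto
    · have := n_ne_a M₁
      simp only [Finset.mem_insert, Finset.mem_singleton]; tauto
    · simp only [Finset.mem_insert, Finset.mem_singleton]; tauto
  -- `w'` permutes `r₁, r₂`
  have hinv : w'⁻¹ * M₁.e aa * w' = M₁.e nn := by rw [← h1]; group
  have hinv2 : w'⁻¹ * M₁.e nn * w' = M₁.e aa := by rw [← h2]; group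
  have hw1 : ∀ x : G, x ≠ M₁.e nn → x ≠ M₁.e aa → w' * x * w'⁻¹ ≠ M₁.e nn ∧ w' * x * w'⁻¹ ≠ M₁.e aa := by
    intro x hxn hxa
    constructor
    · intro h
      apply hxa
      calc x = w'⁻¹ * (w' * x * w'⁻¹) * w' := by group
        _ = M₁.e aa := by rw [h, hinv2]
    · intro h
      apply hxn
      calc x = w'⁻¹ * (w' * x * w'⁻¹) * w' := by group
        _ = M₁.e nn := by rw [h, hinv]
  have hk1 : w' * M₁.e (Crux.du 0 4) * w'⁻¹ = M₁.e (Crux.du 0 4) ∨ w' * M₁.e (Crux.du 0 4) * w'⁻¹ =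
      M₁.e (Crux.du 1 4) := by
    have h3 := hfour (w' * k₁) (mul_mem hw'K hk₁)
    have e3 : w' * k₁ * M₁.e nn * (w' * k₁)⁻¹ = w' * (k₁ * M₁.e nn * k₁⁻¹) * w'⁻¹ := by group
    rw [e3, ← e₁] at h3
    obtain ⟨c1, c2⟩ := hw1 (M₁.e (Crux.du 0 4)) (by rw [Ne, M₁.e_eq_iff]; decide)
      (by rw [Ne, M₁.e_eq_iff]; decide)
    tauto
  have hk2 : w' * M₁.e (Crux.du 1 4) * w'⁻¹ = M₁.e (Crux.du 0 4) ∨ w' * M₁.e (Crux.du 1 4) * w'⁻¹ =
      M₁.e (Crux.du 1 4) := by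
    have h3 := hfour (w' * k₂) (mul_mem hw'K hk₂)
    have e3 : w' * k₂ * M₁.e nn * (w' * k₂)⁻¹ = w' * (k₂ * M₁.e nn * k₂⁻¹) * w'⁻¹ := by group
    rw [e3, ← e₂] at h3
    obtain ⟨c1, c2⟩ := hw1 (M₁.e (Crux.du 1 4)) (by rw [Ne, M₁.e_eq_iff]; decide)
      (by rw [Ne, M₁.e_eq_iff]; decide)
    tauto
  have h7 : M₁.e nn = M₁.e (Crux.du 0 4) * M₁.e (Crux.du 1 4) := by
    rw [← M₁.e_add, M₁.e_eq_iff]; decide
  have h8 : M₁.e aa = w' * M₁.e (Crux.du 0 4) * w'⁻¹ * (w' * M₁.e (Crux.du 1 4) * w'⁻¹) := by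
    rw [← h1, h7]; group
  rcases hk1 with hk1 | hk1 <;> rcases hk2 with hk2 | hk2 <;> rw [hk1, hk2, ← M₁.e_add, M₁.e_eq_iff] at h8 <;>
    revert h8 <;> decide

end Tn

/-! ### The instance -/

section inst

variable [Finite G] {ι : Type*} {T P' V : Subgroup G} {R : ι → Subgroup G} {o : ι}

/-- `HTT.loc`: a 2-group normalised by `T` and `X` centralises `V`. -/
theorem Tn.loc (t : Tn S M₁) (wr : Wr S P M₁ M₂) {X : Subgroup G} (hXa : ∀ x ∈ X, x * M₁.e aa = M₁.e aa * x)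
    (hX₁ : ∃ x ∈ X, x * M₁.e nn * x⁻¹ = M₁.e (Crux.du 0 4))
    (hX₂ : ∃ x ∈ X, x * M₁.e nn * x⁻¹ = M₁.e (Crux.du 1 4)) {K : Subgroup G} (hK : IsPGroup 2 K)
    (hTK : (S : Subgroup G) ⊓ centralizer ({M₁.e nn} : Set G) ≤ normalizer (K : Set G))
    (hXK : X ≤ normalizer (K : Set G)) {V : Subgroup G}
    (hV : ∀ v ∈ V, v = 1 ∨ v = M₁.e nn ∨ v = M₁.e (Crux.du 0 4) ∨ v = M₁.e (Crux.du 1 4)) :
    K ≤ centralizer (V : Set G) := by
  obtain ⟨x₁, hx₁, hr₁⟩ := hX₁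
  obtain ⟨x₂, hx₂, hr₂⟩ := hX₂
  have key := t.lemO wr hK hTK (hXK hx₁) (hXK hx₂) (hXa _ hx₁) (hXa _ hx₂) hr₁ hr₂
  have hx : ∀ x ∈ X, ∀ k ∈ K, k * (x * M₁.e nn * x⁻¹) = x * M₁.e nn * x⁻¹ * k := by
    intro x hx k hk
    have h1 : x⁻¹ * k * x ∈ K := by
      have := (mem_normalizer_iff.1 (inv_mem (hXK hx)) k).1 hk
      rwa [inv_inv] at this
    exact comm_conj' (key _ h1)
  intro k hk
  refine mem_centralizer_iff.2 fun v hv => ?_
  rcases hV v hv with h | h | h | h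
  · rw [h, one_mul, mul_one]
  · rw [h, key k hk]
  · rw [h, ← hr₁, hx x₁ hx₁ k hk]
  · rw [h, ← hr₂, hx x₂ hx₂ k hk]

/-- **The end**: `HT.Final.false_of` with `z₀ = a`, `z₁ = τ`. -/
theorem false_of_fr (wr : Wr S P M₁ M₂) (t : Tn S M₁)
    (f : Fr M₁ M₂ ((S : Subgroup G) ⊓ centralizer ({M₁.e nn} : Set G)) P' V R o)
    (ha : M₁.e aa ∈ zc ((S : Subgroup G) ⊓ centralizer ({M₁.e nn} : Set G)) ⊓ centralizer (P' : Set G))
    (hτ : M₂.e ss ∈ zc ((S : Subgroup G) ⊓ centralizer ({M₁.e nn} : Set G)) ⊓ centralizer (P' : Set G)) :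
    False := by
  have b := f.htt
  have hLE := le_all wr f
  have haτ : M₂.e ss ≠ M₁.e aa := by
    intro h
    exact a_ne M₁ (wr.V₁_ne_V₂ (M₁.e_mem _) (h ▸ M₂.e_mem _))
  have hTza : ∀ x ∈ (S : Subgroup G) ⊓ centralizer ({M₁.e nn} : Set G), x * M₁.e aa = M₁.e aa * x :=
    fun x hx => (mem_zc.1 ha.1).2.1 x hx
  have hMP : ¬ 2 ∣ ((S : Subgroup G) ⊓ centralizer ({M₁.e nn} : Set G)).relIndex
      (HTwo.AlphaP.MP V R o (M₁.e aa)) := by
    refine t.odd ?_ ?_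
    · have h0 : (S : Subgroup G) ⊓ centralizer ({M₁.e nn} : Set G) ≤
          normalizer (R o : Set G) ⊓ centralizer ({M₁.e aa} : Set G) :=
        fun x hx => mem_inf.2 ⟨b.S_R hx, mem_C.2 (hTza x hx)⟩
      exact h0.trans le_sup_left
    · intro m hm
      have h1 : HTwo.AlphaP.MP V R o (M₁.e aa) ≤ centralizer ({M₁.e aa} : Set G) :=
        sup_le inf_le_right (b.X_le_cen ha)
      exact mem_C.1 (h1 hm)
  refine HT.Final.false_of b hLE ha (a_ne M₁) hτ (s_ne M₂) haτ ?_ ?_ ?_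
  · refine t.odd ?_ ?_
    · have h0 : (S : Subgroup G) ⊓ centralizer ({M₁.e nn} : Set G) ≤
          centralizer (zc ((S : Subgroup G) ⊓ centralizer ({M₁.e nn} : Set G)) : Set G) :=
        fun x hx => mem_centralizer_iff.2 fun z hz => ((mem_zc.1 hz).2.1 x hx).symm
      exact h0.trans le_sup_left
    · intro m hm
      exact mem_C.1 (JunAB.MZ_le b ha hm)
  · intro z hz hz1 hzz
    have h1 := eq_a wr f hz hz1 hzz
    subst h1
    exact HT.AlphaY.not_alpha b f.Ro hLE hz hz1 (HT.Main.gsys_of_core b f.Ro hz hz1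
      (HT.Main.core_of_odd b f.Ro hz hz1 hMP)) (hyV wr f)
  · intro z hz hz1 hzz r hr hr1
    have h1 := eq_a wr f hz hz1 hzz
    subst h1
    exact HT.Main.core_of_odd b hr hz hz1 hMP

end inst

end Cfsg.Agent.Omega.IId.LFour.HttLE
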