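import Cfsg.Agent.Omega.IId.LFour.AOne
import Cfsg.Agent.Involutions.BaerSuzuki

/-!
# THEOREM TRI, the local case (project OMEGA, II.d L4; text helper644 #17091, (2)-(5))

`w : Wr S P M₁ M₂`, `S₁ = N_S(V₁)`, `t ∈ N_G(S₁)` centralises `σ₁`, `V₃ = t V₂ t⁻¹`. If `V₃` commutes with `V₂`
and lies in `O₂(C_G(σ))` for the five singular `σ ∈ V₁` then `V₃ ≤ O₂(C_G(p))` for every nonsingular `p ∈ V₂`
(`Wr.V₃_le_Q`). Input: `V₂ ≤ O₂(C_G(n₂))` for the adapted `n₂ = M₂.e nn` (LEMMA X).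

* `Wr.le_S₁_of_comm` : a 2-group `≥ S₁` which centralises `σ₁` and `σ₂` is `S₁`;
* `Wr.o2_centralizer_le` : `O₂(C_G(V₂)) ≤ S₁`;
* `Wr.zQ_le` : `Z(O₂(C_G(p))) ≤ S₁`;
* `Wr.comm_zQ` : `[V₃, Z(O₂(C_G(p)))] = 1` (Baer–Suzuki).
-/

set_option autoImplicit false
set_option linter.unusedSectionVars false

namespace Cfsg.Agent.Omega.IId.LFour

open Subgroup Pointwise Cfsg Cfsg.Agent.ZN Cfsg.Agent.Omega.MinPar Cfsg.Agent.Omega.FFThm
open Cfsg.Agent.ZN.ChoiceBase (cj mem_cj)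
open Cfsg.Agent.Omega.S5.Mod Cfsg.Agent.Omega.S5.TT
open Cfsg.Agent.Omega.S5.TT.Pos (na ns as sn n_ne s_ne a_ne n_ne_a n_ne_s a_ne_s e_sq' mem_C)
open Cfsg.Agent.Omega.Half (Amb amb_of_loc)
open Cfsg.Agent.MinSimple.VModule (mem_zc zc_le zc_comm zc_sq zc_le_zl le_normalizer_o2 o2_isPGroup o2_le
  le_o2 normalizer_le_normalizer_zc le_normalizer_zl)

universe u

namespace TriLoc

/-! ### Vectors and permutations -/

/-- the singular vector `i` -/
def sg (i : Fin 5) : Vec := Pi.single i 1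

/-- the pair `{i, j}` -/
def pp (i j : Fin 5) : Vec := sg i + sg j

theorem sg_comp (q : Equiv.Perm (Fin 5)) (i : Fin 5) : sg i ∘ q.symm = sg (q i) := by
  funext k
  simp only [sg, Function.comp_apply, Pi.single_apply, Equiv.symm_apply_eq]

theorem pp_comp (q : Equiv.Perm (Fin 5)) (i j : Fin 5) : pp i j ∘ q.symm = pp (q i) (q j) := by
  have h : pp i j ∘ q.symm = sg i ∘ q.symm + sg j ∘ q.symm := rfl
  rw [h, sg_comp, sg_comp]; rfl

theorem nn_eq : nn = pp 0 1 := by decide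

theorem ss_eq : ss = sg 4 := by decide

theorem perm_four : ∀ q : Equiv.Perm (Fin 5), q * dd = dd * q → q 4 = 4 := by
  decide +kernel

theorem key_dec : ∀ k a b c : Fin 5, (pp a 4 + pp c 4 = pp k 4 + pp b 4 ∨
    pp a 4 + pp c 4 = pp k 4 + pp b 4 + 1) → a ≠ k → b ≠ k → c ≠ a → c = k := by
  decide +kernel

theorem pp_inj : ∀ a k : Fin 5, (pp a 4 = pp k 4 ∨ pp a 4 = pp k 4 + 1) → a = k := by
  decide +kernel

theorem pp_span : ∀ y : Vec, ∃ b₀ b₁ b₂ b₃ : Bool,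
    (y = cond b₀ (pp 0 4) 0 + cond b₁ (pp 1 4) 0 + cond b₂ (pp 2 4) 0 + cond b₃ (pp 3 4) 0 ∨
     y = cond b₀ (pp 0 4) 0 + cond b₁ (pp 1 4) 0 + cond b₂ (pp 2 4) 0 + cond b₃ (pp 3 4) 0 + 1) := by
  decide +kernel

theorem sg_sum : sg 0 + sg 1 + sg 2 + sg 3 = sg 4 + 1 := by decide

theorem sg_span : ∀ y : Vec, ∃ b₀ b₁ b₂ b₃ : Bool,
    (y = cond b₀ (sg 0) 0 + cond b₁ (sg 1) 0 + cond b₂ (sg 2) 0 + cond b₃ (sg 3) 0 ∨
     y = cond b₀ (sg 0) 0 + cond b₁ (sg 1) 0 + cond b₂ (sg 2) 0 + cond b₃ (sg 3) 0 + 1) := by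
  decide +kernel

theorem exists_perm : ∀ i j : Fin 5, i ≠ j → ∃ q : Equiv.Perm (Fin 5), q 0 = i ∧ q 1 = j := by
  decide +kernel

end TriLoc

open TriLoc

variable {G : Type u} [Group G]

/-! ### Generalities -/

/-- `O₂` of a normal subgroup. -/
theorem o2_le_o2_of_normal' {H K : Subgroup G} (hK : K ≤ H) (hn : H ≤ normalizer (K : Set G)) :
    o2 K ≤ o2 H := by
  refine le_o2 ((o2_le K).trans hK) (o2_isPGroup K) ?_
  exact hn.trans (ChoiceBase.normalizer_le_of_cj (F := fun X => o2 X) (fun g T => ChoiceBase.pCore_cj g T) K)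

/-- `M` normalises the centre of `O₂(M)`. -/
theorem normalizer_zo2 [Finite G] (M : Subgroup G) :
    M ≤ normalizer ((o2 M ⊓ centralizer (o2 M : Set G) : Subgroup G) : Set G) := by
  intro g hg
  refine MinSimple.VModule.mem_normalizer_of_map_le ?_
  rintro _ ⟨x, hx, rfl⟩
  change g * x * g⁻¹ ∈ _
  refine ⟨(mem_normalizer_iff.1 (le_normalizer_o2 M hg) x).1 hx.1, mem_centralizer_iff.mpr fun y hy => ?_⟩
  have hy' : g⁻¹ * y * g ∈ o2 M := by
    have := (mem_normalizer_iff.1 (le_normalizer_o2 M (inv_mem hg)) y).1 hy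
    rwa [inv_inv] at this
  have h3 := mem_centralizer_iff.mp hx.2 _ hy'
  calc y * (g * x * g⁻¹) = g * (g⁻¹ * y * g * x) * g⁻¹ := by group
    _ = g * (x * (g⁻¹ * y * g)) * g⁻¹ := by rw [h3]
    _ = g * x * g⁻¹ * y := by group

theorem normalizer_cent [Finite G] {H U : Subgroup G} (h : H ≤ normalizer (U : Set G)) :
    H ≤ normalizer (centralizer (U : Set G) : Set G) := by
  intro g hg
  refine MinSimple.VModule.mem_normalizer_of_map_le ?_
  rintro _ ⟨x, hx, rfl⟩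
  change g * x * g⁻¹ ∈ _
  refine mem_centralizer_iff.mpr fun y hy => ?_
  have hy' : g⁻¹ * y * g ∈ U := by
    have := (mem_normalizer_iff.1 (inv_mem (h hg)) y).1 hy
    rwa [inv_inv] at this
  have h3 := mem_centralizer_iff.mp hx _ hy'
  calc y * (g * x * g⁻¹) = g * (g⁻¹ * y * g * x) * g⁻¹ := by group
    _ = g * (x * (g⁻¹ * y * g)) * g⁻¹ := by rw [h3]
    _ = g * x * g⁻¹ * y := by group

/-- **LEMMA U.** -/
theorem lemmaU' [Finite G] {H U V C : Subgroup G} (hU : H ≤ normalizer (U : Set G))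
    (hC : H ⊓ centralizer (U : Set G) ≤ C) (hVH : V ≤ H) (hVU : V ≤ centralizer (U : Set G))
    (hV : V ≤ o2 C) : V ≤ o2 H := by
  set K := H ⊓ centralizer (U : Set G) with hK
  have hKn : H ≤ normalizer (K : Set G) := Half.le_normalizer_inf le_normalizer (normalizer_cent hU)
  have h1 : K ⊓ o2 C ≤ o2 K := by
    refine le_o2 inf_le_left ((o2_isPGroup C).to_le inf_le_right) ?_
    exact Half.le_normalizer_inf le_normalizer (hC.trans (le_normalizer_o2 C))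
  exact (le_inf (le_inf hVH hVU) hV).trans (h1.trans (o2_le_o2_of_normal' inf_le_left hKn))

/-- Baer–Suzuki in a subgroup. -/
theorem exists_inverted [Finite G] {M : Subgroup G} {t : G} (htM : t ∈ M) (ht : t * t = 1) (hO : t ∉ o2 M) :
    ∃ d ∈ M, d ≠ 1 ∧ Odd (orderOf d) ∧ t * d * t⁻¹ = d⁻¹ := by
  obtain ⟨d, h1, h2, h3⟩ := Involutions.BaerSuzuki.exists_odd_inverted (⟨t, htM⟩ : M) (Subtype.ext ht) (by
    intro hP
    apply hO
    have h4 : (Subgroup.normalClosure {(⟨t, htM⟩ : M)}).map M.subtype ≤ o2 M := by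
      refine le_o2 (map_subtype_le _) (hP.map _) ?_
      exact MinSimple.VModule.le_normalizer_map_of_normal Subgroup.normalClosure_normal
    exact h4 ⟨⟨t, htM⟩, Subgroup.subset_normalClosure (Set.mem_singleton _), rfl⟩)
  refine ⟨d, d.2, fun h0 => h1 (Subtype.ext h0), ?_, congrArg Subtype.val h3⟩
  rwa [Subgroup.orderOf_coe]

/-- `d` of odd order is a power of `d²` -/
theorem odd_comm {d v : G} (hodd : Odd (orderOf d)) (h : d * d * v = v * (d * d)) : d * v = v * d := by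
  obtain ⟨k, hk⟩ := hodd
  have h1 : (d * d) ^ (k + 1) = d := by
    rw [← pow_two, ← pow_mul]
    have h2 : 2 * (k + 1) = orderOf d + 1 := by omega
    rw [h2, pow_add, pow_orderOf_eq_one, one_mul, pow_one]
  have h3 : Commute (d * d) v := h
  have h4 := h3.pow_left (k + 1)
  rw [h1] at h4
  exact h4

/-- **The Baer–Suzuki trick** (helper84 #16986): `x` inverts `d`, commutes with `v` and with `v^d`, and lies in
`O₂(C(v))`: then `d = 1`. -/
theorem trick [Finite G] {x d v : G} (hodd : Odd (orderOf d)) (hd : x * d * x⁻¹ = d⁻¹)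
    (hx : x ∈ o2 (centralizer ({v} : Set G))) (hxv : x * (d * v * d⁻¹) = d * v * d⁻¹ * x) : d = 1 := by
  have hxC : x * v = v * x := mem_C.1 (o2_le _ hx)
  -- `d` commutes with `v`
  have h1 : d * v * d⁻¹ = d⁻¹ * v * d := by
    calc d * v * d⁻¹ = x * (d * v * d⁻¹) * x⁻¹ := by rw [hxv]; group
      _ = (x * d * x⁻¹) * (x * v * x⁻¹) * (x * d * x⁻¹)⁻¹ := by group
      _ = d⁻¹ * v * d := by rw [hd, hxC, inv_inv]; group
  have h2 : d * v = v * d := by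
    apply odd_comm hodd
    calc d * d * v = d * (d * v * d⁻¹) * d := by group
      _ = d * (d⁻¹ * v * d) * d := by rw [h1]
      _ = v * (d * d) := by group
  have hdC : d ∈ centralizer ({v} : Set G) := mem_C.2 h2
  -- `d⁻² ∈ O₂(C(v))`
  have h3 : d⁻¹ * d⁻¹ ∈ o2 (centralizer ({v} : Set G)) := by
    have h4 : x * (d * x⁻¹ * d⁻¹) ∈ o2 (centralizer ({v} : Set G)) :=
      mul_mem hx ((mem_normalizer_iff.1 (le_normalizer_o2 _ hdC) _).1 (inv_mem hx))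
    have h5 : x * (d * x⁻¹ * d⁻¹) = d⁻¹ * d⁻¹ := by
      calc x * (d * x⁻¹ * d⁻¹) = (x * d * x⁻¹) * d⁻¹ := by group
        _ = d⁻¹ * d⁻¹ := by rw [hd]
    rwa [h5] at h4
  obtain ⟨m, hm⟩ := o2_isPGroup _ ⟨_, h3⟩
  have hm' : (d⁻¹ * d⁻¹) ^ (2 ^ m) = 1 := congrArg Subtype.val hm
  rw [← pow_two, ← pow_mul, inv_pow, inv_eq_one] at hm'
  have h6 : orderOf d ∣ 2 ^ (m + 1) := by
    rw [pow_succ, mul_comm]; exact orderOf_dvd_of_pow_eq_one hm'
  obtain ⟨j, -, hj⟩ := (Nat.dvd_prime_pow Nat.prime_two).1 h6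
  rcases Nat.eq_zero_or_pos j with h0 | h0
  · rw [h0, pow_zero] at hj
    exact orderOf_eq_one_iff.1 hj
  · exfalso
    rw [hj] at hodd
    have h7 : Even (2 ^ j) := (Nat.even_pow.2 ⟨even_two, by omega⟩)
    exact (Nat.not_even_iff_odd.2 hodd) h7

namespace Wr

variable {S : Sylow 2 G} {P V₁ V₂ L₁ L₂ : Subgroup G} {M₁ : FiveMod V₁ L₁} {M₂ : FiveMod V₂ L₂}

section fin

variable [Finite G] (w : Wr S P M₁ M₂)
include w

/-- A 2-group `≥ S₁` which centralises `σ₁` and `σ₂` is `S₁`. -/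
theorem le_S₁_of_comm {R : Subgroup G} (hR : IsPGroup 2 R)
    (hS : (S : Subgroup G) ⊓ normalizer (V₁ : Set G) ≤ R) (h1 : ∀ r ∈ R, r * M₁.e ss = M₁.e ss * r)
    (h2 : ∀ r ∈ R, r * M₂.e ss = M₂.e ss * r) : R ≤ (S : Subgroup G) ⊓ normalizer (V₁ : Set G) := by
  set S₁ := (S : Subgroup G) ⊓ normalizer (V₁ : Set G) with hS₁
  have hz1 : M₁.e ss ∈ zc R := mem_zc.2 ⟨hS (w.V₁_le_S₁ (M₁.e_mem ss)), h1, e_sq' M₁ ss⟩
  have hz2 : M₂.e ss ∈ zc R := mem_zc.2 ⟨hS (w.V₂_le_S₁ (M₂.e_mem ss)), h2, e_sq' M₂ ss⟩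
  have hc1 := Half.card_le_sylow S hR
  have hc2 : Nat.card R ≠ Nat.card (S : Subgroup G) := by
    intro h0
    have h3 : Nat.card (zc R) ≤ 2 := by
      rw [Half.card_zc_of_card_eq S hR h0]
      exact w.card_zS
    have h4 := eq_of_card_le_two h3 hz1 hz2 (s_ne M₁) (s_ne M₂)
    exact s_ne M₁ (w.V₁_ne_V₂ (M₁.e_mem ss) (by rw [h4]; exact M₂.e_mem ss))
  have hc3 : Nat.card (S : Subgroup G) = 2 * Nat.card S₁ := w.card_S₁
  have hc4 : Nat.card R ≤ Nat.card S₁ := by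
    obtain ⟨a, ha⟩ := IsPGroup.iff_card.1 hR
    obtain ⟨b, hb⟩ := IsPGroup.iff_card.1 S.isPGroup'
    rw [ha, hb] at hc1 hc2
    rw [hb] at hc3
    rw [ha]
    have h4 : a < b := by
      rcases lt_trichotomy a b with h | h | h
      · exact h
      · exact absurd (by rw [h]) hc2
      · exact absurd ((Nat.pow_le_pow_iff_right (by norm_num : 1 < 2)).1 hc1) (by omega)
    have h5 : 2 ^ (a + 1) ≤ 2 ^ b := Nat.pow_le_pow_right (by norm_num) h4
    rw [pow_succ] at h5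
    omega
  exact (Subgroup.eq_of_le_of_card_ge hS hc4).ge

/-- `O₂(C_G(V₂)) ≤ S₁` -/
theorem o2_centralizer_le : o2 (centralizer (V₂ : Set G)) ≤ (S : Subgroup G) ⊓ normalizer (V₁ : Set G) := by
  set S₁ := (S : Subgroup G) ⊓ normalizer (V₁ : Set G) with hS₁
  have hSN : S₁ ≤ normalizer (V₂ : Set G) := by rw [hS₁, w.S₁_eq]; exact inf_le_right
  have hSO : S₁ ≤ normalizer ((o2 (centralizer (V₂ : Set G)) : Subgroup G) : Set G) :=
    (normalizer_cent hSN).trans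
      (ChoiceBase.normalizer_le_of_cj (F := fun X => o2 X) (fun g T => ChoiceBase.pCore_cj g T) _)
  have hL : L₁ ≤ centralizer (V₂ : Set G) := fun g hg => mem_centralizer_iff.2 fun v hv =>
    (w.L₁_comm hg hv).symm
  have hO1 : o2 (centralizer (V₂ : Set G)) ≤ centralizer (V₁ : Set G) :=
    w.half (o2_isPGroup _) (hL.trans (le_normalizer_o2 _)) hSO
  refine le_sup_right.trans (w.le_S₁_of_comm (R := S₁ ⊔ o2 (centralizer (V₂ : Set G))) ?_ le_sup_left ?_ ?_)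
  · exact (S.isPGroup'.to_le inf_le_left).to_sup_of_normal_right' (o2_isPGroup _) hSO
  · have : S₁ ⊔ o2 (centralizer (V₂ : Set G)) ≤ centralizer ({M₁.e ss} : Set G) :=
      sup_le (fun g hg => mem_C.2 (w.S₁_comm_s₁ hg)) fun g hg => mem_C.2
        (mem_centralizer_iff.1 (hO1 hg) _ (M₁.e_mem ss)).symm
    exact fun r hr => mem_C.1 (this hr)
  · have : S₁ ⊔ o2 (centralizer (V₂ : Set G)) ≤ centralizer ({M₂.e ss} : Set G) :=
      sup_le (fun g hg => mem_C.2 (w.S₁_comm_s₂ hg)) fun g hg => mem_C.2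
        (mem_centralizer_iff.1 (o2_le _ hg) _ (M₂.e_mem ss)).symm
    exact fun r hr => mem_C.1 (this hr)

/-- `Z(O₂(C_G(p))) ≤ S₁` for `p ∈ V₂` with `V₂ ≤ O₂(C_G(p))` -/
theorem zQ_le {p : G} (hp : p ∈ V₂) (hQ : V₂ ≤ o2 (centralizer ({p} : Set G))) :
    o2 (centralizer ({p} : Set G)) ⊓ centralizer (o2 (centralizer ({p} : Set G)) : Set G) ≤
      (S : Subgroup G) ⊓ normalizer (V₁ : Set G) := by
  refine le_trans (le_o2 ?_ ((o2_isPGroup _).to_le inf_le_left) ?_) w.o2_centralizer_le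
  · exact inf_le_right.trans (centralizer_le hQ)
  · refine le_trans (fun g hg => mem_C.2 ?_) (normalizer_zo2 (centralizer ({p} : Set G)))
    exact (mem_centralizer_iff.1 hg p hp).symm

/-- elements of `S₁` act on `V₃ = t V₂ t⁻¹` through `D₈` -/
theorem act_V₃ {t : G} (ht : t ∈ normalizer (((S : Subgroup G) ⊓ normalizer (V₁ : Set G) : Subgroup G) : Set G))
    {b : G} (hb : b ∈ (S : Subgroup G) ⊓ normalizer (V₁ : Set G)) :
    ∃ q : Equiv.Perm (Fin 5), q * dd = dd * q ∧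
      ∀ y, b * (t * M₂.e y * t⁻¹) * b⁻¹ = t * M₂.e (y ∘ q.symm) * t⁻¹ := by
  have h1 : t⁻¹ * b * t ∈ (S : Subgroup G) ⊓ normalizer (V₁ : Set G) := by
    have := (mem_normalizer_iff.1 (inv_mem ht) b).1 hb
    rwa [inv_inv] at this
  obtain ⟨p, q, -, hq⟩ := w.S₁_ind h1
  refine ⟨q, w.symm.dS w.S_le h1.1 hq, fun y => ?_⟩
  have h2 := hq y
  calc b * (t * M₂.e y * t⁻¹) * b⁻¹ = t * (t⁻¹ * b * t * M₂.e y * (t⁻¹ * b * t)⁻¹) * t⁻¹ := by group
    _ = _ := by rw [h2]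

/-- **(4)** `[V₃, Z(O₂(C_G(p)))] = 1` -/
theorem comm_zQ {t : G}
    (ht : t ∈ normalizer (((S : Subgroup G) ⊓ normalizer (V₁ : Set G) : Subgroup G) : Set G))
    (hc : ∀ v ∈ V₂, ∀ u ∈ V₂, t * v * t⁻¹ * u = u * (t * v * t⁻¹))
    (hO : ∀ v ∈ V₂, ∀ i, t * v * t⁻¹ ∈ o2 (centralizer ({M₁.e (sg i)} : Set G)))
    {p : G} (hp : p ∈ V₂) (hQ : V₂ ≤ o2 (centralizer ({p} : Set G)))
    (hQ1 : V₁ ≤ o2 (centralizer ({p} : Set G))) (hQ2 : o2 (centralizer ({p} : Set G)) ≤ centralizer (V₁ : Set G))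
    {v : G} (hv : v ∈ V₂) {b : G} (hb : b ∈ o2 (centralizer ({p} : Set G)) ⊓
      centralizer (o2 (centralizer ({p} : Set G)) : Set G)) :
    b * (t * v * t⁻¹) = t * v * t⁻¹ * b := by
  set Q := o2 (centralizer ({p} : Set G)) with hQd
  set B := Q ⊓ centralizer (Q : Set G) with hB
  have hBS := w.zQ_le hp hQ
  have hCB : centralizer ({p} : Set G) ≤ normalizer (B : Set G) := normalizer_zo2 _
  have hBc : ∀ b ∈ B, ∀ c ∈ B, b * c = c * b := fun b hb c hc => (mem_centralizer_iff.1 hb.2 c hc.1).symm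
  have hVB : ∀ u ∈ V₁, u ∈ B := fun u hu => ⟨hQ1 hu, mem_centralizer_iff.2 fun g hg =>
    (mem_centralizer_iff.1 (hQ2 hg) u hu).symm⟩
  have key : ∀ k : Fin 5, ∀ b ∈ B, b * (t * M₂.e (pp k 4) * t⁻¹) = t * M₂.e (pp k 4) * t⁻¹ * b := by
    intro k
    by_contra hcon
    push Not at hcon
    obtain ⟨b₀, hb₀, hne⟩ := hcon
    set x := t * M₂.e (pp k 4) * t⁻¹ with hx
    have hxx : x * x = 1 := by
      calc x * x = t * (M₂.e (pp k 4) * M₂.e (pp k 4)) * t⁻¹ := by rw [hx]; group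
        _ = 1 := by rw [M₂.e_sq]; group
    have hxi : x⁻¹ = x := inv_eq_of_mul_eq_one_left hxx
    have hxC : x ∈ centralizer ({p} : Set G) := mem_C.2 (hc _ (M₂.e_mem _) p hp)
    have hxO : x ∉ Q := fun h => hne (mem_centralizer_iff.1 hb₀.2 x h).symm
    obtain ⟨d, hdC, hd1, hodd, hd⟩ := exists_inverted hxC hxx hxO
    have star : ∀ b ∈ B, ∀ b' ∈ B, b * x ≠ x * b → b' * x ≠ x * b' → b * b' * x = x * (b * b') := by
      intro b hb b' hb' h1 h2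
      obtain ⟨q, hqd, hq⟩ := w.act_V₃ ht (hBS hb)
      obtain ⟨q', hqd', hq'⟩ := w.act_V₃ ht (hBS hb')
      have h4 := perm_four q hqd
      have h4' := perm_four q' hqd'
      have e1 : ∀ i, b * (t * M₂.e (pp i 4) * t⁻¹) * b⁻¹ = t * M₂.e (pp (q i) 4) * t⁻¹ := fun i => by
        rw [hq, pp_comp, h4]
      have e2 : ∀ i, b' * (t * M₂.e (pp i 4) * t⁻¹) * b'⁻¹ = t * M₂.e (pp (q' i) 4) * t⁻¹ := fun i => by
        rw [hq', pp_comp, h4']
      have hqk : q k ≠ k := by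
        intro h
        apply h1
        have := e1 k
        rw [h] at this
        rwa [mul_inv_eq_iff_eq_mul] at this
      have hqk' : q' k ≠ k := by
        intro h
        apply h2
        have := e2 k
        rw [h] at this
        rwa [mul_inv_eq_iff_eq_mul] at this
      -- `[x, b'] ∈ B`
      have h5 : x * (b' * x * b'⁻¹) ∈ B := by
        have h6 : x * b' * x⁻¹ ∈ B := (mem_normalizer_iff.1 (hCB hxC) b').1 hb'
        rw [hxi] at h6
        have h7 := mul_mem h6 (inv_mem hb')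
        have h8 : x * b' * x * b'⁻¹ = x * (b' * x * b'⁻¹) := by group
        rwa [h8] at h7
      have h6 : b * (x * (b' * x * b'⁻¹)) * b⁻¹ = x * (b' * x * b'⁻¹) := by
        rw [hBc b hb _ h5, mul_inv_cancel_right]
      have h7 : b * (x * (b' * x * b'⁻¹)) * b⁻¹ = (b * x * b⁻¹) * (b * (b' * x * b'⁻¹) * b⁻¹) := by group
      rw [h7, hx, e2, e1, e1] at h6
      have h8 : ∀ y z, t * M₂.e y * t⁻¹ * (t * M₂.e z * t⁻¹) = t * M₂.e (y + z) * t⁻¹ := fun y z => by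
        rw [M₂.e_add]; group
      rw [h8, h8] at h6
      have h9 : M₂.e (pp (q k) 4 + pp (q (q' k)) 4) = M₂.e (pp k 4 + pp (q' k) 4) :=
        mul_left_cancel (mul_right_cancel h6)
      have h10 := key_dec k (q k) (q' k) (q (q' k)) (M₂.e_eq_iff.1 h9) hqk hqk'
        (fun h => hqk' (q.injective h))
      have h11 : b * b' * x * (b * b')⁻¹ = x := by
        calc b * b' * x * (b * b')⁻¹ = b * (b' * x * b'⁻¹) * b⁻¹ := by group
          _ = x := by rw [hx, e2, e1, h10]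
      rwa [mul_inv_eq_iff_eq_mul] at h11
    have hu : ∀ i, d * M₁.e (sg i) * d⁻¹ ∈ B := fun i =>
      (mem_normalizer_iff.1 (hCB hdC) _).1 (hVB _ (M₁.e_mem _))
    have hex : ∃ i, x * (d * M₁.e (sg i) * d⁻¹) = d * M₁.e (sg i) * d⁻¹ * x := by
      by_contra hno
      push Not at hno
      have h1 := star _ (hu 0) _ (hu 1) (fun h => hno 0 h.symm) (fun h => hno 1 h.symm)
      have h2 := star _ (hu 2) _ (hu 3) (fun h => hno 2 h.symm) (fun h => hno 3 h.symm)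
      apply hno 4
      have h3 : d * M₁.e (sg 4) * d⁻¹ = d * M₁.e (sg 0) * d⁻¹ * (d * M₁.e (sg 1) * d⁻¹) *
          (d * M₁.e (sg 2) * d⁻¹ * (d * M₁.e (sg 3) * d⁻¹)) := by
        have h4 : M₁.e (sg 0) * M₁.e (sg 1) * M₁.e (sg 2) * M₁.e (sg 3) = M₁.e (sg 4) := by
          rw [← M₁.e_add, ← M₁.e_add, ← M₁.e_add, M₁.e_eq_iff]
          exact Or.inr sg_sum
        rw [← h4]; group
      have h5 : Commute (d * M₁.e (sg 0) * d⁻¹ * (d * M₁.e (sg 1) * d⁻¹)) x := h1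
      have h6 : Commute (d * M₁.e (sg 2) * d⁻¹ * (d * M₁.e (sg 3) * d⁻¹)) x := h2
      rw [h3]
      exact (h5.mul_left h6).eq.symm
    obtain ⟨i, hi⟩ := hex
    exact hd1 (trick hodd hd (hO _ (M₂.e_mem _) i) hi)
  -- all of `V₃`
  obtain ⟨y, rfl⟩ := (M₂.mem_iff v).1 hv
  have hadd : ∀ y z, b * (t * M₂.e y * t⁻¹) = t * M₂.e y * t⁻¹ * b →
      b * (t * M₂.e z * t⁻¹) = t * M₂.e z * t⁻¹ * b →
      b * (t * M₂.e (y + z) * t⁻¹) = t * M₂.e (y + z) * t⁻¹ * b := by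
    intro y z h1 h2
    have e : t * M₂.e (y + z) * t⁻¹ = t * M₂.e y * t⁻¹ * (t * M₂.e z * t⁻¹) := by
      rw [M₂.e_add]; group
    rw [e]
    have h3 : Commute b (t * M₂.e y * t⁻¹) := h1
    have h4 : Commute b (t * M₂.e z * t⁻¹) := h2
    exact (h3.mul_right h4).eq
  have h0 : b * (t * M₂.e 0 * t⁻¹) = t * M₂.e 0 * t⁻¹ * b := by rw [M₂.e_zero]; group
  have h1 : b * (t * M₂.e 1 * t⁻¹) = t * M₂.e 1 * t⁻¹ * b := by rw [M₂.e_one]; group
  have hcd : ∀ (β : Bool) (k : Fin 5), b * (t * M₂.e (cond β (pp k 4) 0) * t⁻¹) =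
      t * M₂.e (cond β (pp k 4) 0) * t⁻¹ * b := by
    intro β k
    cases β
    · exact h0
    · exact key k b hb
  obtain ⟨b₀, b₁, b₂, b₃, h | h⟩ := pp_span y
  · rw [h]
    exact hadd _ _ (hadd _ _ (hadd _ _ (hcd b₀ 0) (hcd b₁ 1)) (hcd b₂ 2)) (hcd b₃ 3)
  · rw [h]
    exact hadd _ _ (hadd _ _ (hadd _ _ (hadd _ _ (hcd b₀ 0) (hcd b₁ 1)) (hcd b₂ 2)) (hcd b₃ 3)) h1

/-- **(5)** `V₃ ≤ O₂(C_G(p))` -/
theorem V₃_le_of {t : G}
    (ht : t ∈ normalizer (((S : Subgroup G) ⊓ normalizer (V₁ : Set G) : Subgroup G) : Set G))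
    (hc : ∀ v ∈ V₂, ∀ u ∈ V₂, t * v * t⁻¹ * u = u * (t * v * t⁻¹))
    (hO : ∀ v ∈ V₂, ∀ i, t * v * t⁻¹ ∈ o2 (centralizer ({M₁.e (sg i)} : Set G)))
    {p : G} (hp : p ∈ V₂) (hQ : V₂ ≤ o2 (centralizer ({p} : Set G)))
    (hQ1 : V₁ ≤ o2 (centralizer ({p} : Set G))) (hQ2 : o2 (centralizer ({p} : Set G)) ≤ centralizer (V₁ : Set G))
    {v : G} (hv : v ∈ V₂) : t * v * t⁻¹ ∈ o2 (centralizer ({p} : Set G)) := by
  have h := lemmaU' (H := centralizer ({p} : Set G)) (U := o2 (centralizer ({p} : Set G)) ⊓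
    centralizer (o2 (centralizer ({p} : Set G)) : Set G)) (V := cj t V₂)
    (C := centralizer ({M₁.e (sg 4)} : Set G)) (normalizer_zo2 _) ?_ ?_ ?_ ?_
  · apply h
    rw [mem_cj]
    have e : t⁻¹ * (t * v * t⁻¹) * t = v := by group
    rw [e]; exact hv
  · intro g hg
    refine mem_C.2 (mem_centralizer_iff.1 hg.2 (M₁.e (sg 4)) ⟨hQ1 (M₁.e_mem _), ?_⟩).symm
    exact mem_centralizer_iff.2 fun y hy => (mem_centralizer_iff.1 (hQ2 hy) _ (M₁.e_mem _)).symm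
  · intro x hx
    rw [mem_cj] at hx
    have := hc _ hx p hp
    have e : t * (t⁻¹ * x * t) * t⁻¹ = x := by group
    rw [e] at this
    exact mem_C.2 this
  · intro x hx
    rw [mem_cj] at hx
    refine mem_centralizer_iff.2 fun b hb => ?_
    have := w.comm_zQ ht hc hO hp hQ hQ1 hQ2 hx hb
    have e : t * (t⁻¹ * x * t) * t⁻¹ = x := by group
    rwa [e] at this
  · intro x hx
    rw [mem_cj] at hx
    have := hO _ hx 4
    have e : t * (t⁻¹ * x * t) * t⁻¹ = x := by group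
    rwa [e] at this

/-- The data at `p = {i, j} ∈ V₂`. -/
theorem exists_l₂ (i j : Fin 5) (hij : i ≠ j) : ∃ l ∈ L₂, M₂.e (pp i j) = l * M₂.e nn * l⁻¹ := by
  obtain ⟨q, h0, h1⟩ := exists_perm i j hij
  obtain ⟨l, hl, hi⟩ := M₂.exists_lift q
  have hi : M₂.Ind l q := hi
  refine ⟨l, hl, ?_⟩
  rw [hi, nn_eq, pp_comp, h0, h1]

theorem Q_pp {i j : Fin 5} (hij : i ≠ j) (hX : V₂ ≤ o2 (centralizer ({M₂.e nn} : Set G))) :
    V₂ ≤ o2 (centralizer ({M₂.e (pp i j)} : Set G)) ∧ V₁ ≤ o2 (centralizer ({M₂.e (pp i j)} : Set G)) ∧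
      o2 (centralizer ({M₂.e (pp i j)} : Set G)) ≤ centralizer (V₁ : Set G) := by
  obtain ⟨l, hl, he⟩ := w.exists_l₂ i j hij
  rw [he, ← o2_conj]
  have hcomm : ∀ v ∈ V₁, l⁻¹ * v * l = v := fun v hv => by
    rw [mul_assoc, ← w.L₂_comm hl hv]; group
  refine ⟨fun v hv => ?_, fun v hv => ?_, fun x hx => ?_⟩
  · rw [mem_cj]
    refine hX ?_
    have := (mem_normalizer_iff.1 (inv_mem (M₂.le_normalizer hl)) v).1 hv
    rwa [inv_inv] at this
  · rw [mem_cj, hcomm v hv]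
    exact w.symm.quarter hv
  · rw [mem_cj] at hx
    refine mem_centralizer_iff.2 fun v hv => ?_
    have h1 := mem_centralizer_iff.1 (w.symm.quarter_cent hx) v hv
    calc v * x = l * ((l⁻¹ * v * l) * (l⁻¹ * x * l)) * l⁻¹ := by group
      _ = l * (l⁻¹ * x * l * (l⁻¹ * v * l)) * l⁻¹ := by rw [hcomm v hv, h1]
      _ = x * v := by group

/-- **THEOREM TRI, (2)-(5)**: in the local case `V₃ = t V₂ t⁻¹ ≤ O₂(C_G(p))` for all nonsingular `p ∈ V₂`. -/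
theorem V₃_le_Q {t : G}
    (ht : t ∈ normalizer (((S : Subgroup G) ⊓ normalizer (V₁ : Set G) : Subgroup G) : Set G))
    (hc : ∀ v ∈ V₂, ∀ u ∈ V₂, t * v * t⁻¹ * u = u * (t * v * t⁻¹))
    (hO : ∀ v ∈ V₂, ∀ i, t * v * t⁻¹ ∈ o2 (centralizer ({M₁.e (sg i)} : Set G)))
    (hX : V₂ ≤ o2 (centralizer ({M₂.e nn} : Set G))) {i j : Fin 5} (hij : i ≠ j) {v : G} (hv : v ∈ V₂) :
    t * v * t⁻¹ ∈ o2 (centralizer ({M₂.e (pp i j)} : Set G)) := by
  obtain ⟨h1, h2, h3⟩ := w.Q_pp hij hX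
  exact w.V₃_le_of ht hc hO (M₂.e_mem _) h1 h2 h3 hv

end fin

end Wr

end Cfsg.Agent.Omega.IId.LFour
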