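import Cfsg.Agent.Omega.TTn.TwoTypes
import Cfsg.Agent.Omega.IId.LFour.TriLoc
import Cfsg.Agent.Omega.IId.LFour.AThree

/-!
# `S₅ wr 2` against `S₅ wr 2`: two modules are reduced to one (project OMEGA, II.d L4, SwOne; helper242 #19319)

`w : Wr S P M₁ M₂`, `w' : Wr S' P' M₁' M₂'` with the same `n = e nn`, `a = e aa` in the first summands and
`N_S(V₁) = N_{S'}(V₁')`; `h ∈ C_G(n)` with `[V_P, V_{P'} ^ h] ≠ 1`. Then (helper107's LEMMA TWO, `TTn/TwoTypes.lean`)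
there is `k ∈ C_G(n)` with `[V₁', V₁' ^ k] ≠ 1`.

* `Wr.duo` : the configuration `Duo M₁ M₁' x h`;
* `Wr.exists_one` : the conclusion; `Wr.exists_one'` : from an arbitrary non-commuting pair of `V_P`, `V_{P'} ^ h`.
-/

set_option autoImplicit false
set_option linter.unusedSectionVars false

namespace Cfsg.Agent.Omega.IId.LFour

open Subgroup Pointwise Cfsg Cfsg.Agent.ZN Cfsg.Agent.Omega.MinPar Cfsg.Agent.Omega.FFThm
open Cfsg.Agent.ZN.ChoiceBase (cj mem_cj)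
open Cfsg.Agent.Omega.S5.Mod Cfsg.Agent.Omega.S5.TT
open Cfsg.Agent.Omega.S5.TT.Pos (n_ne mem_C)
open Cfsg.Agent.MinSimple.VModule (le_normalizer_o2 o2_isPGroup o2_le)

universe u

variable {G : Type u} [Group G]

namespace Wr

variable {S S' : Sylow 2 G} {P P' V₁ V₂ L₁ L₂ V₁' V₂' L₁' L₂' : Subgroup G} {M₁ : FiveMod V₁ L₁}
  {M₂ : FiveMod V₂ L₂} {M₁' : FiveMod V₁' L₁'} {M₂' : FiveMod V₂' L₂'}

section fin

variable [Finite G] (w : Wr S P M₁ M₂)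
include w

/-- an element of `Q_n` which does not centralise `u ∈ V₁` acts as `(0 1)` -/
theorem swap_of_ne {q u : G} (hq : q ∈ o2 (centralizer ({M₁.e nn} : Set G))) (hu : u ∈ V₁)
    (h : q * u ≠ u * q) : M₁.Ind q (Equiv.swap 0 1) := by
  refine (w.Q_ind hq).resolve_left fun h1 => h ?_
  exact (mem_centralizer_iff.1 (FiveMod.ind_one_iff.1 h1) u hu).symm

/-- The configuration `Duo` of LEMMA TWO. -/
theorem duo (w' : Wr S' P' M₁' M₂') (en : M₁'.e nn = M₁.e nn) (ea : M₁'.e aa = M₁.e aa)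
    (hS : (S : Subgroup G) ⊓ normalizer (V₁ : Set G) = (S' : Subgroup G) ⊓ normalizer (V₁' : Set G)) {h : G}
    (hn : h * M₁.e nn = M₁.e nn * h) {v u : G} (hv : v ∈ V₁') (hu : u ∈ V₁)
    (hne : h * v * h⁻¹ * u ≠ u * (h * v * h⁻¹)) : ∃ x, TTn.TwoTypes.Duo M₁ M₁' x h := by
  obtain ⟨x, hx, hi⟩ := w.exists_x
  have hxS : x ∈ (S' : Subgroup G) ⊓ normalizer (V₁' : Set G) := hS ▸ ⟨hx.1, hi.mem_normalizer⟩
  have hQ : ∀ g, g * M₁.e nn = M₁.e nn * g → ∀ q ∈ o2 (centralizer ({M₁.e nn} : Set G)),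
      g * q * g⁻¹ ∈ o2 (centralizer ({M₁.e nn} : Set G)) := fun g hg q hq =>
    (mem_normalizer_iff.1 (le_normalizer_o2 _ (mem_C.2 hg)) q).1 hq
  have hv₂ : V₁' ≤ o2 (centralizer ({M₁.e nn} : Set G)) := by rw [← en]; exact w'.V₁_le_Q
  have hn' : h⁻¹ * M₁.e nn = M₁.e nn * h⁻¹ := TTn.TwoTypes.inv_comm hn
  refine ⟨x, en, ea, fun q hq => w.Q_ind hq, fun q hq => w'.Q_ind (by rw [en]; exact hq), w.V₁_le_Q, hv₂,
    fun r hr => ?_, tt_n hi, hi.mem_normalizer, hxS.2, hn,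
    ⟨v, hv, w.swap_of_ne (hQ h hn v (hv₂ hv)) hu hne⟩, u, hu, ?_⟩
  · have h1 : r ∈ (S' : Subgroup G) ⊓ normalizer (V₁' : Set G) := by
      have h2 := w'.symm.o2_centralizer_le hr
      rwa [← w'.S₁_eq] at h2
    rw [← hS] at h1
    have h3 : r * M₁.e nn = M₁.e nn * r := by
      have h4 : M₁.e nn ∈ V₁' := by rw [← en]; exact M₁'.e_mem _
      exact (mem_centralizer_iff.1 (o2_le _ hr) _ h4).symm
    obtain ⟨p, q, hp, hi', -⟩ := w.T_ind ⟨h1.1, mem_C.2 h3⟩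
    exact ⟨p, hp, hi'⟩
  · have h1 : h⁻¹ * u * h ∈ o2 (centralizer ({M₁.e nn} : Set G)) := by
      have := hQ _ hn' u (w.V₁_le_Q hu)
      rwa [inv_inv] at this
    refine w'.swap_of_ne (by rw [en]; exact h1) hv fun h2 => hne ?_
    calc h * v * h⁻¹ * u = h * (v * (h⁻¹ * u * h)) * h⁻¹ := by group
      _ = h * (h⁻¹ * u * h * v) * h⁻¹ := by rw [h2]
      _ = u * (h * v * h⁻¹) := by group

/-- **LEMMA TWO for `S₅ wr 2`.** -/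
theorem exists_one (w' : Wr S' P' M₁' M₂') (en : M₁'.e nn = M₁.e nn) (ea : M₁'.e aa = M₁.e aa)
    (hS : (S : Subgroup G) ⊓ normalizer (V₁ : Set G) = (S' : Subgroup G) ⊓ normalizer (V₁' : Set G)) {h : G}
    (hn : h * M₁.e nn = M₁.e nn * h) {v u : G} (hv : v ∈ V₁') (hu : u ∈ V₁)
    (hne : h * v * h⁻¹ * u ≠ u * (h * v * h⁻¹)) :
    ∃ k, k * M₁'.e nn = M₁'.e nn * k ∧ ∃ v ∈ V₁', ∃ u ∈ V₁', k * v * k⁻¹ * u ≠ u * (k * v * k⁻¹) := by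
  obtain ⟨x, d⟩ := w.duo w' en ea hS hn hv hu hne
  obtain ⟨k, hk, -, ⟨_, ⟨v', hv', rfl⟩, hi⟩, -, -⟩ := d.exists_one
  have hi : M₁'.Ind (k * v' * k⁻¹) (Equiv.swap 0 1) := hi
  refine ⟨k, hk, v', hv', M₁'.e ![0, 1, 1, 0, 0], M₁'.e_mem _, fun h1 => ?_⟩
  rcases (hi.commute_iff _).1 h1 with h2 | h2
  · exact absurd h2 (by decide)
  · exact absurd h2 (by decide)

/-- The same, from an arbitrary non-commuting pair. -/
theorem exists_one' (w' : Wr S' P' M₁' M₂') (en : M₁'.e nn = M₁.e nn) (ea : M₁'.e aa = M₁.e aa)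
    (hS : (S : Subgroup G) ⊓ normalizer (V₁ : Set G) = (S' : Subgroup G) ⊓ normalizer (V₁' : Set G)) {h : G}
    (hn : h * M₁.e nn = M₁.e nn * h) {v u : G} (hv : v ∈ zl (S' : Subgroup G) P') (hu : u ∈ zl (S : Subgroup G) P)
    (hne : h * v * h⁻¹ * u ≠ u * (h * v * h⁻¹)) :
    ∃ k, k * M₁'.e nn = M₁'.e nn * k ∧ ∃ v ∈ V₁', ∃ u ∈ V₁', k * v * k⁻¹ * u ≠ u * (k * v * k⁻¹) := by
  have hQ : ∀ g, g * M₁.e nn = M₁.e nn * g → ∀ q ∈ o2 (centralizer ({M₁.e nn} : Set G)),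
      g * q * g⁻¹ ∈ o2 (centralizer ({M₁.e nn} : Set G)) := fun g hg q hq =>
    (mem_normalizer_iff.1 (le_normalizer_o2 _ (mem_C.2 hg)) q).1 hq
  have hn' : h⁻¹ * M₁.e nn = M₁.e nn * h⁻¹ := TTn.TwoTypes.inv_comm hn
  obtain ⟨v₁, hv₁, v₂, hv₂, rfl⟩ : ∃ v₁ ∈ V₁', ∃ v₂ ∈ V₂', v₁ * v₂ = v := by
    have hN : V₂' ≤ normalizer (V₁' : Set G) := fun v hv =>
      centralizer_le_normalizer _ (mem_centralizer_iff.2 fun u hu => w'.comm hu hv)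
    have h2 : v ∈ ((V₁' ⊔ V₂' : Subgroup G) : Set G) := w'.sup ▸ hv
    rw [coe_mul_of_right_le_normalizer_left _ _ hN] at h2
    exact Set.mem_mul.1 h2
  obtain ⟨u₁, hu₁, u₂, hu₂, rfl⟩ : ∃ u₁ ∈ V₁, ∃ u₂ ∈ V₂, u₁ * u₂ = u := by
    have hN : V₂ ≤ normalizer (V₁ : Set G) := fun v hv =>
      centralizer_le_normalizer _ (mem_centralizer_iff.2 fun u hu => w.comm hu hv)
    have h2 : u ∈ ((V₁ ⊔ V₂ : Subgroup G) : Set G) := w.sup ▸ hu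
    rw [coe_mul_of_right_le_normalizer_left _ _ hN] at h2
    exact Set.mem_mul.1 h2
  refine w.exists_one w' en ea hS hn hv₁ hu₁ fun h1 => hne ?_
  -- `V₂'` is centralised by `Q_n`
  have hq₁ : v₁ ∈ o2 (centralizer ({M₁.e nn} : Set G)) := by rw [← en]; exact w'.V₁_le_Q hv₁
  have c1 : h * v₂ * h⁻¹ * (u₁ * u₂) = u₁ * u₂ * (h * v₂ * h⁻¹) := by
    have h2 : h⁻¹ * (u₁ * u₂) * h ∈ o2 (centralizer ({M₁'.e nn} : Set G)) := by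
      rw [en]
      have := hQ _ hn' _ (mul_mem (w.V₁_le_Q hu₁) (w.quarter hu₂))
      rwa [inv_inv] at this
    have h3 := mem_centralizer_iff.1 (w'.quarter_cent h2) v₂ hv₂
    calc h * v₂ * h⁻¹ * (u₁ * u₂) = h * (v₂ * (h⁻¹ * (u₁ * u₂) * h)) * h⁻¹ := by group
      _ = h * (h⁻¹ * (u₁ * u₂) * h * v₂) * h⁻¹ := by rw [h3]
      _ = u₁ * u₂ * (h * v₂ * h⁻¹) := by group
  have c2 : h * v₁ * h⁻¹ * u₂ = u₂ * (h * v₁ * h⁻¹) :=
    (mem_centralizer_iff.1 (w.quarter_cent (hQ h hn v₁ hq₁)) u₂ hu₂).symm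
  calc h * (v₁ * v₂) * h⁻¹ * (u₁ * u₂) = h * v₁ * h⁻¹ * (h * v₂ * h⁻¹ * (u₁ * u₂)) := by group
    _ = h * v₁ * h⁻¹ * (u₁ * u₂ * (h * v₂ * h⁻¹)) := by rw [c1]
    _ = h * v₁ * h⁻¹ * u₁ * u₂ * (h * v₂ * h⁻¹) := by group
    _ = u₁ * (h * v₁ * h⁻¹) * u₂ * (h * v₂ * h⁻¹) := by rw [h1]
    _ = u₁ * (h * v₁ * h⁻¹ * u₂) * (h * v₂ * h⁻¹) := by group
    _ = u₁ * (u₂ * (h * v₁ * h⁻¹)) * (h * v₂ * h⁻¹) := by rw [c2]
    _ = u₁ * u₂ * (h * (v₁ * v₂) * h⁻¹) := by group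

end fin

end Wr

end Cfsg.Agent.Omega.IId.LFour
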