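import Cfsg.Agent.Omega.IId.LFour.Norm
import Cfsg.Agent.Omega.IId.LFour.TwoTypes
import Cfsg.Agent.Omega.IId.LFour.SwTwo

/-!
# `SwOne K` (project OMEGA, II.d L4; helper644 #19215, helper242 #19319)

`(P, P')` a pair, `P` of type `S₅ wr 2`, `P'` of type `S₅` or `S₅ wr 2`.

* `SylN` : `T = C_S(n)` is a Sylow 2-subgroup of `C_G(n)`;
* `JTF` : `[V₁, V₁ ^ k] = 1` for `k ∈ C_G(n)` (h1 over `T`);
* `false_one` : `k' = 1` is impossible;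
* `swOne_of : SylN → JTF → SwOne K`.
-/

set_option autoImplicit false
set_option linter.unusedSectionVars false

namespace Cfsg.Agent.Omega.IId.LFour

open Subgroup Pointwise Cfsg Cfsg.Agent.Omega.MinPar Cfsg.Agent.Omega.FFThm
open Cfsg.Agent.ZN (o2 zc zl)
open Cfsg.Agent.ZN.ChoiceBase (mem_cj cj_cj cj_inv_cj cj_cj_inv)
open Cfsg.Agent.Omega.S5.Mod Cfsg.Agent.Omega.S5.TT
open Cfsg.Agent.Omega.S5.TT.Pos (na ns as sn n_ne s_ne a_ne n_ne_a n_ne_s a_ne_s e_sq' mem_C)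
open Cfsg.Agent.Omega.Half (Amb amb_of_loc)
open Cfsg.Agent.MinSimple.VModule (mem_zc zc_le zc_comm zc_sq zc_le_zl le_normalizer_o2 o2_isPGroup o2_le
  normalizer_le_normalizer_zc le_normalizer_zl)
open Cfsg.Agent.Omega.TwoFFour (Syl2)
open Cfsg.Agent.Omega.Frame
open scoped commutatorElement

universe u

/-- `T` is a Sylow 2-subgroup of `C_G(n)`. -/
def SylN : Prop :=
  ∀ (G : Type u) [Group G] [Finite G] (S : Sylow 2 G) (P V₁ V₂ L₁ L₂ : Subgroup G) (M₁ : FiveMod V₁ L₁)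
    (M₂ : FiveMod V₂ L₂), Wr S P M₁ M₂ →
      ¬ 2 ∣ ((S : Subgroup G) ⊓ centralizer ({M₁.e nn} : Set G)).relIndex (centralizer ({M₁.e nn} : Set G))

/-- `[V₁, V₁ ^ k] = 1` for `k ∈ C_G(n)`. -/
def JTF : Prop :=
  ∀ (G : Type u) [Group G] [Finite G] (S : Sylow 2 G) (P V₁ V₂ L₁ L₂ : Subgroup G) (M₁ : FiveMod V₁ L₁)
    (M₂ : FiveMod V₂ L₂), Wr S P M₁ M₂ → ∀ k v u : G, k * M₁.e nn = M₁.e nn * k → v ∈ V₁ → u ∈ V₁ →
      k * v * k⁻¹ * u = u * (k * v * k⁻¹)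

variable {G : Type u} [Group G]

section one

variable [Finite G] {S S' : Sylow 2 G} {P P' V₁ V₂ L₁ L₂ : Subgroup G} {M₁ : FiveMod V₁ L₁}
  {M₂ : FiveMod V₂ L₂}

theorem tt_two : ∀ p : Equiv.Perm (Fin 5), p * dd = dd * p →
    (nn ∘ p.symm = nn ∨ nn ∘ p.symm = nn + 1) ∨ (nn ∘ p.symm = aa ∨ nn ∘ p.symm = aa + 1) := by
  decide +kernel

/-- a 2-subgroup which induces a subgroup of `D₈` on `V`: half of it centralises `n` -/
theorem card_le_two_mul_cent {V L R : Subgroup G} (N : FiveMod V L)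
    (hd : ∀ g ∈ R, ∃ p, N.Ind g p ∧ p * dd = dd * p) :
    Nat.card R ≤ 2 * Nat.card (centralizer ({N.e nn} : Set G) ⊓ R : Subgroup G) := by
  have h1 : (centralizer ({N.e nn} : Set G)).relIndex R ≤ 2 := by
    rw [NO1.Nat.SevenA.orb]
    refine (Set.ncard_le_ncard (t := {N.e nn, N.e aa}) ?_ (Set.toFinite _)).trans ?_
    · rintro _ ⟨g, hg, rfl⟩
      obtain ⟨p, hi, hp⟩ := hd g hg
      rw [hi]
      rcases tt_two p hp with h | h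
      · left; exact N.e_eq_iff.2 h
      · right; exact N.e_eq_iff.2 h
    · refine (Set.ncard_insert_le _ _).trans ?_
      rw [Set.ncard_singleton]
  have c1 := Half.card_mul_relIndex (inf_le_right : centralizer ({N.e nn} : Set G) ⊓ R ≤ R)
  rw [inf_relIndex_right] at c1
  rw [← c1, mul_comm]
  exact Nat.mul_le_mul_right _ h1

/-- **`k' = 1` is impossible.** -/
theorem false_one (w : Wr S P M₁ M₂)
    (hsyl : ¬ 2 ∣ ((S : Subgroup G) ⊓ centralizer ({M₁.e nn} : Set G)).relIndex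
      (centralizer ({M₁.e nn} : Set G))) {g n : G} (hn : n = g * M₁.e nn * g⁻¹)
    (hP' : IsParS (S' : Subgroup G) P')
    (M' : SymK (S' : Subgroup G) P' (zl (S' : Subgroup G) P') ⊥ 1 2) {p q : Half.SymA.Pt 1 2}
    (hd : Duad M' n p q) : False := by
  have hA' := amb_of_loc w.hG S' hP'.isLoc
  obtain ⟨-, ρ, hρ⟩ := exists_relabel_eq M' hA' hd
  set i := p.1 with hi
  have hcof : SymF.cof M' i = ⊥ := by
    rw [eq_bot_iff]
    intro v hv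
    rw [mem_bot]
    refine SymF.eq_one M' hv.1 (funext fun j => ?_)
    rw [Subsingleton.elim j i]
    exact hv.2
  have hL : SymF.grp M' i = P' := by
    rw [SymF.grp, hcof]
    refine inf_eq_left.2 fun x _ => mem_centralizer_iff.2 fun y hy => ?_
    rw [mem_bot.1 hy]; group
  have hSL : (S' : Subgroup G) ≤ SymF.grp M' i := by rw [hL]; exact hP'.isLoc.le
  obtain ⟨σ, hσ, -⟩ := exists_relabel (md M' hA' i) S'.isPGroup' hSL
    (MinSimple.Basic.not_dvd_relIndex S' hSL)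
  set N := (md M' hA' i).relabel σ with hN
  obtain ⟨l, hl, hil⟩ := N.exists_lift (σ⁻¹ * ρ)
  have hnl : n = l * N.e nn * l⁻¹ := by
    have hil' : N.Ind l (σ⁻¹ * ρ) := hil
    rw [hil' nn, hN, FiveMod.relabel_e, hρ]
    congr 1
    funext x
    change nn (ρ⁻¹ x) = nn ((σ⁻¹ * ρ)⁻¹ (σ⁻¹ x))
    rw [← Equiv.Perm.mul_apply]
    congr 2
    group
  have h1 := card_le_two_mul_cent (R := (S' : Subgroup G)) N fun y hy => by
    obtain ⟨r, hr⟩ := N.exists_ind (hSL hy)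
    exact ⟨r, hr, hσ y hy r hr⟩
  set X := centralizer ({N.e nn} : Set G) ⊓ (S' : Subgroup G) with hX
  have h2 : ZN.ChoiceBase.cj (g⁻¹ * l) X ≤ centralizer ({M₁.e nn} : Set G) := by
    rintro _ ⟨x, hx, rfl⟩
    have h3 := mem_C.1 hx.1
    have e : M₁.e nn = g⁻¹ * l * N.e nn * (g⁻¹ * l)⁻¹ := by
      calc M₁.e nn = g⁻¹ * (g * M₁.e nn * g⁻¹) * g := by group
        _ = g⁻¹ * (l * N.e nn * l⁻¹) * g := by rw [← hn, hnl]
        _ = g⁻¹ * l * N.e nn * (g⁻¹ * l)⁻¹ := by group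
    refine mem_C.2 ?_
    change g⁻¹ * l * x * (g⁻¹ * l)⁻¹ * M₁.e nn = M₁.e nn * (g⁻¹ * l * x * (g⁻¹ * l)⁻¹)
    rw [e]
    calc g⁻¹ * l * x * (g⁻¹ * l)⁻¹ * (g⁻¹ * l * N.e nn * (g⁻¹ * l)⁻¹)
        = g⁻¹ * l * (x * N.e nn) * (g⁻¹ * l)⁻¹ := by group
      _ = g⁻¹ * l * (N.e nn * x) * (g⁻¹ * l)⁻¹ := by rw [h3]
      _ = g⁻¹ * l * N.e nn * (g⁻¹ * l)⁻¹ * (g⁻¹ * l * x * (g⁻¹ * l)⁻¹) := by group
  have h3 := card_le_of_syl ⟨inf_le_right, S.isPGroup'.to_le inf_le_left, hsyl⟩ h2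
    (ZN.ChoiceBase.isPGroup_cj _ (S'.isPGroup'.to_le inf_le_right))
  rw [ZN.ChoiceBase.card_cj] at h3
  have h4 := w.card_T
  have h5 := Sym.card_eq_sylow S S'
  have h6 : 0 < Nat.card ((S : Subgroup G) ⊓ centralizer ({M₁.e nn} : Set G) : Subgroup G) := Nat.card_pos
  omega

end one

/-- **`SwOne K` from `SylN` and `JTF`.** -/
theorem swOne_of (hsy : SylN.{u}) (hjt : JTF.{u}) (K : Cls.{u}) : SwOne K := by
  intro G _ _ S S' hH P P' hp k' M M' hk hk' _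
  exfalso
  obtain ⟨t1, t2⟩ := Sym.typed_of hH.typed hp
  have hc := hH.ctx.char2
  obtain ⟨n, ⟨p, q, hd⟩, p', q', hd'⟩ := exists_duad hc hp t1.noOver t2.noOver M M'
  obtain ⟨V₁, V₂, L₁, L₂, M₁, M₂, w, g, hg, hng⟩ := exists_wr_duad hc hp.star M hd
  have hsyl := hsy G S P V₁ V₂ L₁ L₂ M₁ M₂ w
  obtain rfl | rfl : k' = 1 ∨ k' = 2 := by omega
  · exact false_one w hsyl hng hp.star' M' hd'
  obtain ⟨V₁', V₂', L₁', L₂', M₁', M₂', w', g', hg', hng'⟩ := exists_wr_duad hc hp.star' M' hd'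
  have w₁ := w'.cj (g⁻¹ * g')
  have hn₁ : (M₁'.cj (g⁻¹ * g')).e nn = M₁.e nn := by
    rw [FiveMod.cj_e]
    calc g⁻¹ * g' * M₁'.e nn * (g⁻¹ * g')⁻¹ = g⁻¹ * (g' * M₁'.e nn * g'⁻¹) * g := by group
      _ = g⁻¹ * (g * M₁.e nn * g⁻¹) * g := by rw [← hng', ← hng]
      _ = M₁.e nn := by group
  obtain ⟨v₀, hv₀, a₀, ha₀, hne⟩ : ∃ v ∈ zl (S : Subgroup G) P, ∃ a ∈ zl (S' : Subgroup G) P',
      a * v ≠ v * a := by
    by_contra hcon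
    push Not at hcon
    apply hp.ne
    rw [eq_bot_iff, commutator_le]
    intro v hv a ha
    rw [mem_bot, commutatorElement_eq_one_iff_mul_comm]
    exact (hcon v hv a ha).symm
  have hA := amb_of_loc hc S hp.star.isLoc
  have hA' := amb_of_loc hc S' hp.star'.isLoc
  have hu : g⁻¹ * v₀ * g ∈ zl (S : Subgroup G) P := by
    have := hA.conj_mem (inv_mem hg) hv₀
    rwa [inv_inv] at this
  have hb : g'⁻¹ * a₀ * g' ∈ zl (S' : Subgroup G) P' := by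
    have := hA'.conj_mem (inv_mem hg') ha₀
    rwa [inv_inv] at this
  obtain ⟨d, hdC, T2⟩ := exists_two w w₁ hn₁ hsyl
  have hb' : d * (g⁻¹ * a₀ * g) * d⁻¹ ∈
      zl ((sy d (sy (g⁻¹ * g') S') : Sylow 2 G) : Subgroup G)
        (ZN.ChoiceBase.cj d (ZN.ChoiceBase.cj (g⁻¹ * g') P')) := by
    rw [sy_coe, sy_coe, zl_cj, zl_cj, mem_cj, mem_cj]
    have e : (g⁻¹ * g')⁻¹ * (d⁻¹ * (d * (g⁻¹ * a₀ * g) * d⁻¹) * d) * (g⁻¹ * g') = g'⁻¹ * a₀ * g' := by group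
    rw [e]
    exact hb
  have hdn : d⁻¹ * M₁.e nn = M₁.e nn * d⁻¹ := mem_C.1 (inv_mem hdC)
  have hne' : d⁻¹ * (d * (g⁻¹ * a₀ * g) * d⁻¹) * d⁻¹⁻¹ * (g⁻¹ * v₀ * g) ≠
      g⁻¹ * v₀ * g * (d⁻¹ * (d * (g⁻¹ * a₀ * g) * d⁻¹) * d⁻¹⁻¹) := by
    intro h
    apply hne
    calc a₀ * v₀ = g * (d⁻¹ * (d * (g⁻¹ * a₀ * g) * d⁻¹) * d⁻¹⁻¹ * (g⁻¹ * v₀ * g)) * g⁻¹ := by group
      _ = g * (g⁻¹ * v₀ * g * (d⁻¹ * (d * (g⁻¹ * a₀ * g) * d⁻¹) * d⁻¹⁻¹)) * g⁻¹ := by rw [h]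
      _ = v₀ * a₀ := by group
  obtain ⟨k, hk, v, hv, u, hu', hvu⟩ := T2.w.exists_one' T2.w' T2.n T2.a T2.S₁.symm hdn hb' hu hne'
  exact hvu (hjt _ _ _ _ _ _ _ _ _ T2.w' k v u hk hv hu')

end Cfsg.Agent.Omega.IId.LFour
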