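import Cfsg.Agent.Omega.IId.LFour.Htt
import Cfsg.Agent.Omega.IId.LFour.LemO
import Cfsg.Agent.Omega.IId.LFour.SwOne

/-!
# `S₅ wr 2`, the pure pair (project OMEGA, II.d L4; text 644 #19215 (B), LEMMA O: helper430)

* `fr` : the hypotheses `HttLE.Fr` of the end;
* `not_ex` : `V₁` commutes with its conjugates under `C_G(n)`;
* `tn_of_syl` : `HttLE.Tn` if `T = C_S(n)` is Sylow in `C_G(n)`;
* `jtf_of_sylN : SylN → JTF`; `swOne_of_sylN : SylN → SwOne K`.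
-/

set_option autoImplicit false
set_option linter.unusedSectionVars false

namespace Cfsg.Agent.Omega.IId.LFour.Htt

open Subgroup Pointwise Cfsg Cfsg.Agent.ZN Cfsg.Agent.Omega.MinPar
open Cfsg.Agent.Omega.BTwo Cfsg.Agent.Omega.HT
open Cfsg.Agent.Omega.S5.Mod Cfsg.Agent.Omega.S5.TT
open Cfsg.Agent.Omega.S5.TT.Pos (na ns as sn n_ne s_ne a_ne n_ne_a n_ne_s a_ne_s e_sq' mem_C)
open Cfsg.Agent.Omega.IId.LFour.Crux (du)

universe u

variable {G : Type u} [Group G] [Finite G] {S : Sylow 2 G} {P V₁ V₂ L₁ L₂ : Subgroup G}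
  {M₁ : FiveMod V₁ L₁} {M₂ : FiveMod V₂ L₂} (wr : Wr S P M₁ M₂)
include wr

/-- an element of `X` inducing `sw i` -/
theorem exists_x (ex : Ex M₁) (i : Fin 3) : ∃ g ∈ XX (Vl M₁) (Rl M₁), M₁.Ind g (sw i) := by
  obtain ⟨h, hn, ⟨u, hu, hui⟩, -⟩ := exists_Mv wr ex i
  exact ⟨_, W_le_X _ _ i (cj_le_WW hn ⟨u, hu, rfl⟩), hui⟩

theorem loc_of (ex : Ex M₁) (t : HttLE.Tn S M₁) : Loc S M₁ := by
  intro M hT hX _ _
  refine t.loc wr (X := XX (Vl M₁) (Rl M₁)) (fun x hx => X_comm_a wr ex hx) ?_ ?_ (MinSimple.VModule.o2_isPGroup M)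
    (hT.trans (le_normalizer_o2 M)) (hX.trans (le_normalizer_o2 M)) ?_
  · obtain ⟨x, hx, hi⟩ := exists_x wr ex 2
    refine ⟨x, hx, ?_⟩
    rw [hi, ← pt_zero]
    exact congrArg M₁.e ((pt_sw 2 0 1 (by decide) (by decide)).resolve_left (by decide))
  · obtain ⟨x, hx, hi⟩ := exists_x wr ex 1
    refine ⟨x, hx, ?_⟩
    rw [hi, ← pt_zero]
    exact congrArg M₁.e ((pt_sw 1 0 2 (by decide) (by decide)).resolve_left (by decide))
  · rintro v (rfl | ⟨i, rfl⟩)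
    · exact Or.inl rfl
    · fin_cases i
      · exact Or.inr (Or.inl (congrArg M₁.e pt_zero))
      · exact Or.inr (Or.inr (Or.inl rfl))
      · exact Or.inr (Or.inr (Or.inr rfl))

theorem fr (ex : Ex M₁) (t : HttLE.Tn S M₁) :
    HttLE.Fr M₁ M₂ (Tn S M₁) (Pn S M₁) (Vl M₁) (Rl M₁) (0 : Fin 3) where
  htt := htt wr ex t.syl (loc_of wr ex t)
  Ro x := by rw [mem_Rl, pt_zero]
  Ri i := by
    obtain ⟨a, b, hab, h1, -⟩ := pt_du i
    exact ⟨a, b, hab, fun x => by rw [mem_Rl, h1]⟩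
  V_le := Vl_le
  P'_le := le_rfl
  cz _ hx := (mem_cz wr ex).1 hx

/-- **the pure pair** -/
theorem not_ex (t : HttLE.Tn S M₁) : ¬ Ex M₁ := fun ex =>
  HttLE.false_of_fr wr t (fr wr ex t) (a_mem_cz wr ex) (t_mem_cz wr ex)

end Cfsg.Agent.Omega.IId.LFour.Htt

namespace Cfsg.Agent.Omega.IId.LFour

open Subgroup Cfsg Cfsg.Agent.Omega.MinPar
open Cfsg.Agent.Omega.S5.Mod Cfsg.Agent.Omega.S5.TT
open Cfsg.Agent.Omega.Frame

universe u

/-- `HttLE.Tn` from (A) -/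
theorem tn_of_syl {G : Type u} [Group G] [Finite G] {S : Sylow 2 G} {P V₁ V₂ L₁ L₂ : Subgroup G}
    {M₁ : FiveMod V₁ L₁} {M₂ : FiveMod V₂ L₂} (wr : Wr S P M₁ M₂)
    (syl : ¬ 2 ∣ ((S : Subgroup G) ⊓ centralizer ({M₁.e nn} : Set G)).relIndex
      (centralizer ({M₁.e nn} : Set G))) : HttLE.Tn S M₁ where
  syl := syl
  cor g hg := by
    rcases wr.conj_n syl hg with h | h
    · exact Or.inl (mul_inv_eq_iff_eq_mul.1 h)
    · refine Or.inr ⟨h, ?_⟩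
      have e : g * g * M₁.e nn * (g * g)⁻¹ = g * M₁.e aa * g⁻¹ := by
        rw [← h]; group
      rcases wr.conj_n syl (mul_mem hg hg) with h1 | h1
      · rwa [e] at h1
      · exfalso
        rw [e] at h1
        exact Pos.n_ne_a M₁ (mul_left_cancel (mul_right_cancel (h.trans h1.symm)))

theorem jtf_of_sylN (h : SylN.{u}) : JTF.{u} := by
  intro G _ _ S P V₁ V₂ L₁ L₂ M₁ M₂ wr k v w hk hv hw
  by_contra hne
  exact Htt.not_ex wr (tn_of_syl wr (h G S P V₁ V₂ L₁ L₂ M₁ M₂ wr)) ⟨k, hk, w, hw, v, hv, fun h1 => hne h1.symm⟩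

/-- **`SwOne K` from (A).** -/
theorem swOne_of_sylN (h : SylN.{u}) (K : Cls.{u}) : SwOne K := swOne_of h (jtf_of_sylN h) K

end Cfsg.Agent.Omega.IId.LFour
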