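import Cfsg.Agent.Omega.SQ1.Bau
import Cfsg.Agent.Omega.FFMutual
import Cfsg.Agent.ZN.Facts

/-!
# `J(S) ≰ O₂(P)`, `P ∈ P*(S)`, no over-offenders on `V = V_P`: `[Ω₁Z(J(O₂(P))), ⟨J(S)^P⟩] ≤ V`

((0) of helper612 #11397.)  For `A ∈ 𝒜(S)`: `(A ∩ O₂(P)) V ∈ 𝒜(S)`, hence `V ≤ J(S)`, `J(O₂(P)) ≤ J(S)`,
`Z_J = Ω₁Z(J(S)) ≤ Y := Ω₁Z(J(O₂(P)))`, `Y = V C_Y(A)`, `[Y, A] ≤ V`.
-/

set_option autoImplicit false

namespace Cfsg.Agent.Omega.IId.LFour.JPush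

open Subgroup Cfsg Cfsg.Agent.ZN.ChoiceBase
open Cfsg.Agent.ZN (o2 zc jj zj zl)
open Cfsg.Agent.Omega.MinPar Cfsg.Agent.Omega.FFThm
open Cfsg.Agent.PLocal.ElemAbSup (isElementaryAbelian_sup)
open Cfsg.Agent.PLocal.ThompsonJ (isElementaryAbelian_mono)
open Cfsg.Agent.Omega.SQ1.Bau (elem_comm elem_sq mem_sup_comm card_sup_comm mem_AA_of_comm zj_le_AA)

universe u

variable {G : Type u} [Group G] [Finite G] {S : Sylow 2 G} {P A : Subgroup G}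

/-- `C_A(V) = A ∩ O₂(P)` -/
theorem inf_cent (hG : IsCharacteristicTwoType G) (hP : IsParS (S : Subgroup G) P)
    (hA : A ≤ (S : Subgroup G)) :
    A ⊓ centralizer (zl (S : Subgroup G) P : Set G) = A ⊓ o2 P := by
  rw [← IsParS.inf_centralizer S hG hP, ← inf_assoc, inf_eq_left.2 hA]

/-- `O₂(P)` centralises `V` -/
theorem comm_V (hG : IsCharacteristicTwoType G) (hP : IsParS (S : Subgroup G) P) {x v : G}
    (hx : x ∈ o2 P) (hv : v ∈ zl (S : Subgroup G) P) : x * v = v * x :=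
  (mem_zc.1 (hP.isLoc.zl_le S hG hv)).2.2 x hx

theorem V_le (hG : IsCharacteristicTwoType G) (hP : IsParS (S : Subgroup G) P) :
    zl (S : Subgroup G) P ≤ o2 P := fun _ hv => (mem_zc.1 (hP.isLoc.zl_le S hG hv)).1

theorem star_elem (hG : IsCharacteristicTwoType G) (hP : IsParS (S : Subgroup G) P)
    (hA : A ∈ AA (S : Subgroup G)) :
    IsElementaryAbelian 2 (A ⊓ o2 P ⊔ zl (S : Subgroup G) P : Subgroup G) :=
  isElementaryAbelian_sup (isElementaryAbelian_mono hA.1 inf_le_left) (elem_zl hG S hP.isLoc)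
    fun _ hv => mem_centralizer_iff.2 fun _ hx => comm_V hG hP hx.2 hv

theorem star_le (hG : IsCharacteristicTwoType G) (hP : IsParS (S : Subgroup G) P) :
    A ⊓ o2 P ⊔ zl (S : Subgroup G) P ≤ o2 P := sup_le inf_le_right (V_le hG hP)

theorem o2_le_S (hP : IsParS (S : Subgroup G) P) : o2 P ≤ (S : Subgroup G) := hP.isLoc.o2_le S

theorem card_star (hG : IsCharacteristicTwoType G) (hP : IsParS (S : Subgroup G) P) :
    Nat.card ↥(A ⊓ o2 P ⊔ zl (S : Subgroup G) P) * Nat.card ↥(A ⊓ zl (S : Subgroup G) P) =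
      Nat.card ↥(A ⊓ o2 P) * Nat.card (zl (S : Subgroup G) P) := by
  have h1 := card_sup_comm (A := A ⊓ o2 P) (B := zl (S : Subgroup G) P)
    fun x hx v hv => comm_V hG hP hx.2 hv
  have h2 : A ⊓ o2 P ⊓ zl (S : Subgroup G) P = A ⊓ zl (S : Subgroup G) P := by
    rw [inf_assoc, inf_eq_right.2 (V_le hG hP)]
  rwa [h2] at h1

omit [Finite G] in
theorem inf_le (hA : A ∈ AA (S : Subgroup G)) :
    A ⊓ zl (S : Subgroup G) P ≤ zl (S : Subgroup G) P ⊓ centralizer (A : Set G) := by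
  rintro x ⟨h1, h2⟩
  exact ⟨h2, mem_centralizer_iff.2 fun a ha => elem_comm hA.1 a ha x h1⟩

/-- `A ∈ 𝒜(S)`, `A ≰ O₂(P)`, is an offender on `V` -/
theorem off (hG : IsCharacteristicTwoType G) (hP : IsParS (S : Subgroup G) P)
    (hA : A ∈ AA (S : Subgroup G)) (hn : ¬ A ≤ o2 P) : Off (zl (S : Subgroup G) P) A := by
  refine ⟨hA.1, fun h => hn ?_, ?_⟩
  · have h1 := inf_cent hG hP hA.2.1
    rw [inf_eq_left.2 h] at h1
    rw [h1]
    exact inf_le_right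
  · rw [inf_cent hG hP hA.2.1, mul_comm, ← card_star hG hP]
    refine Nat.mul_le_mul ?_ ?_
    · exact hA.2.2 _ (star_elem hG hP hA) ((star_le hG hP).trans (o2_le_S hP))
    · exact card_le_of_le (inf_le hA)

/-- `(A ∩ O₂(P)) V ∈ 𝒜(S)` -/
theorem star_mem (hG : IsCharacteristicTwoType G) (hP : IsParS (S : Subgroup G) P)
    (hno : NoOver (zl (S : Subgroup G) P) P) (hA : A ∈ AA (S : Subgroup G)) :
    A ⊓ o2 P ⊔ zl (S : Subgroup G) P ∈ AA (S : Subgroup G) := by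
  have h1 := hno A (hA.2.1.trans hP.isLoc.le) hA.1
  rw [inf_cent hG hP hA.2.1, mul_comm (Nat.card (zl (S : Subgroup G) P)), ← card_star hG hP] at h1
  have h2 : Nat.card ↥(A ⊓ zl (S : Subgroup G) P) ≤
      Nat.card ↥(zl (S : Subgroup G) P ⊓ centralizer (A : Set G)) := card_le_of_le (inf_le hA)
  have h3 : 0 < Nat.card ↥(zl (S : Subgroup G) P ⊓ centralizer (A : Set G)) := Nat.card_pos
  have h4 : Nat.card A ≤ Nat.card ↥(A ⊓ o2 P ⊔ zl (S : Subgroup G) P) := by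
    refine Nat.le_of_mul_le_mul_right ?_ h3
    exact h1.trans (Nat.mul_le_mul_left _ h2)
  exact ⟨star_elem hG hP hA, (star_le hG hP).trans (o2_le_S hP),
    fun B hB hBS => (hA.2.2 B hB hBS).trans h4⟩

theorem mem_AA_o2 (hP : IsParS (S : Subgroup G) P) {B : Subgroup G}
    (hB : B ∈ AA (S : Subgroup G)) (hle : B ≤ o2 P) : B ∈ AA (o2 P) :=
  ⟨hB.1, hle, fun C hC hCP => hB.2.2 C hC (hCP.trans (o2_le_S hP))⟩

section

variable (hG : IsCharacteristicTwoType G) (hP : IsParS (S : Subgroup G) P)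
  (hno : NoOver (zl (S : Subgroup G) P) P)
include hG hP hno

/-- `V ≤ J(S)` -/
theorem V_le_jj : zl (S : Subgroup G) P ≤ jj (S : Subgroup G) := by
  obtain ⟨A, hA⟩ := AA_nonempty (S : Subgroup G)
  exact le_sup_right.trans (le_jj (star_mem hG hP hno hA))

/-- `J(O₂(P)) ≤ J(S)` -/
theorem jj_o2_le : jj (o2 P) ≤ jj (S : Subgroup G) := by
  obtain ⟨A, hA⟩ := AA_nonempty (S : Subgroup G)
  have h1 := star_mem hG hP hno hA
  refine jj_mono (o2_le_S hP) ?_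
  rw [mm_eq h1]
  exact card_le_mm h1.1 (star_le hG hP)

/-- `Z_J ≤ Y = Ω₁Z(J(O₂(P)))` -/
theorem zj_le : zj (S : Subgroup G) ≤ zj (o2 P) := by
  intro x hx
  obtain ⟨h1, h2, h3⟩ := mem_zj.1 hx
  have hxO : x ∈ o2 P := by
    rw [← IsParS.inf_centralizer S hG hP]
    exact ⟨jj_le _ h1, mem_centralizer_iff.2 fun v hv => h3 v (V_le_jj hG hP hno hv)⟩
  exact Cfsg.Agent.ZN.mem_zj_of_comm hxO h2 fun b hb => h3 b (jj_o2_le hG hP hno hb)

/-- `[Y, A] ≤ V` -/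
theorem comm_mem (hA : A ∈ AA (S : Subgroup G)) {y a : G} (hy : y ∈ zj (o2 P)) (ha : a ∈ A) :
    a * y * a⁻¹ * y⁻¹ ∈ zl (S : Subgroup G) P := by
  have h1 := mem_AA_o2 hP (star_mem hG hP hno hA) (star_le hG hP)
  have h0 : ∀ x ∈ A ⊓ o2 P, ∀ v ∈ zl (S : Subgroup G) P, x * v = v * x :=
    fun x hx v hv => comm_V hG hP hx.2 hv
  obtain ⟨b, hb, v, hv, rfl⟩ := mem_sup_comm h0 (zj_le_AA h1 hy)
  have h2 : a * b = b * a := elem_comm hA.1 a ha b hb.1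
  have h3 : b * v = v * b := comm_V hG hP hb.2 hv
  have haV : a ∈ normalizer (zl (S : Subgroup G) P : Set G) :=
    MinSimple.VModule.le_normalizer_zl _ _ (hP.isLoc.le (hA.2.1 ha))
  have h4 : a * v * a⁻¹ ∈ zl (S : Subgroup G) P := (mem_normalizer_iff.1 haV v).1 hv
  have h5 : b * (a * v * a⁻¹) = (a * v * a⁻¹) * b := comm_V hG hP hb.2 h4
  have e : a * (b * v) * a⁻¹ * (b * v)⁻¹ = (a * v * a⁻¹) * v⁻¹ := by
    calc a * (b * v) * a⁻¹ * (b * v)⁻¹ = (a * b) * v * a⁻¹ * v⁻¹ * b⁻¹ := by group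
      _ = (b * (a * v * a⁻¹)) * v⁻¹ * b⁻¹ := by rw [h2]; group
      _ = (a * v * a⁻¹) * (b * v⁻¹) * b⁻¹ := by rw [h5]; group
      _ = (a * v * a⁻¹) * v⁻¹ := by
        have h6 : b * v⁻¹ = v⁻¹ * b := by
          calc b * v⁻¹ = v⁻¹ * (v * b) * v⁻¹ := by group
            _ = v⁻¹ * (b * v) * v⁻¹ := by rw [h3]
            _ = v⁻¹ * b := by group
        rw [h6]; group
  rw [e]
  exact mul_mem h4 (inv_mem hv)

/-- the elements `g` of `P` with `[Y, g] ≤ V` -/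
def DD (S : Subgroup G) (P : Subgroup G) : Subgroup G where
  carrier := {g | g ∈ P ∧ ∀ y ∈ zj (o2 P), g * y * g⁻¹ * y⁻¹ ∈ zl S P}
  mul_mem' := by
    rintro g h ⟨hg, h1⟩ ⟨hh, h2⟩
    refine ⟨mul_mem hg hh, fun y hy => ?_⟩
    have e : g * h * y * (g * h)⁻¹ * y⁻¹ = g * (h * y * h⁻¹ * y⁻¹) * g⁻¹ * (g * y * g⁻¹ * y⁻¹) := by group
    rw [e]
    exact mul_mem ((mem_normalizer_iff.1 (MinSimple.VModule.le_normalizer_zl _ _ hg) _).1 (h2 y hy)) (h1 y hy)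
  one_mem' := ⟨one_mem _, fun y _ => by
    have e : (1 : G) * y * 1⁻¹ * y⁻¹ = 1 := by group
    rw [e]; exact one_mem _⟩
  inv_mem' := by
    rintro g ⟨hg, h1⟩
    refine ⟨inv_mem hg, fun y hy => ?_⟩
    have e : g⁻¹ * y * g⁻¹⁻¹ * y⁻¹ = g⁻¹ * (g * y * g⁻¹ * y⁻¹)⁻¹ * g⁻¹⁻¹ := by group
    rw [e]
    exact (mem_normalizer_iff.1 (MinSimple.VModule.le_normalizer_zl _ _ (inv_mem hg)) _).1 (inv_mem (h1 y hy))

omit hG hP hno [Finite G] in
theorem mem_DD {g : G} : g ∈ DD (S : Subgroup G) P ↔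
    g ∈ P ∧ ∀ y ∈ zj (o2 P), g * y * g⁻¹ * y⁻¹ ∈ zl (S : Subgroup G) P := Iff.rfl

omit hG hP hno [Finite G] in
theorem le_normalizer_DD : P ≤ normalizer (DD (S : Subgroup G) P : Set G) := by
  have key : ∀ p ∈ P, ∀ g ∈ DD (S : Subgroup G) P, p * g * p⁻¹ ∈ DD (S : Subgroup G) P := by
    rintro p hp g ⟨hg, h1⟩
    refine ⟨mul_mem (mul_mem hp hg) (inv_mem hp), fun y hy => ?_⟩
    have hn : P ≤ normalizer (zj (o2 P) : Set G) :=
      (Cfsg.Agent.ZN.le_normalizer_o2 P).trans (Cfsg.Agent.ZN.normalizer_le_normalizer_zj _)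
    have hy' : p⁻¹ * y * p ∈ zj (o2 P) := by
      have := (mem_normalizer_iff.1 (hn (inv_mem hp)) y).1 hy
      rwa [inv_inv] at this
    have h2 := (mem_normalizer_iff.1 (MinSimple.VModule.le_normalizer_zl (S : Subgroup G) P hp) _).1 (h1 _ hy')
    have e : p * g * p⁻¹ * y * (p * g * p⁻¹)⁻¹ * y⁻¹ =
        p * (g * (p⁻¹ * y * p) * g⁻¹ * (p⁻¹ * y * p)⁻¹) * p⁻¹ := by group
    rw [e]
    exact h2
  intro p hp
  rw [mem_normalizer_iff]
  refine fun g => ⟨key p hp g, fun h => ?_⟩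
  have := key p⁻¹ (inv_mem hp) _ h
  simpa [mul_assoc] using this

/-- `J(S) ≤ {g ∈ P | [Y, g] ≤ V}` -/
theorem jj_le_DD : jj (S : Subgroup G) ≤ DD (S : Subgroup G) P := by
  rw [jj_eq]
  refine sSup_le fun A hA a ha => ?_
  exact ⟨hP.isLoc.le (hA.2.1 ha), fun y hy => comm_mem hG hP hno hA hy ha⟩

/-- **`[Y, g] ≤ V` for `g` in a normal subgroup `N ≥ J(S)` of `P` with `N S = P`.** -/
theorem exists_push (hJ : ¬ jj (S : Subgroup G) ≤ o2 P) : ∃ N : Subgroup G, N ≤ P ∧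
    P ≤ normalizer (N : Set G) ∧ N ⊔ (S : Subgroup G) = P ∧ jj (S : Subgroup G) ≤ N ∧
    ∀ g ∈ N, ∀ y ∈ zj (o2 P), g * y * g⁻¹ * y⁻¹ ∈ zl (S : Subgroup G) P := by
  refine ⟨DD (S : Subgroup G) P, fun g hg => hg.1, le_normalizer_DD, ?_, jj_le_DD hG hP hno,
    fun g hg => hg.2⟩
  rcases IsPar.sup_eq_or_inf_le S hP.toIsPar (N := DD (S : Subgroup G) P) (fun g hg => hg.1)
    le_normalizer_DD with h | h
  · exact h
  · exact absurd ((le_inf (jj_le _) (jj_le_DD hG hP hno)).trans h) hJ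

end

end Cfsg.Agent.Omega.IId.LFour.JPush
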