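import Cfsg.Agent.Omega.IId.LFour.Def
import Cfsg.Agent.Omega.IId.LFour.CenO2
import Cfsg.Agent.Omega.IId.LFour.Fixed
import Cfsg.Agent.ZN.Block

/-!
# The QUARTER LEMMA (project OMEGA, II.d L4; text helper839 #14703 A (2), referee helper430 #15323)

`w : Wr S P M₁ M₂`, `n = M₁.e nn` nonsingular in `V₁`: `V₂ ≤ O₂(C_G(n)) ≤ C_G(V₂)`
(`Wr.quarter`, `Wr.quarter_cent`), no Sylow condition on `C_S(n)`.
-/

set_option autoImplicit false
set_option linter.unusedSectionVars false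

namespace Cfsg.Agent.Omega.IId.LFour

open Subgroup Pointwise Cfsg Cfsg.Agent.ZN Cfsg.Agent.Omega.MinPar Cfsg.Agent.Omega.FFThm
open Cfsg.Agent.ZN.ChoiceBase (cj mem_cj)
open Cfsg.Agent.Omega.S5.Mod Cfsg.Agent.Omega.S5.TT
open Cfsg.Agent.Omega.S5.TT.Pos (na ns as sn n_ne s_ne a_ne n_ne_a n_ne_s a_ne_s e_sq' mem_C)
open Cfsg.Agent.Omega.Half (Amb amb_of_loc)
open Cfsg.Agent.MinSimple.VModule (mem_zc zc_le zc_comm zc_sq zc_le_zl le_normalizer_o2 o2_isPGroup o2_le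
  normalizer_le_normalizer_zc le_normalizer_zl)

universe u

variable {G : Type u} [Group G]

/-! ### Permutations -/

theorem no_normal : ∀ p : Equiv.Perm (Fin 5), p = 1 ∨ ∃ a b : Fin 5,
    p * (Equiv.swap a b * p⁻¹ * (Equiv.swap a b)⁻¹) ≠ 1 ∧
    (p * (Equiv.swap a b * p⁻¹ * (Equiv.swap a b)⁻¹)) ^ 3 = 1 := by
  decide +kernel

theorem ss_comp : ∀ p : Equiv.Perm (Fin 5), p * dd = dd * p → ss ∘ p = ss := by
  decide +kernel

theorem tt_inv : tt⁻¹ = tt := by decide +kernel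

theorem tt_tt : tt * tt = 1 := by decide +kernel

theorem tt_prod : Equiv.swap 0 4 * Equiv.swap 2 4 * Equiv.swap 0 4 * (Equiv.swap 1 4 * Equiv.swap 3 4 *
    Equiv.swap 1 4) = tt := by decide +kernel

/-- a normal 2-subgroup acts trivially -/
theorem le_centralizer_of_normal {V L N : Subgroup G} (M : FiveMod V L) (hN2 : IsPGroup 2 N)
    (hLN : L ≤ normalizer (N : Set G)) (hN : ∀ g ∈ N, ∃ p, M.Ind g p) :
    N ≤ centralizer (V : Set G) := by
  intro g hg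
  obtain ⟨p, hp⟩ := hN g hg
  rcases no_normal p with rfl | ⟨a, b, hr1, hr⟩
  · exact FiveMod.ind_one_iff.1 hp
  · exfalso
    set r := Equiv.swap a b
    obtain ⟨l, hl, hi⟩ := M.exists_lift r
    have hi : M.Ind l r := hi
    have h1 : g * (l * g⁻¹ * l⁻¹) ∈ N :=
      mul_mem hg ((mem_normalizer_iff.1 (hLN hl) _).1 (inv_mem hg))
    have h2 : M.Ind (g * (l * g⁻¹ * l⁻¹)) (p * (r * p⁻¹ * r⁻¹)) := hp.mul ((hi.mul hp.inv).mul hi.inv)
    obtain ⟨k, hk⟩ := hN2 ⟨_, h1⟩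
    have hk' : (g * (l * g⁻¹ * l⁻¹)) ^ (2 ^ k) = 1 := congrArg Subtype.val hk
    have key : ∀ m : ℕ, M.Ind ((g * (l * g⁻¹ * l⁻¹)) ^ m) ((p * (r * p⁻¹ * r⁻¹)) ^ m) := by
      intro m
      induction m with
      | zero => rw [pow_zero, pow_zero]; exact M.ind_one
      | succ m ih => rw [pow_succ, pow_succ]; exact ih.mul h2
    have h3 : (p * (r * p⁻¹ * r⁻¹)) ^ (2 ^ k) = 1 := by
      have h4 := key (2 ^ k)
      rw [hk'] at h4
      exact FiveMod.Ind.unique h4 M.ind_one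
    have h5 : orderOf (p * (r * p⁻¹ * r⁻¹)) ∣ Nat.gcd (2 ^ k) 3 :=
      Nat.dvd_gcd (orderOf_dvd_of_pow_eq_one h3) (orderOf_dvd_of_pow_eq_one hr)
    have h6 : Nat.gcd (2 ^ k) 3 = 1 := Nat.Coprime.pow_left k (by norm_num)
    rw [h6, Nat.dvd_one, orderOf_eq_one_iff] at h5
    exact hr1 h5

/-- two nontrivial elements of a group of order `≤ 2` are equal -/
theorem eq_of_card_le_two [Finite G] {A : Subgroup G} (h : Nat.card A ≤ 2) {a b : G} (ha : a ∈ A)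
    (hb : b ∈ A) (ha1 : a ≠ 1) (hb1 : b ≠ 1) : a = b := by
  classical
  by_contra hne
  have h1 : ({1, a, b} : Set G) ⊆ (A : Set G) := by
    rintro x (rfl | rfl | rfl)
    · exact one_mem _
    · exact ha
    · exact hb
  have h2 := Set.ncard_le_ncard h1 (Set.toFinite _)
  have h3 : ({1, a, b} : Set G).ncard = 3 := by
    rw [Set.ncard_insert_of_notMem, Set.ncard_pair hne]
    rintro (h4 | h4)
    · exact ha1 h4.symm
    · exact hb1 h4.symm
  rw [h3] at h2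
  have h4 : (A : Set G).ncard = Nat.card A := rfl
  omega

namespace Wr

variable {S : Sylow 2 G} {P V₁ V₂ L₁ L₂ : Subgroup G} {M₁ : FiveMod V₁ L₁} {M₂ : FiveMod V₂ L₂}

section fin

variable [Finite G] (wr : Wr S P M₁ M₂)
include wr

theorem L₂_le_C : L₂ ≤ centralizer ({M₁.e nn} : Set G) := fun _ hg =>
  mem_C.2 (wr.L₂_comm hg (M₁.e_mem nn))

theorem T_le_normalizer_L₂ : (S : Subgroup G) ⊓ centralizer ({M₁.e nn} : Set G) ≤
    normalizer (L₂ : Set G) := by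
  intro t ht
  obtain ⟨p, q, -, hp, -⟩ := wr.T_ind ht
  refine MinSimple.VModule.mem_normalizer_of_map_le ?_
  rintro _ ⟨l, hl, rfl⟩
  exact wr.conj_L₂ (wr.S_le ht.1) hp hl

theorem LT_le : L₂ ⊔ ((S : Subgroup G) ⊓ centralizer ({M₁.e nn} : Set G)) ≤
    P ⊓ centralizer ({M₁.e nn} : Set G) :=
  sup_le (le_inf wr.L₂_le wr.L₂_le_C) (inf_le_inf_right _ wr.S_le)

/-- `W₀ = O₂(C(n)) ∩ L₂ T` centralises `V₂` -/
theorem W₀_le : o2 (centralizer ({M₁.e nn} : Set G)) ⊓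
    (L₂ ⊔ ((S : Subgroup G) ⊓ centralizer ({M₁.e nn} : Set G))) ≤ centralizer (V₂ : Set G) := by
  refine le_centralizer_of_normal M₂ ((o2_isPGroup _).to_le inf_le_left) ?_ fun g hg => ?_
  · exact Half.le_normalizer_inf (wr.L₂_le_C.trans (le_normalizer_o2 _))
      ((le_sup_left.trans le_normalizer))
  · have h1 := wr.LT_le hg.2
    obtain ⟨p, q, -, hq⟩ := wr.ind_of_comm h1.1 (M₁.e_mem nn) (n_ne M₁) (mem_C.1 h1.2)
    exact ⟨q, hq⟩

theorem TW_isPGroup : IsPGroup 2 ((S : Subgroup G) ⊓ centralizer ({M₁.e nn} : Set G) ⊔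
    o2 (centralizer ({M₁.e nn} : Set G)) : Subgroup G) :=
  (S.isPGroup'.to_le inf_le_left).to_sup_of_normal_right' (o2_isPGroup _)
    (inf_le_right.trans (le_normalizer_o2 _))

theorem card_TW : Nat.card ((S : Subgroup G) ⊓ centralizer ({M₁.e nn} : Set G) ⊔
    o2 (centralizer ({M₁.e nn} : Set G)) : Subgroup G) *
    Nat.card ((S : Subgroup G) ⊓ centralizer ({M₁.e nn} : Set G) ⊓
      o2 (centralizer ({M₁.e nn} : Set G)) : Subgroup G) =
    Nat.card ((S : Subgroup G) ⊓ centralizer ({M₁.e nn} : Set G) : Subgroup G) *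
      Nat.card (o2 (centralizer ({M₁.e nn} : Set G))) :=
  Block.card_sup_mul_card_inf (inf_le_right.trans (le_normalizer_o2 _))

theorem card_W : Nat.card (o2 (centralizer ({M₁.e nn} : Set G))) ≤
    4 * Nat.card ((S : Subgroup G) ⊓ centralizer ({M₁.e nn} : Set G) ⊓
      o2 (centralizer ({M₁.e nn} : Set G)) : Subgroup G) := by
  have h1 := wr.card_TW
  have h2 := Half.card_le_sylow S wr.TW_isPGroup
  rw [wr.card_T] at h2
  have h3 : Nat.card ((S : Subgroup G) ⊓ centralizer ({M₁.e nn} : Set G) : Subgroup G) *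
      Nat.card (o2 (centralizer ({M₁.e nn} : Set G))) ≤
      Nat.card ((S : Subgroup G) ⊓ centralizer ({M₁.e nn} : Set G) : Subgroup G) *
        (4 * Nat.card ((S : Subgroup G) ⊓ centralizer ({M₁.e nn} : Set G) ⊓
      o2 (centralizer ({M₁.e nn} : Set G)) : Subgroup G)) := by
    rw [← h1]
    calc _ ≤ 4 * Nat.card ((S : Subgroup G) ⊓ centralizer ({M₁.e nn} : Set G) : Subgroup G) * _ :=
          Nat.mul_le_mul_right _ h2
      _ = _ := by ring
  exact Nat.le_of_mul_le_mul_left h3 Nat.card_pos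

theorem qd : QD M₂ (o2 (centralizer ({M₁.e nn} : Set G))) (o2 (centralizer ({M₁.e nn} : Set G)) ⊓
    (L₂ ⊔ ((S : Subgroup G) ⊓ centralizer ({M₁.e nn} : Set G)))) where
  VL := wr.V₂_le_L₂
  LW := wr.L₂_le_C.trans (le_normalizer_o2 _)
  W₀W := inf_le_left
  L0 := Half.le_normalizer_inf (wr.L₂_le_C.trans (le_normalizer_o2 _)) ((le_sup_left.trans le_normalizer))
  W₀V := wr.W₀_le
  card := by
    refine wr.card_W.trans (Nat.mul_le_mul_left _ ?_)
    exact Subgroup.card_le_of_le (le_inf inf_le_right (inf_le_left.trans le_sup_right))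

theorem V₂_le_T : V₂ ≤ (S : Subgroup G) ⊓ centralizer ({M₁.e nn} : Set G) :=
  le_inf wr.V₂_le_S (wr.V₂_le_L₂.trans wr.L₂_le_C)

theorem n_mem_T : M₁.e nn ∈ (S : Subgroup G) ⊓ centralizer ({M₁.e nn} : Set G) :=
  ⟨wr.V₁_le_S (M₁.e_mem nn), mem_C.2 rfl⟩

theorem card_zS : Nat.card (zc (S : Subgroup G)) ≤ 2 := by
  have h1 : ((zc (S : Subgroup G) : Subgroup G) : Set G) ⊆ ({1, M₁.e ss * M₂.e ss} : Set G) := fun x hx =>
    wr.zS_le hx
  have h2 := Set.ncard_le_ncard h1 (Set.toFinite _)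
  have h3 : ({1, M₁.e ss * M₂.e ss} : Set G).ncard ≤ 2 := Set.ncard_insert_le _ _ |>.trans (by
    rw [Set.ncard_singleton])
  exact h2.trans h3

theorem T_twist : ∀ t ∈ (S : Subgroup G) ⊓ centralizer ({M₁.e nn} : Set G), ∃ q, M₂.Ind t q ∧
    ss ∘ q = ss := by
  intro t ht
  obtain ⟨p, q, -, -, hq⟩ := wr.T_ind ht
  exact ⟨q, hq, ss_comp q (wr.symm.dS wr.S_le ht.1 hq)⟩

theorem T_norm_W₀ : (S : Subgroup G) ⊓ centralizer ({M₁.e nn} : Set G) ≤ normalizer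
    ((o2 (centralizer ({M₁.e nn} : Set G)) ⊓
    (L₂ ⊔ ((S : Subgroup G) ⊓ centralizer ({M₁.e nn} : Set G))) : Subgroup G) : Set G) :=
  Half.le_normalizer_inf (inf_le_right.trans (le_normalizer_o2 _)) (le_sup_right.trans le_normalizer)

/-- `T W` is not a Sylow 2-subgroup of `G` -/
theorem card_TW_ne : Nat.card ((S : Subgroup G) ⊓ centralizer ({M₁.e nn} : Set G) ⊔
    o2 (centralizer ({M₁.e nn} : Set G)) : Subgroup G) ≠ Nat.card (S : Subgroup G) := by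
  intro h0
  set T := (S : Subgroup G) ⊓ centralizer ({M₁.e nn} : Set G) with hT
  set W := o2 (centralizer ({M₁.e nn} : Set G)) with hW
  obtain ⟨c, hc, hcU, hc1, hcT⟩ := wr.qd.exists_fixed_hom wr.TW_isPGroup wr.T_le_normalizer_L₂
    (inf_le_right.trans (le_normalizer_o2 _)) wr.T_norm_W₀ wr.T_twist
  have hUT : QD.UU M₂ W ≤ T ⊔ W := by
    rw [QD.UU, closure_le]
    rintro _ ⟨v, hv, x, rfl⟩
    have h1 : v ∈ T ⊔ W := (le_sup_right : W ≤ T ⊔ W) hv
    have h2 : M₂.e x ∈ T ⊔ W := (le_sup_left : T ≤ T ⊔ W) (wr.V₂_le_T (M₂.e_mem x))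
    exact mul_mem (mul_mem h1 h2) (inv_mem h1)
  have hcz : c ss ∈ zc (T ⊔ W) := mem_zc.2 ⟨hUT (hcU ss), fun y hy => hcT y hy, by
    rw [pow_two]; exact hc.sq ss⟩
  have hTC : T ⊔ W ≤ centralizer ({M₁.e nn} : Set G) := sup_le inf_le_right (o2_le _)
  have hnz : M₁.e nn ∈ zc (T ⊔ W) := mem_zc.2 ⟨(le_sup_left : T ≤ T ⊔ W) wr.n_mem_T, fun y hy =>
    mem_C.1 (hTC hy), e_sq' M₁ nn⟩
  have hz2 : Nat.card (zc (T ⊔ W)) ≤ 2 := by
    rw [Half.card_zc_of_card_eq S wr.TW_isPGroup h0]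
    exact wr.card_zS
  have hcn := eq_of_card_le_two hz2 hcz hnz hc1 (n_ne M₁)
  obtain ⟨g, hg, hi⟩ := wr.qd.exists_five
  apply hc1
  refine hc.eq_one_of_fixed hg hi ?_
  rw [hcn]
  exact mem_C.1 (wr.L₂_le_C (Ker_le hg))

/-- `|T W| ≤ 2 |T|` -/
theorem card_TW_le : Nat.card ((S : Subgroup G) ⊓ centralizer ({M₁.e nn} : Set G) ⊔
    o2 (centralizer ({M₁.e nn} : Set G)) : Subgroup G) ≤
    2 * Nat.card ((S : Subgroup G) ⊓ centralizer ({M₁.e nn} : Set G) : Subgroup G) := by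
  have h1 := Half.card_le_sylow S wr.TW_isPGroup
  have h2 := wr.card_TW_ne
  have h3 := wr.card_T
  obtain ⟨a, ha⟩ := IsPGroup.iff_card.1 wr.TW_isPGroup
  obtain ⟨b, hb⟩ := IsPGroup.iff_card.1 S.isPGroup'
  rw [ha, hb] at h1 h2
  rw [hb] at h3
  rw [ha]
  have h4 : a < b := by
    rcases lt_trichotomy a b with h | h | h
    · exact h
    · exact absurd (by rw [h]) h2
    · exact absurd ((Nat.pow_le_pow_iff_right (by norm_num : 1 < 2)).1 h1) (by omega)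
  have h5 : 2 ^ (a + 1) ≤ 2 ^ b := Nat.pow_le_pow_right (by norm_num) h4
  rw [pow_succ] at h5
  omega

theorem o2P_le_T : o2 P ≤ (S : Subgroup G) ⊓ centralizer ({M₁.e nn} : Set G) := by
  intro x hx
  rw [← IsParS.inf_centralizer S wr.hG wr.star] at hx
  refine ⟨hx.1, mem_C.2 ?_⟩
  exact (mem_centralizer_iff.1 hx.2 _ (wr.V₁_le (M₁.e_mem nn))).symm

/-- `[L₁, L₂]` centralises `Ω₁(Z(O₂(P)))` -/
theorem comm_LL {x g y : G} (hx : x ∈ L₁) (hg : g ∈ L₂) (hy : y ∈ zc (o2 P)) :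
    x⁻¹ * (g * x * g⁻¹) * y = y * (x⁻¹ * (g * x * g⁻¹)) := by
  obtain ⟨q, hq⟩ := M₂.exists_ind hg
  obtain ⟨p, hp⟩ := M₁.exists_ind hx
  have hq : M₂.Ind g q := hq
  have hp : M₁.Ind x p := hp
  have h1 : x⁻¹ * (g * x * g⁻¹) ∈ L₁ := mul_mem (inv_mem hx) (wr.conj_L₁ (wr.L₂_le hg) hq hx)
  have h2 : x⁻¹ * (g * x * g⁻¹) ∈ L₂ := by
    have h3 := mul_mem (wr.conj_L₂ (wr.L₁_le (inv_mem hx)) hp.inv hg) (inv_mem hg)
    have e : x⁻¹ * g * x⁻¹⁻¹ * g⁻¹ = x⁻¹ * (g * x * g⁻¹) := by group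
    rwa [e] at h3
  have h3 : x⁻¹ * (g * x * g⁻¹) ∈ P ⊓ centralizer (zl (S : Subgroup G) P : Set G) := by
    refine ⟨wr.L₁_le h1, ?_⟩
    rw [wr.sup]
    have h4 : V₁ ⊔ V₂ ≤ centralizer ({x⁻¹ * (g * x * g⁻¹)} : Set G) :=
      sup_le (fun v hv => mem_C.2 (wr.L₂_comm h2 hv).symm) fun v hv => mem_C.2 (wr.L₁_comm h1 hv).symm
    exact mem_centralizer_iff.2 fun v hv => mem_C.1 (h4 hv)
  exact (mem_centralizer_iff.1 (le_centralizer_zc_o2 wr.hG S wr.star h3) _ hy).symm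

/-- **The contradiction.** -/
theorem quarter_false {w : G} (hw : w ∈ o2 (centralizer ({M₁.e nn} : Set G)))
    (hwV : ¬ ∀ v ∈ V₂, w * v = v * w)
    (hwT : ∀ t ∈ (S : Subgroup G) ⊓ centralizer ({M₁.e nn} : Set G),
      w⁻¹ * t * w ∈ (S : Subgroup G) ⊓ centralizer ({M₁.e nn} : Set G))
    (hwT' : ∀ t ∈ (S : Subgroup G) ⊓ centralizer ({M₁.e nn} : Set G),
      w * t * w⁻¹ ∈ (S : Subgroup G) ⊓ centralizer ({M₁.e nn} : Set G))
    (htwo : ∀ a ∈ o2 (centralizer ({M₁.e nn} : Set G)),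
      a ∉ (S : Subgroup G) ⊓ centralizer ({M₁.e nn} : Set G) →
      w⁻¹ * a ∈ (S : Subgroup G) ⊓ centralizer ({M₁.e nn} : Set G)) : False := by
  set T := (S : Subgroup G) ⊓ centralizer ({M₁.e nn} : Set G) with hT
  set W := o2 (centralizer ({M₁.e nn} : Set G)) with hW
  set K := Ker L₂ W (W ⊓ (L₂ ⊔ T)) with hK
  have qd : QD M₂ W (W ⊓ (L₂ ⊔ T)) := wr.qd
  obtain ⟨g, hg, hi⟩ := qd.exists_five
  have hgL : g ∈ L₂ := Ker_le hg
  have hWTc : ∀ k ∈ W, k ∈ T → ∀ v ∈ V₂, k * v = v * k := fun k hk hkT v hv =>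
    (mem_centralizer_iff.1 (wr.W₀_le (⟨hk, (le_sup_right : T ≤ L₂ ⊔ T) hkT⟩ :
      k ∈ W ⊓ (L₂ ⊔ T))) v hv).symm
  have hc := qd.hom_conj hw
  set c : Vec → G := fun x => w * M₂.e x * w⁻¹ with hcdef
  -- `y`
  set y := w * M₂.e ss * w⁻¹ with hy
  have hcy : c ss = y := rfl
  have hyy : y * y = 1 := hc.sq ss
  have hyT : y ∈ T := hwT' _ (wr.V₂_le_T (M₂.e_mem ss))
  have hyc : ∀ t ∈ T, t * y = y * t := by
    intro t ht
    have h1 := wr.T_comm_s₂ (hwT t ht)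
    calc t * y = w * ((w⁻¹ * t * w) * M₂.e ss) * w⁻¹ := by rw [hy]; group
      _ = w * (M₂.e ss * (w⁻¹ * t * w)) * w⁻¹ := by rw [h1]
      _ = y * t := by rw [hy]; group
  have hyP : y ∈ zc (o2 P) := by
    have h1 : y ∈ o2 P := wr.star.isLoc.char2 S wr.hG ⟨wr.S_le hyT.1, mem_centralizer_iff.2 fun t ht =>
      hyc t (wr.o2P_le_T ht)⟩
    exact mem_zc.2 ⟨h1, fun t ht => hyc t (wr.o2P_le_T ht), by rw [pow_two]; exact hyy⟩
  have hPn : P ≤ normalizer (zc (o2 P) : Set G) := (le_normalizer_o2 P).trans (normalizer_le_normalizer_zc _)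
  have hcP : ∀ x, c x ∈ zc (o2 P) := hc.mem_of_mem hg hi
    (fun u hu => (mem_normalizer_iff.1 (hPn (wr.L₂_le hgL)) u).1 hu) ss_ne.1 ss_ne.2 hyP
  -- `x`
  obtain ⟨x, hx, hxi⟩ := wr.exists_x
  have hxP : x ∈ P := wr.S_le hx.1
  have hxc : ∀ z, x * c z * x⁻¹ ∈ zc (o2 P) := fun z => (mem_normalizer_iff.1 (hPn hxP) _).1 (hcP z)
  have hc' : Hom5 M₂ K fun z => x * c z * x⁻¹ :=
    hc.conj fun l hl z => wr.comm_LL hx.2 (Ker_le hl) (hcP z)
  have hf : Hom5 M₂ K fun z => c z * (x * c z * x⁻¹) :=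
    hc.mul hc' fun z z' => zc_comm _ _ (hcP z) _ (hxc z')
  have hVK := qd.V_le_Ker
  have hg1 : ∀ v ∈ V₁, g * v = v * g := fun v hv => wr.L₂_comm hgL hv
  have hs2 : M₂.e ss * M₂.e ss = 1 := M₂.e_sq ss
  -- the product of an equivariant map with the identity
  have hprod : ∀ {d : Vec → G}, Hom5 M₂ K d → Hom5 M₂ K fun z => d z * M₂.e z := fun hd =>
    hd.mul (Hom5.base _ _) fun z z' => (hd.comm_of_mem (hVK (M₂.e_mem z')) (M₂.e_mem z') z).symm
  have hno₁ : ∀ {d : Vec → G}, Hom5 M₂ K d → d ss ≠ M₁.e ss := by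
    intro d hd h1
    have h2 := hd.eq_one_of_fixed hg hi (x := ss) (by rw [h1]; exact hg1 _ (M₁.e_mem ss))
    rw [h1] at h2
    exact s_ne M₁ h2
  have hno₂ : ∀ {d : Vec → G}, Hom5 M₂ K d → d ss ≠ M₁.e ss * M₂.e ss := by
    intro d hd h1
    refine hno₁ (hprod hd) ?_
    rw [h1, mul_assoc, hs2, mul_one]
  have hyno : y = 1 ∨ y = M₁.e ss ∨ y = M₂.e ss ∨ y = M₁.e ss * M₂.e ss → False := by
    rintro (h1 | h1 | h1 | h1)
    · rw [hy, mul_inv_eq_one, mul_eq_left] at h1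
      exact s_ne M₂ h1
    · exact hno₁ hc h1
    · apply hwV
      intro v hv
      obtain ⟨z, rfl⟩ := (M₂.mem_iff v).1 hv
      have h2 := (hprod hc).eq_one_of_eq_one hg hi ss_ne.1 ss_ne.2 (x := ss) (by
        change y * M₂.e ss = 1
        rw [h1, hs2]) z
      have h3 : w * M₂.e z * w⁻¹ = M₂.e z := by
        have h4 := eq_inv_of_mul_eq_one_left h2
        rw [M₂.e_inv] at h4
        exact h4
      rwa [mul_inv_eq_iff_eq_mul] at h3
    · exact hno₂ hc h1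
  -- `S₁`
  have hxx : x * x ∈ T := mem_T_of_ind (mul_mem hx.1 hx.1) (Or.inl rfl) (by
    have := hxi.mul hxi
    rwa [tt_tt] at this)
  have hxi' : M₁.Ind x⁻¹ tt := by
    have := hxi.inv
    rwa [tt_inv] at this
  have hyc' : ∀ t ∈ T, t * (x * y * x⁻¹) = x * y * x⁻¹ * t := by
    intro t ht
    have h1 := hyc _ (wr.conj_T (inv_mem hx.1) hxi' ht)
    rw [inv_inv] at h1
    calc t * (x * y * x⁻¹) = x * ((x⁻¹ * t * x) * y) * x⁻¹ := by group
      _ = x * (y * (x⁻¹ * t * x)) * x⁻¹ := by rw [h1]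
      _ = x * y * x⁻¹ * t := by group
  have hTS : T ≤ (S : Subgroup G) ⊓ normalizer (V₁ : Set G) := wr.T_le
  have hxyT : x * y * x⁻¹ ∈ T := wr.conj_T hx.1 hxi hyT
  have hyxy : y * (x * y * x⁻¹) = x * y * x⁻¹ * y := hyc' y hyT
  have hmk : ∀ {u : G}, u ∈ T → (∀ t ∈ T, t * u = u * t) → x * u = u * x → u * u = 1 →
      u = 1 ∨ u = M₁.e ss ∨ u = M₂.e ss ∨ u = M₁.e ss * M₂.e ss := by
    intro u hu hut hux huu
    refine wr.zS₁_le (mem_zc.2 ⟨hTS hu, fun b hb => ?_, by rw [pow_two]; exact huu⟩)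
    rcases wr.mem_or₁ hx.1 hxi hb with h1 | h1
    · exact hut b h1
    · have h2 := hut _ h1
      have h3 : b * u * x = u * b * x := by
        calc b * u * x = b * (u * x) := by group
          _ = b * x * u := by rw [← hux]; group
          _ = u * (b * x) := h2
          _ = u * b * x := by group
      exact mul_right_cancel h3
  set δ := y * (x * y * x⁻¹) with hδ
  have hδT : δ ∈ T := mul_mem hyT hxyT
  have hδc : ∀ t ∈ T, t * δ = δ * t := by
    intro t ht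
    calc t * δ = (t * y) * (x * y * x⁻¹) := by rw [hδ]; group
      _ = y * (t * (x * y * x⁻¹)) := by rw [hyc t ht]; group
      _ = δ * t := by rw [hyc' t ht, hδ]; group
  have hδx : x * δ = δ * x := by
    have h1 := hyc _ hxx
    calc x * δ = (x * y * x⁻¹) * ((x * x) * y) * x⁻¹ := by rw [hδ]; group
      _ = (x * y * x⁻¹ * y) * x := by rw [h1]; group
      _ = δ * x := by rw [← hyxy]
  have hδδ : δ * δ = 1 := by
    calc δ * δ = y * ((x * y * x⁻¹) * y) * (x * y * x⁻¹) := by rw [hδ]; group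
      _ = (y * y) * (x * (y * y) * x⁻¹) := by rw [← hyxy, hδ]; group
      _ = 1 := by rw [hyy]; group
  rcases hmk hδT hδc hδx hδδ with h1 | h1 | h1 | h1
  · -- `δ = 1`
    refine hyno (hmk hyT hyc ?_ hyy)
    have h2 : x * y * x⁻¹ = y := by
      have h3 := eq_inv_of_mul_eq_one_right h1
      rw [h3]
      exact inv_eq_of_mul_eq_one_left hyy
    rwa [mul_inv_eq_iff_eq_mul] at h2
  · exact hno₁ hf h1
  · -- `δ = σ₂`
    have h2 : x * y * x⁻¹ = y * M₂.e ss := by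
      calc x * y * x⁻¹ = (y * y) * (x * y * x⁻¹) := by rw [hyy, one_mul]
        _ = y * δ := by rw [hδ]; group
        _ = y * M₂.e ss := by rw [h1]
    have hln : ∀ l ∈ L₁, l * M₁.e nn = M₁.e nn * l → l * y = y * l := by
      intro l hl hln
      have hlC : l ∈ centralizer ({M₁.e nn} : Set G) := mem_C.2 hln
      have h3 : l * w * l⁻¹ ∈ W := (mem_normalizer_iff.1 (le_normalizer_o2 _ hlC) w).1 hw
      have h4 : l * w * l⁻¹ ∉ T := by
        intro h5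
        apply hwV
        intro v hv
        have h6 := hWTc _ h3 h5 v hv
        have h7 := wr.L₁_comm hl hv
        have h8 : l⁻¹ * v = v * l⁻¹ := wr.L₁_comm (inv_mem hl) hv
        calc w * v = l⁻¹ * (l * w * l⁻¹) * (l * v) := by group
          _ = l⁻¹ * ((l * w * l⁻¹) * v) * l := by rw [h7]; group
          _ = (l⁻¹ * v) * (l * w * l⁻¹) * l := by rw [h6]; group
          _ = v * w := by rw [h8]; group
      have h5 := htwo _ h3 h4
      have h6 := hWTc _ (mul_mem (inv_mem hw) h3) h5 _ (M₂.e_mem ss)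
      have h7 := wr.L₁_comm hl (M₂.e_mem ss)
      have h8 : l * y * l⁻¹ = y := by
        calc l * y * l⁻¹ = (l * w * l⁻¹) * ((l * M₂.e ss) * l⁻¹) * (l * w * l⁻¹)⁻¹ := by rw [hy]; group
          _ = w * ((w⁻¹ * (l * w * l⁻¹)) * M₂.e ss) * (l * w * l⁻¹)⁻¹ := by rw [h7]; group
          _ = w * (M₂.e ss * (w⁻¹ * (l * w * l⁻¹))) * (l * w * l⁻¹)⁻¹ := by rw [h6]
          _ = y := by rw [hy]; group
      rwa [mul_inv_eq_iff_eq_mul] at h8
    have hla : ∀ l ∈ L₁, l * M₁.e aa = M₁.e aa * l → l * y = y * l := by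
      intro l hl hla
      have h3 : x⁻¹ * l * x ∈ L₁ := mul_mem (mul_mem (inv_mem hx.2) hl) hx.2
      have h4 : x⁻¹ * l * x * M₁.e nn = M₁.e nn * (x⁻¹ * l * x) := by
        have h5 := tt_n hxi
        calc x⁻¹ * l * x * M₁.e nn = x⁻¹ * (l * (x * M₁.e nn * x⁻¹)) * x := by group
          _ = x⁻¹ * ((x * M₁.e nn * x⁻¹) * l) * x := by rw [h5, hla]
          _ = M₁.e nn * (x⁻¹ * l * x) := by group
      have h5 := hln _ h3 h4
      have h6 : l * (y * M₂.e ss) = y * M₂.e ss * l := by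
        rw [← h2]
        calc l * (x * y * x⁻¹) = x * ((x⁻¹ * l * x) * y) * x⁻¹ := by group
          _ = x * (y * (x⁻¹ * l * x)) * x⁻¹ := by rw [h5]
          _ = x * y * x⁻¹ * l := by group
      have h7 := wr.L₁_comm hl (M₂.e_mem ss)
      have h8 : l * y * M₂.e ss = y * l * M₂.e ss := by
        calc l * y * M₂.e ss = l * (y * M₂.e ss) := by group
          _ = y * (M₂.e ss * l) := by rw [h6]; group
          _ = y * l * M₂.e ss := by rw [← h7]; group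
      exact mul_right_cancel h8
    -- `x` commutes with `y`
    set D := L₁ ⊓ centralizer ({y} : Set G) with hD
    have hlift : ∀ p : Equiv.Perm (Fin 5), nn ∘ p.symm = nn ∨ aa ∘ p.symm = aa →
        ∃ l ∈ D, M₁.Ind l p := by
      intro p hp
      obtain ⟨l, hl, hli⟩ := M₁.exists_lift p
      have hli : M₁.Ind l p := hli
      refine ⟨l, ⟨hl, mem_C.2 ?_⟩, hli⟩
      rcases hp with hp | hp
      · exact hln l hl ((hli.commute_iff _).2 (Or.inl hp))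
      · exact hla l hl ((hli.commute_iff _).2 (Or.inl hp))
    obtain ⟨l₁, hl₁, i₁⟩ := hlift (Equiv.swap 0 4) (by decide)
    obtain ⟨l₂, hl₂, i₂⟩ := hlift (Equiv.swap 2 4) (by decide)
    obtain ⟨l₃, hl₃, i₃⟩ := hlift (Equiv.swap 1 4) (by decide)
    obtain ⟨l₄, hl₄, i₄⟩ := hlift (Equiv.swap 3 4) (by decide)
    have hmD : l₁ * l₂ * l₁ * (l₃ * l₄ * l₃) ∈ D :=
      mul_mem (mul_mem (mul_mem hl₁ hl₂) hl₁) (mul_mem (mul_mem hl₃ hl₄) hl₃)
    have hmi : M₁.Ind (l₁ * l₂ * l₁ * (l₃ * l₄ * l₃)) tt := by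
      have := ((i₁.mul i₂).mul i₁).mul ((i₃.mul i₄).mul i₃)
      rwa [tt_prod] at this
    set m := l₁ * l₂ * l₁ * (l₃ * l₄ * l₃) with hm
    have h3 : M₁.Ind (m⁻¹ * x) 1 := by
      have := hmi.inv.mul hxi
      rwa [tt_inv, tt_tt] at this
    have h4 : m⁻¹ * x ∈ L₁ := mul_mem (inv_mem hmD.1) hx.2
    have h5 := hln _ h4 ((h3.commute_iff _).2 (Or.inl rfl))
    have h6 : m * y = y * m := mem_C.1 hmD.2
    have h7 : x * y = y * x := by
      calc x * y = m * ((m⁻¹ * x) * y) := by group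
        _ = m * y * (m⁻¹ * x) := by rw [h5]; group
        _ = y * x := by rw [h6]; group
    rw [h7, mul_inv_cancel_right] at h2
    exact s_ne M₂ (left_eq_mul.1 h2)
  · exact hno₂ hf h1

/-- **QUARTER LEMMA**: `O₂(C_G(n)) ≤ C_G(V₂)`. -/
theorem quarter_cent : o2 (centralizer ({M₁.e nn} : Set G)) ≤ centralizer (V₂ : Set G) := by
  set T := (S : Subgroup G) ⊓ centralizer ({M₁.e nn} : Set G) with hT
  set W := o2 (centralizer ({M₁.e nn} : Set G)) with hW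
  by_contra hne
  obtain ⟨w, hw, hwV⟩ := SetLike.not_le_iff_exists.mp hne
  have hWTc : ∀ k ∈ W, k ∈ T → k ∈ centralizer (V₂ : Set G) := fun k hk hkT =>
    wr.W₀_le (⟨hk, (le_sup_right : T ≤ L₂ ⊔ T) hkT⟩ : k ∈ W ⊓ (L₂ ⊔ T))
  have hwT : w ∉ T := fun h => hwV (hWTc w hw h)
  -- `T` has index two in `T W`
  have h1 : Nat.card T * T.relIndex (T ⊔ W) = Nat.card (T ⊔ W : Subgroup G) :=
    Half.card_mul_relIndex le_sup_left
  have h2 : Nat.card (T ⊔ W : Subgroup G) ≤ 2 * Nat.card T := wr.card_TW_le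
  have hwTW : w ∈ T ⊔ W := (le_sup_right : W ≤ T ⊔ W) hw
  have h3 : T.relIndex (T ⊔ W) = 2 := by
    have h4 : T.relIndex (T ⊔ W) ≠ 1 := fun h => hwT ((relIndex_eq_one.1 h) hwTW)
    have h5 : T.relIndex (T ⊔ W) ≠ 0 := fun h => by
      rw [h, mul_zero] at h1
      exact Nat.card_pos.ne h1
    have h6 : T.relIndex (T ⊔ W) ≤ 2 := by
      by_contra h
      push Not at h
      have h7 : 2 * Nat.card T < Nat.card T * T.relIndex (T ⊔ W) := by
        rw [mul_comm]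
        exact Nat.mul_lt_mul_of_pos_left h Nat.card_pos
      omega
    omega
  have h4 : (T.subgroupOf (T ⊔ W)).index = 2 := h3
  have hnor := normal_of_index_eq_two h4
  have key : ∀ b ∈ T ⊔ W, ∀ t ∈ T, b * t * b⁻¹ ∈ T := by
    intro b hb t ht
    have h5 := hnor.conj_mem (⟨t, (le_sup_left : T ≤ T ⊔ W) ht⟩ : (T ⊔ W : Subgroup G))
      (mem_subgroupOf.2 ht) ⟨b, hb⟩
    exact mem_subgroupOf.1 h5
  refine wr.quarter_false hw (fun h => hwV (mem_centralizer_iff.2 fun v hv => (h v hv).symm)) ?_ ?_ ?_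
  · intro t ht
    have := key w⁻¹ (inv_mem hwTW) t ht
    rwa [inv_inv] at this
  · exact key w hwTW
  · intro a ha haT
    have haTW : a ∈ T ⊔ W := (le_sup_right : W ≤ T ⊔ W) ha
    have h5 := mul_mem_iff_of_index_two h4 (a := (⟨w, hwTW⟩ : (T ⊔ W : Subgroup G))⁻¹) (b := ⟨a, haTW⟩)
    rw [inv_mem_iff] at h5
    have h6 := h5.mpr (iff_of_false (fun h => hwT (mem_subgroupOf.mp h)) (fun h => haT (mem_subgroupOf.mp h)))
    exact mem_subgroupOf.mp h6

/-- **QUARTER LEMMA**: `V₂ ≤ O₂(C_G(n))`. -/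
theorem quarter : V₂ ≤ o2 (centralizer ({M₁.e nn} : Set G)) := by
  intro v hv
  refine le_o2_of_comm wr.hG (e_sq' M₁ nn) (n_ne M₁) (wr.comm (M₁.e_mem nn) hv).symm fun q hq => Or.inl ?_
  have h1 := mem_centralizer_iff.1 (wr.quarter_cent hq) v hv
  rw [h1]
  group

end fin

end Wr

end Cfsg.Agent.Omega.IId.LFour
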