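import Mathlib

/-!
# Involutions of `GL₃(2)` (helper774)

Linear maps of `F₂³` as triples of images of the standard basis; the transvection `x` interchanging `e₀` and
`e₁`; the involutions `m` with `(x m)³ = 1` (by `decide`); conjugate involutions have a product of odd order.
-/

set_option autoImplicit false
set_option linter.unusedSectionVars false

namespace Cfsg.Agent.Omega.IId.LFour.ThreeLin

/-- the vectors -/
abbrev V3 := ZMod 2 × ZMod 2 × ZMod 2

/-- linear maps: the images of the basis -/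
abbrev M3 := V3 × V3 × V3

/-- the value -/
def lin (t : M3) (v : V3) : V3 :=
  (v.1 * t.1.1 + v.2.1 * t.2.1.1 + v.2.2 * t.2.2.1,
   v.1 * t.1.2.1 + v.2.1 * t.2.1.2.1 + v.2.2 * t.2.2.2.1,
   v.1 * t.1.2.2 + v.2.1 * t.2.1.2.2 + v.2.2 * t.2.2.2.2)

/-- composition -/
def comp (t u : M3) : M3 := (lin t u.1, lin t u.2.1, lin t u.2.2)

def e0 : V3 := (1, 0, 0)
def e1 : V3 := (0, 1, 0)
def e2 : V3 := (0, 0, 1)

/-- the identity -/
def idt : M3 := (e0, e1, e2)

/-- interchange `e₀`, `e₁` -/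
def xt : M3 := (e1, e0, e2)

theorem lin_comp (t u : M3) (v : V3) : lin (comp t u) v = lin t (lin u v) := by
  simp only [lin, comp, Prod.mk.injEq]
  refine ⟨by ring, by ring, by ring⟩

theorem lin_idt (v : V3) : lin idt v = v := by
  simp [lin, idt, e0, e1, e2]

theorem lin_e0 (t : M3) : lin t e0 = t.1 := by simp [lin, e0]
theorem lin_e1 (t : M3) : lin t e1 = t.2.1 := by simp [lin, e1]
theorem lin_e2 (t : M3) : lin t e2 = t.2.2 := by simp [lin, e2]

theorem lin_add (t : M3) (u v : V3) : lin t (u + v) = lin t u + lin t v := by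
  simp only [lin, Prod.fst_add, Prod.snd_add, Prod.mk_add_mk, Prod.mk.injEq]
  refine ⟨by ring, by ring, by ring⟩

theorem ext_lin {t u : M3} (h : ∀ v, lin t v = lin u v) : t = u := by
  have h0 := h e0
  have h1 := h e1
  have h2 := h e2
  rw [lin_e0, lin_e0] at h0
  rw [lin_e1, lin_e1] at h1
  rw [lin_e2, lin_e2] at h2
  exact Prod.ext h0 (Prod.ext h1 h2)

/-- third power -/
def p3 (t : M3) : M3 := comp t (comp t t)

/-- twelfth power -/
def p12 (t : M3) : M3 := comp (comp (p3 t) (p3 t)) (comp (p3 t) (p3 t))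

theorem decomp : ∀ v : V3, v = (if v.1 = 0 then 0 else e0) + (if v.2.1 = 0 then 0 else e1) +
    (if v.2.2 = 0 then 0 else e2) := by decide

set_option synthInstance.maxSize 2000 in
theorem p12_eq : ∀ t : M3, comp t t = idt → p12 (comp xt t) = idt := by
  decide +kernel

set_option synthInstance.maxSize 2000 in
/-- the four involutions fixing `e₀` -/
theorem four : ∀ t : M3, comp t t = idt → p3 (comp xt t) = idt → t.1 = e0 →
    (t.2.1 = (1, 1, 0) ∧ t.2.2 = (1, 0, 1)) ∨ (t.2.1 = (0, 0, 1) ∧ t.2.2 = (0, 1, 0)) ∨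
    (t.2.1 = (1, 1, 0) ∧ t.2.2 = (0, 0, 1)) ∨ (t.2.1 = (1, 1, 1) ∧ t.2.2 = (0, 0, 1)) := by
  decide +kernel

set_option synthInstance.maxSize 2000 in
theorem three : ∀ t : M3, comp t t = idt → p3 (comp xt t) = idt →
    t = xt ∨ t.1 = e0 ∨ (comp t (comp xt t)).1 = e0 := by
  decide +kernel

section dihedral

variable {Q : Type*} [Group Q]

/-- Conjugate involutions: the product has odd order. -/
theorem exists_odd {X W : Q} (hX : X * X = 1) (hW : W * W = 1) {g : Q}
    (hg : g ∈ Subgroup.closure ({X, W} : Set Q)) (h : g * X * g⁻¹ = W) :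
    ∃ i : ℤ, (X * W) ^ (2 * i + 1) = 1 := by
  have hXi : X⁻¹ = X := inv_eq_of_mul_eq_one_left hX
  have hWi : W⁻¹ = W := inv_eq_of_mul_eq_one_left hW
  have hcX : ∀ k : ℤ, X * (X * W) ^ k = (X * W) ^ (-k) * X := by
    intro k
    have h1 : (X * W) ^ (-k) = (X * (X * W) * X⁻¹) ^ k := by
      have h2 : X * (X * W) * X⁻¹ = (X * W)⁻¹ := by
        rw [mul_inv_rev, hXi, hWi, ← mul_assoc, hX, one_mul]
      rw [h2, inv_zpow, zpow_neg]
    rw [h1, conj_zpow, inv_mul_cancel_right]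
  have key : ∀ g ∈ Subgroup.closure ({X, W} : Set Q), ∃ k : ℤ, g = (X * W) ^ k ∨ g = (X * W) ^ k * X := by
    intro g hg
    induction hg using Subgroup.closure_induction with
    | mem x hx =>
      rcases hx with rfl | rfl
      · exact ⟨0, Or.inr (by rw [zpow_zero, one_mul])⟩
      · refine ⟨-1, Or.inr ?_⟩
        rw [zpow_neg, zpow_one, mul_inv_rev, hXi, hWi, mul_assoc, hX, mul_one]
    | one => exact ⟨0, Or.inl (by rw [zpow_zero])⟩
    | mul x y _ _ hx hy =>
      obtain ⟨k, rfl | rfl⟩ := hx <;> obtain ⟨l, rfl | rfl⟩ := hy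
      · exact ⟨k + l, Or.inl (by rw [zpow_add])⟩
      · exact ⟨k + l, Or.inr (by rw [zpow_add, mul_assoc])⟩
      · exact ⟨k - l, Or.inr (by rw [mul_assoc, hcX, sub_eq_add_neg, zpow_add, mul_assoc])⟩
      · exact ⟨k - l, Or.inl (by
          rw [mul_assoc, ← mul_assoc X, hcX, sub_eq_add_neg, zpow_add, mul_assoc ((X * W) ^ (-l)), hX,
            mul_one])⟩
    | inv x _ hx =>
      obtain ⟨k, rfl | rfl⟩ := hx
      · exact ⟨-k, Or.inl (by rw [zpow_neg])⟩
      · refine ⟨k, Or.inr ?_⟩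
        rw [mul_inv_rev, hXi, ← zpow_neg, hcX, neg_neg]
  have hc : ∀ k : ℤ, (X * W) ^ k * X * ((X * W) ^ k)⁻¹ = W → (X * W) ^ (2 * k + 1) = 1 := by
    intro k hk
    have h1 : (X * W) ^ k * X * ((X * W) ^ k)⁻¹ = (X * W) ^ (2 * k) * X := by
      rw [← zpow_neg, mul_assoc, hcX, neg_neg, ← mul_assoc, ← zpow_add]
      congr 2
      ring
    rw [h1] at hk
    have h2 : (X * W) ^ (2 * k) = W * X := by
      calc (X * W) ^ (2 * k) = (X * W) ^ (2 * k) * X * X := by rw [mul_assoc, hX, mul_one]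
        _ = W * X := by rw [hk]
    rw [zpow_add, h2, zpow_one]
    calc W * X * (X * W) = W * (X * X) * W := by group
      _ = 1 := by rw [hX, mul_one, hW]
  obtain ⟨k, rfl | rfl⟩ := key g hg
  · exact ⟨k, hc k h⟩
  · refine ⟨k, hc k ?_⟩
    calc (X * W) ^ k * X * ((X * W) ^ k)⁻¹ = (X * W) ^ k * X * X * ((X * W) ^ k * X)⁻¹ := by
          rw [mul_inv_rev]; group
      _ = W := h

theorem cube_of_odd {Y : Q} (h12 : Y ^ 12 = 1) (h : ∃ i : ℤ, Y ^ (2 * i + 1) = 1) : Y ^ 3 = 1 := by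
  obtain ⟨i, hi⟩ := h
  have h1 := orderOf_dvd_of_pow_eq_one h12
  have h2 : (orderOf Y : ℤ) ∣ 2 * i + 1 := orderOf_dvd_iff_zpow_eq_one.2 hi
  have h3 : Nat.Coprime (orderOf Y) 4 := by
    have h4 : Nat.Coprime (orderOf Y) 2 := by
      rw [Nat.coprime_two_right]
      by_contra hne
      rw [Nat.not_odd_iff_even] at hne
      obtain ⟨j, hj⟩ := hne
      obtain ⟨k, hk⟩ := h2
      rw [hj] at hk
      push_cast at hk
      have : 2 * i + 1 = 2 * ((j : ℤ) * k) := by rw [hk]; ring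
      omega
    exact Nat.Coprime.pow_right 2 h4
  have h5 : orderOf Y ∣ 4 * 3 := h1
  exact orderOf_dvd_iff_pow_eq_one.1 (h3.dvd_of_dvd_mul_left h5)

end dihedral

end Cfsg.Agent.Omega.IId.LFour.ThreeLin
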