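import Cfsg.Agent.Omega.IId.LFour.Cor
import Cfsg.Agent.Omega.IId.LFour.LemO

/-!
# `Tn` from COR (project OMEGA, II.d L4, SwOne; helper430)
-/

set_option autoImplicit false

namespace Cfsg.Agent.Omega.IId.LFour.HttLE

open Subgroup Pointwise Cfsg Cfsg.Agent.Omega.MinPar Cfsg.Agent.Omega.FFThm
open Cfsg.Agent.Omega.S5.Mod Cfsg.Agent.Omega.S5.TT
open Cfsg.Agent.Omega.IId.LFour

universe u

variable {G : Type u} [Group G] [Finite G]
variable {S : Sylow 2 G} {P V₁ V₂ L₁ L₂ : Subgroup G} {M₁ : FiveMod V₁ L₁} {M₂ : FiveMod V₂ L₂}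

theorem tn_of (wr : Wr S P M₁ M₂)
    (hsyl : ¬ 2 ∣ ((S : Subgroup G) ⊓ centralizer ({M₁.e nn} : Set G)).relIndex
      (centralizer ({M₁.e nn} : Set G))) : Tn S M₁ where
  syl := hsyl
  cor g hg := by
    rcases wr.conj_na hsyl hg with h | h
    · exact Or.inl (mul_inv_eq_iff_eq_mul.1 h.1)
    · exact Or.inr h

end Cfsg.Agent.Omega.IId.LFour.HttLE
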