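import Cfsg.Agent.Omega.IId.LFour.TriP

/-!
# THEOREM TRI (helper644 #17091) (6): the end

`w : Wr S P M₁ M₂`, `S₁ = N_S(V₁)`, `z = σ₁ σ₂`; `V₃` a subgroup normalised by `S₁`, commuting with `V₂`,
whose only fixed points under `S₁` are `1`, `z`; `V₃ ≤ O₂(C_G(p))` for all nonsingular `p` in `V₂`, and
`K_p` contains an element acting on `V₂` as the transvection `t_p` and centralising `σ₁`, `K_p ≤ S₁` for `p = n₂`, `a₂`.
Then some `x ≠ 1` in `V₃` is centralised by all `K_p`; so is `z`: a contradiction.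
-/

set_option autoImplicit false
set_option linter.unusedSectionVars false

namespace Cfsg.Agent.Omega.IId.LFour

open Subgroup Pointwise Cfsg Cfsg.Agent.Omega.MinPar Cfsg.Agent.Omega.FFThm
open Cfsg.Agent.ZN (o2 zc jj zj zl zc_map)
open Cfsg.Agent.ZN.ChoiceBase (cj mem_cj)
open Cfsg.Agent.Omega.S5.Mod Cfsg.Agent.Omega.S5.TT
open Cfsg.Agent.Omega.S5.TT.Pos (na ns as sn n_ne s_ne a_ne n_ne_a n_ne_s a_ne_s e_sq' mem_C)
open Cfsg.Agent.MinSimple.VModule (mem_zc zc_le zc_comm zc_sq zc_le_zl le_normalizer_o2 o2_isPGroup o2_le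
  normalizer_le_normalizer_zc le_normalizer_zl)
open Cfsg.Agent.Omega.IId.Triangle (KK mem_KK KK_conj mem_zpowers_iff_of_sq)

universe u

/-- the pair `{i, j}` -/
def pp (i j : Fin 5) : Vec := Pi.single i 1 + Pi.single j 1

theorem pp_nn : pp 0 1 = nn := by decide

theorem pp_aa : pp 2 3 = aa := by decide

theorem pp_comp : ∀ (i j : Fin 5) (ρ : Equiv.Perm (Fin 5)), pp i j ∘ ρ.symm = pp (ρ i) (ρ j) := by
  intro i j ρ
  funext k
  simp only [pp, Function.comp_apply, Pi.add_apply, Pi.single_apply, Equiv.symm_apply_eq]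

theorem exists_perm : ∀ i j : Fin 5, i ≠ j → ∃ ρ : Equiv.Perm (Fin 5), ρ 0 = i ∧ ρ 1 = j := by
  decide +kernel

/-- `(0 1), (2 3), (0 2), (0 4)` generate `S₅` -/
theorem eq_top_of_four {H : Subgroup (Equiv.Perm (Fin 5))} (h1 : Equiv.swap 0 1 ∈ H)
    (h2 : Equiv.swap 2 3 ∈ H) (h3 : Equiv.swap 0 2 ∈ H) (h4 : Equiv.swap 0 4 ∈ H) : H = ⊤ := by
  have h5 : Equiv.swap (0 : Fin 5) 3 ∈ H := by
    have e : Equiv.swap (0 : Fin 5) 3 = Equiv.swap 2 3 * Equiv.swap 0 2 * Equiv.swap 2 3 := by decide +kernel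
    rw [e]
    exact mul_mem (mul_mem h2 h3) h2
  have h0 : ∀ i : Fin 5, Equiv.swap 0 i ∈ H := by
    intro i
    fin_cases i
    · have e : Equiv.swap (0 : Fin 5) 0 = 1 := Equiv.swap_self 0
      change Equiv.swap (0 : Fin 5) 0 ∈ H
      rw [e]; exact one_mem _
    · exact h1
    · exact h3
    · exact h5
    · exact h4
  have h6 : ∀ i j : Fin 5, Equiv.swap i j ∈ H := by
    intro i j
    have e : ∀ i j : Fin 5, Equiv.swap i j = 1 ∨
        Equiv.swap i j = Equiv.swap 0 i * Equiv.swap 0 j * Equiv.swap 0 i ∨ Equiv.swap i j = Equiv.swap 0 j ∨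
          Equiv.swap i j = Equiv.swap 0 i := by decide +kernel
    rcases e i j with h | h | h | h <;> rw [h]
    · exact one_mem _
    · exact mul_mem (mul_mem (h0 i) (h0 j)) (h0 i)
    · exact h0 j
    · exact h0 i
  rw [eq_top_iff, ← Equiv.Perm.closure_isSwap, closure_le]
  rintro σ ⟨i, j, -, rfl⟩
  exact h6 i j

variable {G : Type u} [Group G]

namespace Wr

variable {S : Sylow 2 G} {P V₁ V₂ L₁ L₂ : Subgroup G} {M₁ : FiveMod V₁ L₁} {M₂ : FiveMod V₂ L₂}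

/-- Hypotheses for the end of THEOREM TRI. -/
structure EndH [Finite G] (_ : Wr S P M₁ M₂) (V₃ : Subgroup G) : Prop where
  nor : (S : Subgroup G) ⊓ normalizer (V₁ : Set G) ≤ normalizer (V₃ : Set G)
  two : IsPGroup 2 V₃
  comm : ∀ x ∈ V₃, ∀ y ∈ V₂, x * y = y * x
  card : 4 < Nat.card V₃
  fix : ∀ x ∈ V₃, (∀ y ∈ (S : Subgroup G) ⊓ normalizer (V₁ : Set G), y * x = x * y) →
    x = 1 ∨ x = M₁.e ss * M₂.e ss
  o2 : ∀ i j : Fin 5, i ≠ j → V₃ ≤ o2 (centralizer ({M₂.e (pp i j)} : Set G))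
  sup : ∀ i j : Fin 5, i ≠ j → ∃ k ∈ KK (M₂.e (pp i j)), M₂.Ind k (Equiv.swap i j) ∧ k * M₁.e ss = M₁.e ss * k
  len : KK (M₂.e nn) ≤ (S : Subgroup G) ⊓ normalizer (V₁ : Set G)
  lea : KK (M₂.e aa) ≤ (S : Subgroup G) ⊓ normalizer (V₁ : Set G)

section fin

variable [Finite G] {w : Wr S P M₁ M₂} {V₃ : Subgroup G}

/-- `V₂ ∩ V₃ = 1` -/
theorem EndH.inf (h : EndH w V₃) {x : G} (hx2 : x ∈ V₂) (hx3 : x ∈ V₃) : x = 1 := by
  by_contra hne
  have hne' : V₂ ⊓ V₃ ≠ ⊥ := fun h0 => hne (by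
    have : x ∈ V₂ ⊓ V₃ := ⟨hx2, hx3⟩
    rwa [h0, mem_bot] at this)
  have hS1 : (S : Subgroup G) ⊓ normalizer (V₁ : Set G) ≤ normalizer ((V₂ ⊓ V₃ : Subgroup G) : Set G) :=
    Half.le_normalizer_inf (w.S₁_eq.le.trans inf_le_right) h.nor
  obtain ⟨y, hy, hy1, hfix⟩ := Half.exists_fixed (h.two.to_le inf_le_right) hne'
    (S.isPGroup'.to_le (inf_le_left : (S : Subgroup G) ⊓ normalizer (V₁ : Set G) ≤ S)) hS1
  rcases h.fix y hy.2 (fun t ht => mul_inv_eq_iff_eq_mul.1 (hfix t ht)) with h1 | h1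
  · exact hy1 h1
  · apply w.symm.z_not_mem
    rw [← w.s_comm, ← h1]
    exact hy.1

/-- `K_p` centralises `V₃` if `K_p ≤ S₁` -/
theorem EndH.comm_of_le (h : EndH w V₃) {i j : Fin 5} (hij : i ≠ j)
    (hle : KK (M₂.e (pp i j)) ≤ (S : Subgroup G) ⊓ normalizer (V₁ : Set G)) {k x : G}
    (hk : k ∈ KK (M₂.e (pp i j))) (hx : x ∈ V₃) : k * x = x * k := by
  have h1 := (mem_zpowers_iff_of_sq (M₂.e_sq _)).1 ((mem_KK.1 hk).2 x (h.o2 i j hij hx))
  have h2 : k * x * k⁻¹ * x⁻¹ ∈ V₃ :=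
    mul_mem ((mem_normalizer_iff.1 (h.nor (hle hk)) x).1 hx) (inv_mem hx)
  have h3 : k * x * k⁻¹ * x⁻¹ = 1 := by
    rcases h1 with h1 | h1
    · exact h1
    · exact h.inf (by rw [h1]; exact M₂.e_mem _) h2
  rw [mul_inv_eq_one, mul_inv_eq_iff_eq_mul] at h3
  exact h3

/-- **(6)** THE END. -/
theorem EndH.false (h : EndH w V₃) : False := by
  classical
  obtain ⟨a, ha, hai, -⟩ := h.sup 0 1 (by decide)
  obtain ⟨b, hb, hbi, -⟩ := h.sup 2 3 (by decide)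
  obtain ⟨c, hc, hci, -⟩ := h.sup 0 2 (by decide)
  obtain ⟨d, hd, hdi, hds⟩ := h.sup 0 4 (by decide)
  -- an element of `V₃` centralised by `c` and `d`
  obtain ⟨x, hx, hx1, hcx, hdx⟩ : ∃ x ∈ V₃, x ≠ 1 ∧ c * x = x * c ∧ d * x = x * d := by
    have hdiv : ∀ {p k : G}, p * p = 1 → (∀ y ∈ V₃, k * y * k⁻¹ * y⁻¹ = 1 ∨ k * y * k⁻¹ * y⁻¹ = p) →
        ∀ y ∈ V₃, ∀ y' ∈ V₃, (k * y = y * k ↔ k * y' = y' * k) → k * (y⁻¹ * y') = y⁻¹ * y' * k := by
      intro p k hp hk y hy y' hy' hyy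
      have e : ∀ v : G, k * v = v * k ↔ k * v * k⁻¹ * v⁻¹ = 1 := fun v => by
        rw [mul_inv_eq_one, mul_inv_eq_iff_eq_mul]
      have h2 : k * y * k⁻¹ * y⁻¹ = k * y' * k⁻¹ * y'⁻¹ := by
        rcases hk y hy with h1 | h1 <;> rcases hk y' hy' with h2 | h2
        · rw [h1, h2]
        · rw [h1, (e y').1 (hyy.1 ((e y).2 h1))]
        · rw [(e y).1 (hyy.2 ((e y').2 h2)), h2]
        · rw [h1, h2]
      have h3 : k * y * k⁻¹ = k * y' * k⁻¹ * y'⁻¹ * y := by rw [← h2]; group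
      have h4 : k * (y⁻¹ * y') * k⁻¹ = y⁻¹ * y' := by
        calc k * (y⁻¹ * y') * k⁻¹ = (k * y * k⁻¹)⁻¹ * (k * y' * k⁻¹) := by group
          _ = y⁻¹ * y' := by rw [h3]; group
      exact mul_inv_eq_iff_eq_mul.1 h4
    let f : V₃ → Bool × Bool := fun y => (decide (c * (y : G) = y * c), decide (d * (y : G) = y * d))
    have hni : ¬ Function.Injective f := by
      intro hinj
      have h1 := Nat.card_le_card_of_injective f hinj
      have h2 : Nat.card (Bool × Bool) = 4 := by simp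
      have h3 := h.card
      omega
    rw [Function.not_injective_iff] at hni
    obtain ⟨y, y', hf, hne⟩ := hni
    have hf1 : (c * (y : G) = y * c ↔ c * (y' : G) = y' * c) := by
      have := congrArg Prod.fst hf
      exact decide_eq_decide.1 this
    have hf2 : (d * (y : G) = y * d ↔ d * (y' : G) = y' * d) := by
      have := congrArg Prod.snd hf
      exact decide_eq_decide.1 this
    refine ⟨(y : G)⁻¹ * y', mul_mem (inv_mem y.2) y'.2, ?_, ?_, ?_⟩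
    · intro h0
      exact hne (Subtype.ext (inv_mul_eq_one.1 h0))
    · exact hdiv (M₂.e_sq (pp 0 2)) (fun v hv => (mem_zpowers_iff_of_sq (M₂.e_sq _)).1
        ((mem_KK.1 hc).2 v (h.o2 0 2 (by decide) hv))) y y.2 y' y'.2 hf1
    · exact hdiv (M₂.e_sq (pp 0 4)) (fun v hv => (mem_zpowers_iff_of_sq (M₂.e_sq _)).1
        ((mem_KK.1 hd).2 v (h.o2 0 4 (by decide) hv))) y y.2 y' y'.2 hf2
  have hax : a * x = x * a := h.comm_of_le (i := 0) (j := 1) (by decide) (by rw [pp_nn]; exact h.len) ha hx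
  have hbx : b * x = x * b := h.comm_of_le (i := 2) (j := 3) (by decide) (by rw [pp_aa]; exact h.lea) hb hx
  -- `x` is centralised by all `K_p`
  let H : Subgroup (Equiv.Perm (Fin 5)) :=
    { carrier := {ρ | ∃ g : G, g * x = x * g ∧ M₂.Ind g ρ}
      one_mem' := ⟨1, by simp, M₂.ind_one⟩
      mul_mem' := by
        rintro ρ τ ⟨g, hg, hgi⟩ ⟨k, hk, hki⟩
        exact ⟨g * k, by rw [mul_assoc, hk, ← mul_assoc, hg, mul_assoc], hgi.mul hki⟩
      inv_mem' := by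
        rintro ρ ⟨g, hg, hgi⟩
        exact ⟨g⁻¹, ((show Commute g x from hg).inv_left).eq, hgi.inv⟩ }
  have hH : H = ⊤ := eq_top_of_four ⟨a, hax, hai⟩ ⟨b, hbx, hbi⟩ ⟨c, hcx, hci⟩ ⟨d, hdx, hdi⟩
  have hxK : ∀ i j : Fin 5, i ≠ j → ∀ k ∈ KK (M₂.e (pp i j)), k * x = x * k := by
    intro i j hij k hk
    obtain ⟨ρ, hi, hj⟩ := exists_perm i j hij
    obtain ⟨g, hg, hgi⟩ : ρ ∈ H := hH ▸ mem_top _
    have h1 := KK_conj (h := g⁻¹) hk
    have h2 : g⁻¹ * M₂.e (pp i j) * g⁻¹⁻¹ = M₂.e (pp 0 1) := by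
      rw [← hi, ← hj, ← pp_comp 0 1 ρ, ← hgi]; group
    rw [h2, inv_inv] at h1
    have h3 := h.comm_of_le (i := 0) (j := 1) (by decide) (by rw [pp_nn]; exact h.len) h1 hx
    have hg' : g⁻¹ * x = x * g⁻¹ := ((show Commute g x from hg).inv_left).eq
    calc k * x = g * (g⁻¹ * k * g) * (g⁻¹ * x) := by group
      _ = g * (g⁻¹ * k * g * x) * g⁻¹ := by rw [hg']; group
      _ = g * (x * (g⁻¹ * k * g)) * g⁻¹ := by rw [h3]
      _ = (g * x) * (g⁻¹ * k) := by group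
      _ = x * k := by rw [hg]; group
  -- the subgroup of these elements
  let U : Set G := {k | ∃ i j : Fin 5, i ≠ j ∧ k ∈ KK (M₂.e (pp i j))}
  have hxC : x ∈ V₃ ⊓ centralizer U :=
    ⟨hx, mem_centralizer_iff.2 fun k hk => by
      obtain ⟨i, j, hij, hk⟩ := hk
      exact hxK i j hij k hk⟩
  have hne : V₃ ⊓ centralizer U ≠ ⊥ := fun h0 => hx1 (by rwa [h0, mem_bot] at hxC)
  have hnor : (S : Subgroup G) ⊓ normalizer (V₁ : Set G) ≤
      normalizer ((V₃ ⊓ centralizer U : Subgroup G) : Set G) := by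
    refine Half.le_normalizer_inf h.nor fun y hy => ?_
    refine MinSimple.VModule.mem_normalizer_of_map_le ?_
    rintro _ ⟨v, hv, rfl⟩
    show y * v * y⁻¹ ∈ centralizer U
    rw [mem_centralizer_iff]
    rintro k ⟨i, j, hij, hk⟩
    obtain ⟨p, q, -, hq⟩ := w.S₁_ind hy
    have h1 : y⁻¹ * k * y ∈ U := by
      refine ⟨q⁻¹ i, q⁻¹ j, fun h0 => hij (q⁻¹.injective h0), ?_⟩
      have h1 := KK_conj (h := y⁻¹) hk
      have h2 : y⁻¹ * M₂.e (pp i j) * y⁻¹⁻¹ = M₂.e (pp (q⁻¹ i) (q⁻¹ j)) := by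
        rw [hq.inv, pp_comp]
      rwa [h2, inv_inv] at h1
    have h2 := mem_centralizer_iff.1 hv _ h1
    calc k * (y * v * y⁻¹) = y * (y⁻¹ * k * y * v) * y⁻¹ := by group
      _ = y * (v * (y⁻¹ * k * y)) * y⁻¹ := by rw [h2]
      _ = y * v * y⁻¹ * k := by group
  obtain ⟨z, hz, hz1, hfix⟩ := Half.exists_fixed (h.two.to_le inf_le_left) hne
    (S.isPGroup'.to_le (inf_le_left : (S : Subgroup G) ⊓ normalizer (V₁ : Set G) ≤ S)) hnor
  have hz2 : z = M₁.e ss * M₂.e ss :=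
    (h.fix z hz.1 (fun t ht => mul_inv_eq_iff_eq_mul.1 (hfix t ht))).resolve_left hz1
  have hdz : d * z = z * d := mem_centralizer_iff.1 hz.2 d ⟨0, 4, by decide, hd⟩
  have hd2 : d * M₂.e ss = M₂.e ss * d := by
    rw [hz2] at hdz
    have e : M₁.e ss * (d * M₂.e ss) = M₁.e ss * (M₂.e ss * d) := by
      calc M₁.e ss * (d * M₂.e ss) = (M₁.e ss * d) * M₂.e ss := by group
        _ = d * (M₁.e ss * M₂.e ss) := by rw [← hds]; group
        _ = M₁.e ss * (M₂.e ss * d) := by rw [hdz]; group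
    exact mul_left_cancel e
  have h9 := (hdi.commute_iff _).1 hd2
  revert h9
  decide

/-- The hypotheses of THE END for `V₃ = V₂^t`. -/
theorem endH_of (w : Wr S P M₁ M₂) {t : G}
    (ht : t ∈ normalizer (((S : Subgroup G) ⊓ normalizer (V₁ : Set G) : Subgroup G) : Set G))
    (hts : t * M₂.e ss * t⁻¹ = M₁.e ss * M₂.e ss)
    (comm : ∀ x ∈ cj t V₂, ∀ y ∈ V₂, x * y = y * x)
    (o2' : ∀ i j : Fin 5, i ≠ j → cj t V₂ ≤ o2 (centralizer ({M₂.e (pp i j)} : Set G)))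
    (sup : ∀ i j : Fin 5, i ≠ j → ∃ k ∈ KK (M₂.e (pp i j)), M₂.Ind k (Equiv.swap i j) ∧ k * M₁.e ss = M₁.e ss * k)
    (len : KK (M₂.e nn) ≤ (S : Subgroup G) ⊓ normalizer (V₁ : Set G))
    (lea : KK (M₂.e aa) ≤ (S : Subgroup G) ⊓ normalizer (V₁ : Set G)) : EndH w (cj t V₂) where
  nor := by
    intro y hy
    have hy' : t⁻¹ * y * t ∈ (S : Subgroup G) ⊓ normalizer (V₁ : Set G) := by
      have := (mem_normalizer_iff.1 (inv_mem ht) y).1 hy
      rwa [inv_inv] at this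
    rw [w.S₁_eq] at hy'
    refine MinSimple.VModule.mem_normalizer_of_map_le ?_
    rintro _ ⟨v, hv, rfl⟩
    show y * v * y⁻¹ ∈ cj t V₂
    rw [mem_cj]
    have h1 : t⁻¹ * v * t ∈ V₂ := mem_cj.1 hv
    have h2 := (mem_normalizer_iff.1 hy'.2 _).1 h1
    have e : t⁻¹ * (y * v * y⁻¹) * t = t⁻¹ * y * t * (t⁻¹ * v * t) * (t⁻¹ * y * t)⁻¹ := by group
    rw [e]
    exact h2
  two := M₂.isPGroup.map _
  comm := comm
  card := by
    have h1 : Nat.card (cj t V₂) = Nat.card V₂ :=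
      Nat.card_congr (V₂.equivMapOfInjective _ (MulAut.conj t).injective).symm.toEquiv
    rw [h1]
    let f : Fin 5 → V₂ := fun i => ⟨M₂.e (Pi.single i 1), M₂.e_mem _⟩
    have hf : Function.Injective f := by
      intro i j hij
      have h2 : M₂.e (Pi.single i 1) = M₂.e (Pi.single j 1) := congrArg Subtype.val hij
      exact FiveMod.single_inj _ _ (M₂.e_eq_iff.1 h2)
    have h2 := Nat.card_le_card_of_injective f hf
    rw [Nat.card_eq_fintype_card (α := Fin 5), Fintype.card_fin] at h2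
    omega
  fix := by
    intro x hx hfix
    have h1 : t⁻¹ * x * t ∈ V₂ := mem_cj.1 hx
    rcases w.symm.fixed₁ h1 (fun y hy => by
      have h2 : y ∈ (S : Subgroup G) ⊓ normalizer (V₁ : Set G) := by
        rw [w.S₁_eq]
        exact ⟨hy.1, M₂.le_normalizer hy.2⟩
      have h3 := hfix _ ((mem_normalizer_iff.1 ht y).1 h2)
      calc y * (t⁻¹ * x * t) = t⁻¹ * (t * y * t⁻¹ * x) * t := by group
        _ = t⁻¹ * x * t * y := by rw [h3]; group) with h2 | h2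
    · left
      have : x = t * (t⁻¹ * x * t) * t⁻¹ := by group
      rw [this, h2]; group
    · right
      rw [← hts, ← h2]; group
  o2 := o2'
  sup := sup
  len := len
  lea := lea

end fin

end Wr

end Cfsg.Agent.Omega.IId.LFour
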