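import Cfsg.Agent.Omega.IId.LFour.TriJ
import Cfsg.Agent.Omega.IId.Triangle

/-!
# THEOREM TRI (helper644 #17091) (1): the triangle leads to NO-3S or to a local subgroup

`w : Wr S P M₁ M₂`, `S₁ = N_S(V₁)`, `Y₀ = Ω₁(Z(S₁)) = ⟨σ₁, σ₂⟩`, `z = σ₁ σ₂`; `S₁` is not a Sylow 2-subgroup of
`C_G(σ₁)`.

* `Wr.zcS_eq`, `Wr.mem_CZ` : `Ω₁(Z(S)) = ⟨z⟩`, `C_G(Ω₁(Z(S))) = C_G(z)`;
* `Wr.exists_T` : `T₁` a Sylow 2-subgroup of `C_G(σ₁)` (and of `G`), `S₁ < T₁ ≤ N_G(S₁)`, `t ∈ T₁` maps `σ₂` to `z`;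
* `Wr.o2_le_S₁` : `O₂(C_G(y)) ≤ S₁` for `1 ≠ y ∈ Y₀`; `Wr.exists_conj` : `N_G(S₁)` is transitive on `Y₀#`;
* `Wr.exists_P₃` : `P₃ ∈ P*(S)`, `P₃ ≤ N_G(S₁)`, `V_{P₃} = Y₀`, `|Y₀| = 4`, `⟨Y₀^{C_G(z)}⟩` abelian;
* `Wr.TriH w H` : `S ≤ H` 2-local, `N_G(S₁) ≤ H`, `C_G(y) ≤ H` for `1 ≠ y ∈ Y₀`;
* `Wr.known_of_tri` : if no `TriH w H` exists, then `G` is known (NO-3S, `|V_P| = 4`).
-/

set_option autoImplicit false
set_option linter.unusedSectionVars false

namespace Cfsg.Agent.Omega.IId.LFour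

open Subgroup Pointwise Cfsg Cfsg.Agent.Omega.MinPar Cfsg.Agent.Omega.FFThm
open Cfsg.Agent.ZN (o2 zc jj zj zl zc_map)
open Cfsg.Agent.ZN.ChoiceBase (cj mem_cj)
open Cfsg.Agent.ZN.ChoiceSit (exists_syl syl_not_dvd)
open Cfsg.Agent.Omega.S5.Mod Cfsg.Agent.Omega.S5.TT
open Cfsg.Agent.Omega.S5.TT.Pos (na ns as sn n_ne s_ne a_ne n_ne_a n_ne_s a_ne_s e_sq' mem_C)
open Cfsg.Agent.Omega.Half (Amb amb_of_loc)
open Cfsg.Agent.MinSimple.VModule (mem_zc zc_le zc_comm zc_sq zc_le_zl le_normalizer_o2 o2_isPGroup o2_le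
  normalizer_le_normalizer_zc le_normalizer_zl zl_le le_o2 le_centralizer_zc)
open Cfsg.Agent.Omega.Frame (Ctx Full Cls)
open Cfsg.Agent.Omega.FrameNOFF (CZ)
open Cfsg.Agent.Omega.NO3S (WW Hyp)
open Cfsg.Agent.Omega.IId.Triangle (o2_cent_conj cent_conj)

universe u

variable {G : Type u} [Group G]

namespace Wr

variable {S : Sylow 2 G} {P V₁ V₂ L₁ L₂ : Subgroup G} {M₁ : FiveMod V₁ L₁} {M₂ : FiveMod V₂ L₂}

section fin

variable [Finite G] (w : Wr S P M₁ M₂)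
include w

/-! ### `Y₀` -/

omit [Finite G] in
theorem z_ne : M₁.e ss * M₂.e ss ≠ 1 := fun h => w.z_not_mem (by rw [h]; exact one_mem _)

theorem s_comm : M₁.e ss * M₂.e ss = M₂.e ss * M₁.e ss := w.comm (M₁.e_mem _) (M₂.e_mem _)

theorem z_mem_zcS : M₁.e ss * M₂.e ss ∈ zc (S : Subgroup G) := by
  obtain ⟨x, hx⟩ := Subgroup.ne_bot_iff_exists_ne_one.1
    (MinSimple.Basic.zc_ne_bot S.isPGroup' (fun h => s_ne M₁ (by
      have h1 := w.V₁_le_S (M₁.e_mem ss)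
      rw [h, mem_bot] at h1
      exact h1)))
  rcases w.zS_le x.2 with h | h
  · exact absurd (Subtype.ext h) hx
  · rw [← h]; exact x.2

theorem mem_CZ {x : G} : x ∈ CZ (S : Subgroup G) ↔ x * (M₁.e ss * M₂.e ss) = M₁.e ss * M₂.e ss * x := by
  rw [mem_centralizer_iff]
  constructor
  · intro h
    exact (h _ w.z_mem_zcS).symm
  · intro h y hy
    rcases w.zS_le hy with rfl | rfl
    · rw [one_mul, mul_one]
    · exact h.symm

theorem CZ_eq : CZ (S : Subgroup G) = centralizer ({M₁.e ss * M₂.e ss} : Set G) := by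
  ext x
  rw [w.mem_CZ, mem_C]

/-- a Sylow 2-subgroup `T₁` of `G` with `S₁ < T₁ ≤ C_G(σ₁)` -/
theorem exists_T (htri : 2 ∣ ((S : Subgroup G) ⊓ normalizer (V₁ : Set G)).relIndex
      (centralizer ({M₁.e ss} : Set G))) :
    ∃ T : Sylow 2 G, (S : Subgroup G) ⊓ normalizer (V₁ : Set G) ≤ (T : Subgroup G) ∧
      (T : Subgroup G) ≤ centralizer ({M₁.e ss} : Set G) ∧
      (T : Subgroup G) ≤ normalizer (((S : Subgroup G) ⊓ normalizer (V₁ : Set G) : Subgroup G) : Set G) ∧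
      ∀ t ∈ (T : Subgroup G), t ∉ (S : Subgroup G) ⊓ normalizer (V₁ : Set G) →
        t * M₂.e ss * t⁻¹ = M₁.e ss * M₂.e ss := by
  have : Fact (Nat.Prime 2) := ⟨Nat.prime_two⟩
  set S₁ := (S : Subgroup G) ⊓ normalizer (V₁ : Set G) with hS₁
  set C := centralizer ({M₁.e ss} : Set G) with hC
  have h2 : IsPGroup 2 S₁ := S.isPGroup'.to_le inf_le_left
  have hS₁C : S₁ ≤ C := fun x hx => mem_C.2 (w.comm_ss w.S_le hx.1 hx.2)
  obtain ⟨T₁, hT₁, hST⟩ := exists_syl h2 hS₁C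
  have hne : ¬ T₁ ≤ S₁ := by
    intro h
    have h3 := syl_not_dvd hT₁
    rw [le_antisymm h hST] at h3
    exact h3 htri
  have hcS := w.card_S₁
  have hpos : 0 < Nat.card S₁ := Nat.card_pos
  have hrel : S₁.relIndex T₁ = 2 := by
    have h3 := card_mul_relIndex hST
    have h4 : Nat.card T₁ ≤ Nat.card (S : Subgroup G) := by
      obtain ⟨S', hS'⟩ := hT₁.2.1.exists_le_sylow
      exact (card_le_of_le hS').trans (sylow_card_eq S' S).le
    have h5 : S₁.relIndex T₁ ≠ 1 := fun h => hne (relIndex_eq_one.1 h)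
    have h6 : S₁.relIndex T₁ ≤ 2 := by
      rw [hcS, ← h3, mul_comm] at h4
      exact Nat.le_of_mul_le_mul_right h4 hpos
    have h7 : S₁.relIndex T₁ ≠ 0 := by
      intro h
      rw [h, mul_zero] at h3
      exact (Nat.card_pos (α := T₁)).ne h3
    omega
  have hcT : Nat.card T₁ = Nat.card (S : Subgroup G) := by
    rw [hcS, ← card_mul_relIndex hST, hrel, mul_comm]
  have hTn : T₁ ≤ normalizer (S₁ : Set G) := by
    have h3 := normal_of_index_eq_two (H := S₁.subgroupOf T₁) hrel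
    exact (normal_subgroupOf_iff_le_normalizer hST).1 h3
  obtain ⟨T, hT⟩ := hT₁.2.1.exists_le_sylow
  have hTT : T₁ = (T : Subgroup G) :=
    Subgroup.eq_of_le_of_card_ge hT (by rw [hcT]; exact (sylow_card_eq T S).le)
  rw [hTT] at hST hTn hrel
  have hTC : (T : Subgroup G) ≤ C := hTT ▸ hT₁.1
  refine ⟨T, hST, hTC, hTn, fun t ht htS => ?_⟩
  have htn := hTn ht
  have h3 : t * M₁.e ss = M₁.e ss * t := mem_C.1 (hTC ht)
  have h4 : t * M₂.e ss * t⁻¹ ∈ zc S₁ :=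
    (mem_normalizer_iff.1 (normalizer_le_normalizer_zc _ htn) _).1 w.s₂_mem
  have h6 : t * M₂.e ss * t⁻¹ ≠ 1 := by
    rw [Ne, mul_inv_eq_one, mul_eq_left]
    exact s_ne M₂
  have h7 : t * M₂.e ss * t⁻¹ ≠ M₁.e ss := by
    intro h8
    apply w.s_ne_s
    have h9 : t⁻¹ * (t * M₂.e ss * t⁻¹) * t = t⁻¹ * M₁.e ss * t := by rw [h8]
    have h10 : t⁻¹ * M₁.e ss * t = M₁.e ss := by
      rw [mul_assoc, ← h3]; group
    rw [h10] at h9
    rw [← h9]; group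
  rcases w.zS₁_le h4 with h8 | h8 | h8 | h8
  · exact absurd h8 h6
  · exact absurd h8 h7
  · exfalso
    rw [mul_inv_eq_iff_eq_mul] at h8
    -- `T` centralises `σ₂`
    have hcen : ∀ y ∈ (T : Subgroup G), y * M₂.e ss = M₂.e ss * y := by
      intro y hy
      by_cases hyS : y ∈ S₁
      · exact w.S₁_comm_s₂ hyS
      · have h9 : y * t⁻¹ ∈ S₁ := by
          have h10 : (S₁.subgroupOf (T : Subgroup G)).index = 2 := hrel
          have h11 := (mul_mem_iff_of_index_two h10 (a := ⟨y, hy⟩) (b := ⟨t⁻¹, inv_mem ht⟩)).2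
            (by
              constructor
              · intro h12; exact absurd (mem_subgroupOf.1 h12) hyS
              · intro h12; exact absurd (inv_mem_iff.1 (mem_subgroupOf.1 h12)) htS)
          exact mem_subgroupOf.1 h11
        have h10 := w.S₁_comm_s₂ h9
        calc y * M₂.e ss = y * t⁻¹ * (t * M₂.e ss) := by group
          _ = y * t⁻¹ * M₂.e ss * t := by rw [h8]; group
          _ = M₂.e ss * y := by rw [h10]; group
    have hz1 : M₁.e ss ∈ zc (T : Subgroup G) :=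
      mem_zc.2 ⟨hST (w.V₁_le_S₁ (M₁.e_mem ss)), fun b hb => mem_C.1 (hTC hb), e_sq' M₁ ss⟩
    have hz2 : M₂.e ss ∈ zc (T : Subgroup G) :=
      mem_zc.2 ⟨hST (w.V₂_le_S₁ (M₂.e_mem ss)), hcen, e_sq' M₂ ss⟩
    obtain ⟨g, hg⟩ := MulAction.exists_smul_eq G S T
    have hzc : zc (T : Subgroup G) = cj g (zc (S : Subgroup G)) := by
      rw [← hg]; exact zc_map _ (MulAut.conj g).injective _
    rw [hzc, mem_cj] at hz1 hz2
    have h1 : ∀ x : G, x ≠ 1 → g⁻¹ * x * g ≠ 1 := fun x hx h => hx (by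
      have : x = g * (g⁻¹ * x * g) * g⁻¹ := by group
      rw [this, h]; group)
    rcases w.zS_le hz1 with h3 | h3
    · exact h1 _ (s_ne M₁) h3
    · rcases w.zS_le hz2 with h4 | h4
      · exact h1 _ (s_ne M₂) h4
      · apply w.s_ne_s
        have h5 := h3.trans h4.symm
        exact mul_left_cancel (mul_right_cancel h5)
  · exact h8

/-- `C_G(σ₁)` is of characteristic 2. -/
theorem char2_C {T : Sylow 2 G} (hT : (T : Subgroup G) ≤ centralizer ({M₁.e ss} : Set G)) :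
    centralizer ({M₁.e ss} : Set G) ⊓ centralizer (o2 (centralizer ({M₁.e ss} : Set G)) : Set G) ≤
      o2 (centralizer ({M₁.e ss} : Set G)) :=
  (isLoc_centralizer T (e_sq' M₁ ss) (s_ne M₁) hT).char2 T w.hG

/-- `O₂(C_G(σ₁)) ≤ S₁` in the triangle. -/
theorem o2_le_S₁ (htri : 2 ∣ ((S : Subgroup G) ⊓ normalizer (V₁ : Set G)).relIndex
      (centralizer ({M₁.e ss} : Set G))) :
    o2 (centralizer ({M₁.e ss} : Set G)) ≤ (S : Subgroup G) ⊓ normalizer (V₁ : Set G) := by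
  obtain ⟨T, hST, hTC, hTn, hmv⟩ := w.exists_T htri
  intro x hx
  by_contra hxS
  have hxT : x ∈ (T : Subgroup G) :=
    le_of_le_normalizer T (o2_isPGroup _) (hTC.trans (le_normalizer_o2 _)) hx
  have h1 := hmv x hxT hxS
  have h2 := mem_centralizer_iff.1 (w.symm.V₁_le_o2_centralizer.2 hx) _ (M₂.e_mem ss)
  rw [← h2, mul_inv_cancel_right] at h1
  exact s_ne M₁ (mul_eq_right.1 h1.symm)

/-- `N_G(S₁)` is transitive on `Y₀#`. -/
theorem exists_conj (htri : 2 ∣ ((S : Subgroup G) ⊓ normalizer (V₁ : Set G)).relIndex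
      (centralizer ({M₁.e ss} : Set G))) {y : G}
    (hy : y ∈ zc ((S : Subgroup G) ⊓ normalizer (V₁ : Set G))) (hy1 : y ≠ 1) :
    ∃ g ∈ normalizer (((S : Subgroup G) ⊓ normalizer (V₁ : Set G) : Subgroup G) : Set G),
      g * M₁.e ss * g⁻¹ = y := by
  obtain ⟨s, hs, p, q, hsw⟩ := w.swap
  have hs1 := w.sw_ss w.S_le hs hsw
  have hsn := w.S_le_normalizer hs
  obtain ⟨t, ht, h1, h2⟩ := w.exists_tri htri
  rcases w.zS₁_le hy with h | h | h | h
  · exact absurd h hy1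
  · exact ⟨1, one_mem _, by rw [h]; group⟩
  · exact ⟨s, hsn, by rw [hs1, h]⟩
  · refine ⟨t * s, mul_mem ht hsn, ?_⟩
    rw [h, ← h2, ← hs1]; group

theorem o2_C_le (htri : 2 ∣ ((S : Subgroup G) ⊓ normalizer (V₁ : Set G)).relIndex
      (centralizer ({M₁.e ss} : Set G))) {y : G}
    (hy : y ∈ zc ((S : Subgroup G) ⊓ normalizer (V₁ : Set G))) (hy1 : y ≠ 1) :
    o2 (centralizer ({y} : Set G)) ≤ (S : Subgroup G) ⊓ normalizer (V₁ : Set G) := by
  obtain ⟨g, hg, rfl⟩ := w.exists_conj htri hy hy1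
  rw [o2_cent_conj]
  rintro _ ⟨x, hx, rfl⟩
  exact (mem_normalizer_iff.1 hg x).1 (w.o2_le_S₁ htri hx)

/-- `Y₀ ≤ Ω₁(Z(O₂(C_G(z))))` -/
theorem zc_le_zc (htri : 2 ∣ ((S : Subgroup G) ⊓ normalizer (V₁ : Set G)).relIndex
      (centralizer ({M₁.e ss} : Set G))) :
    zc ((S : Subgroup G) ⊓ normalizer (V₁ : Set G)) ≤ zc (o2 (CZ (S : Subgroup G))) := by
  intro x hx
  obtain ⟨h1, h2, h3⟩ := mem_zc.1 hx
  have hzm : M₁.e ss * M₂.e ss ∈ zc ((S : Subgroup G) ⊓ normalizer (V₁ : Set G)) := mul_mem w.s₁_mem w.s₂_mem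
  have h4 : ∀ y ∈ o2 (CZ (S : Subgroup G)), y * x = x * y := fun y hy => by
    rw [w.CZ_eq] at hy
    exact h2 y (w.o2_C_le htri hzm w.z_ne hy)
  refine mem_zc.2 ⟨?_, h4, h3⟩
  have hne : (S : Subgroup G) ≠ ⊥ := fun h => s_ne M₁ (by
      have h1 := w.V₁_le_S (M₁.e_mem ss)
      rw [h, mem_bot] at h1
      exact h1)
  apply (isLoc_centralizer_zc S hne).char2 S w.hG
  exact ⟨w.mem_CZ.2 (zc_comm _ x hx _ hzm), mem_centralizer_iff.2 h4⟩

theorem card_Y₀ : Nat.card (zc ((S : Subgroup G) ⊓ normalizer (V₁ : Set G))) = 4 := by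
  classical
  have h1 : (zc ((S : Subgroup G) ⊓ normalizer (V₁ : Set G)) : Set G) =
      (({1, M₁.e ss, M₂.e ss, M₁.e ss * M₂.e ss} : Finset G) : Set G) := by
    ext x
    rw [SetLike.mem_coe, Finset.mem_coe, Finset.mem_insert, Finset.mem_insert, Finset.mem_insert,
      Finset.mem_singleton]
    constructor
    · exact fun hx => w.zS₁_le hx
    · rintro (rfl | rfl | rfl | rfl)
      · exact one_mem _
      · exact w.s₁_mem
      · exact w.s₂_mem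
      · exact mul_mem w.s₁_mem w.s₂_mem
  have h2 : Nat.card (zc ((S : Subgroup G) ⊓ normalizer (V₁ : Set G))) =
      (zc ((S : Subgroup G) ⊓ normalizer (V₁ : Set G)) : Set G).ncard := Nat.card_coe_set_eq _
  rw [h2, h1, Set.ncard_coe_finset, Finset.card_insert_of_notMem, Finset.card_insert_of_notMem,
    Finset.card_insert_of_notMem, Finset.card_singleton]
  · rw [Finset.mem_singleton]
    intro h3
    exact s_ne M₁ (mul_eq_right.1 h3.symm)
  · rw [Finset.mem_insert, Finset.mem_singleton]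
    rintro (h3 | h3)
    · exact w.s_ne_s h3
    · exact s_ne M₂ (mul_eq_left.1 h3.symm)
  · rw [Finset.mem_insert, Finset.mem_insert, Finset.mem_singleton]
    rintro (h3 | h3 | h3)
    · exact s_ne M₁ h3.symm
    · exact s_ne M₂ h3.symm
    · exact w.z_ne h3.symm

/-- the four-group `Y₀` as `V_{P₃}` -/
theorem exists_P₃ (htri : 2 ∣ ((S : Subgroup G) ⊓ normalizer (V₁ : Set G)).relIndex
      (centralizer ({M₁.e ss} : Set G))) :
    ∃ P₃ : Subgroup G, IsParS (S : Subgroup G) P₃ ∧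
      P₃ ≤ normalizer (((S : Subgroup G) ⊓ normalizer (V₁ : Set G) : Subgroup G) : Set G) ∧
      zl (S : Subgroup G) P₃ = zc ((S : Subgroup G) ⊓ normalizer (V₁ : Set G)) ∧
      (∀ y ∈ zc ((S : Subgroup G) ⊓ normalizer (V₁ : Set G)), y ≠ 1 →
        ∃ g ∈ P₃, g * (M₁.e ss * M₂.e ss) * g⁻¹ = y) ∧
      WW (S : Subgroup G) P₃ ≤ centralizer (WW (S : Subgroup G) P₃ : Set G) := by
  set S₁ := (S : Subgroup G) ⊓ normalizer (V₁ : Set G) with hS₁
  have h2 : IsPGroup 2 S₁ := S.isPGroup'.to_le inf_le_left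
  have hzm : M₁.e ss * M₂.e ss ∈ zc S₁ := mul_mem w.s₁_mem w.s₂_mem
  have hS1 : S₁ ≠ ⊥ := fun h => s_ne M₁ (by
      have h1 := w.V₁_le_S₁ (M₁.e_mem ss)
      rw [← hS₁, h, mem_bot] at h1
      exact h1)
  have hloc : IsLoc (S : Subgroup G) (normalizer (S₁ : Set G)) :=
    isLoc_normalizer S h2 hS1 w.S_le_normalizer
  obtain ⟨s, hs, p, q, hsw⟩ := w.swap
  have hs1 := w.sw_ss w.S_le hs hsw
  have hnot : ¬ normalizer (S₁ : Set G) ≤ normalizer (zc (S : Subgroup G) : Set G) := by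
    intro h
    obtain ⟨g, hg, h3⟩ := w.exists_conj htri hzm w.z_ne
    have h4 := (mem_normalizer_iff.1 (h (inv_mem hg)) _).1 w.z_mem_zcS
    have h5 : g⁻¹ * (M₁.e ss * M₂.e ss) * g⁻¹⁻¹ = M₁.e ss := by rw [← h3]; group
    rw [h5] at h4
    rcases w.zS_le h4 with h6 | h6
    · exact s_ne M₁ h6
    · exact s_ne M₂ (mul_eq_left.1 h6.symm)
  obtain ⟨P₃, hP, hPL, hPn⟩ := hloc.exists_not_le S
    (inf_le_right.trans (normalizer_le_normalizer_zc _)) hnot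
  have hPS : IsParS (S : Subgroup G) P₃ := ⟨hP, hPn⟩
  have hPY : P₃ ≤ normalizer (zc S₁ : Set G) := hPL.trans (normalizer_le_normalizer_zc _)
  have hSP := hPS.isLoc.le
  -- some element of `P₃` moves `z`
  obtain ⟨g, hg, hgz⟩ : ∃ g ∈ P₃, g * (M₁.e ss * M₂.e ss) * g⁻¹ ≠ M₁.e ss * M₂.e ss := by
    by_contra hcon
    push Not at hcon
    apply hPS.not_zc
    intro k hk
    refine MinSimple.VModule.mem_normalizer_of_map_le ?_
    rintro _ ⟨x, hx, rfl⟩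
    show k * x * k⁻¹ ∈ zc (S : Subgroup G)
    rcases w.zS_le hx with rfl | rfl
    · rw [mul_one, mul_inv_cancel]; exact one_mem _
    · rw [hcon k hk]; exact hx
  have htr : ∀ y ∈ zc S₁, y ≠ 1 → ∃ g ∈ P₃, g * (M₁.e ss * M₂.e ss) * g⁻¹ = y := by
    have h3 : ∃ g ∈ P₃, g * (M₁.e ss * M₂.e ss) * g⁻¹ = M₁.e ss := by
      rcases w.zS₁_le ((mem_normalizer_iff.1 (hPY hg) _).1 hzm) with h4 | h4 | h4 | h4
      · rw [mul_inv_eq_one, mul_eq_left] at h4
        exact absurd h4 w.z_ne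
      · exact ⟨g, hg, h4⟩
      · refine ⟨s⁻¹ * g, mul_mem (inv_mem (hSP hs)) hg, ?_⟩
        have h5 : s⁻¹ * g * (M₁.e ss * M₂.e ss) * (s⁻¹ * g)⁻¹ =
            s⁻¹ * (g * (M₁.e ss * M₂.e ss) * g⁻¹) * s := by group
        rw [h5, h4, ← hs1]; group
      · exact absurd h4 hgz
    obtain ⟨g, hg, h3⟩ := h3
    intro y hy hy1
    rcases w.zS₁_le hy with h | h | h | h
    · exact absurd h hy1
    · exact ⟨g, hg, by rw [h, h3]⟩
    · refine ⟨s * g, mul_mem (hSP hs) hg, ?_⟩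
      calc s * g * (M₁.e ss * M₂.e ss) * (s * g)⁻¹ = s * (g * (M₁.e ss * M₂.e ss) * g⁻¹) * s⁻¹ := by group
        _ = y := by rw [h3, hs1, h]
    · exact ⟨1, one_mem _, by rw [h]; group⟩
  have hzl : zl (S : Subgroup G) P₃ = zc S₁ := by
    apply le_antisymm
    · apply zl_le _ hPY
      intro x hx
      rcases w.zS_le hx with rfl | rfl
      · exact one_mem _
      · exact hzm
    · intro y hy
      by_cases hy1 : y = 1
      · rw [hy1]; exact one_mem _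
      obtain ⟨g, hg, rfl⟩ := htr y hy hy1
      exact (mem_normalizer_iff.1 (le_normalizer_zl _ _ hg) _).1 (zc_le_zl _ _ w.z_mem_zcS)
  refine ⟨P₃, hPS, hPL, hzl, htr, ?_⟩
  have h1 : WW (S : Subgroup G) P₃ ≤ zc (o2 (CZ (S : Subgroup G))) := by
    refine NoFF.Lines.W_le fun Q hQ c hc => ?_
    rw [Set.mem_singleton_iff.1 hQ]
    have h2 : zl (S : Subgroup G) P₃ ≤ zc (o2 (CZ (S : Subgroup G))) := by
      rw [hzl]
      exact w.zc_le_zc htri
    rintro _ ⟨x, hx, rfl⟩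
    have h3 := normalizer_le_normalizer_zc _ (le_normalizer_o2 _ hc)
    exact (mem_normalizer_iff.1 h3 x).1 (h2 hx)
  intro x hx
  rw [mem_centralizer_iff]
  intro y hy
  exact zc_comm _ y (h1 hy) x (h1 hx)

/-- **The local subgroup `H` of the triangle.** -/
structure TriH (_ : Wr S P M₁ M₂) (H : Subgroup G) : Prop where
  loc : IsLoc (S : Subgroup G) H
  nor : normalizer (((S : Subgroup G) ⊓ normalizer (V₁ : Set G) : Subgroup G) : Set G) ≤ H
  cen : ∀ y ∈ zc ((S : Subgroup G) ⊓ normalizer (V₁ : Set G)), y ≠ 1 → centralizer ({y} : Set G) ≤ H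

/-- `⟨P₃, C_G(z)⟩ ≤ H` -/
theorem triH_of {P₃ H : Subgroup G} (hloc : IsLoc (S : Subgroup G) H) (hP : P₃ ≤ H)
    (hC : CZ (S : Subgroup G) ≤ H)
    (htr : ∀ y ∈ zc ((S : Subgroup G) ⊓ normalizer (V₁ : Set G)), y ≠ 1 →
        ∃ g ∈ P₃, g * (M₁.e ss * M₂.e ss) * g⁻¹ = y) : TriH w H := by
  have hzm : M₁.e ss * M₂.e ss ∈ zc ((S : Subgroup G) ⊓ normalizer (V₁ : Set G)) := mul_mem w.s₁_mem w.s₂_mem
  refine ⟨hloc, fun n hn => ?_, fun y hy hy1 => ?_⟩
  · have h1 := (mem_normalizer_iff.1 (normalizer_le_normalizer_zc _ hn) _).1 hzm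
    have h2 : n * (M₁.e ss * M₂.e ss) * n⁻¹ ≠ 1 := by
      rw [Ne, mul_inv_eq_one, mul_eq_left]
      exact w.z_ne
    obtain ⟨g, hg, h3⟩ := htr _ h1 h2
    have h4 : g⁻¹ * n ∈ CZ (S : Subgroup G) := by
      rw [w.mem_CZ]
      calc g⁻¹ * n * (M₁.e ss * M₂.e ss) = g⁻¹ * (n * (M₁.e ss * M₂.e ss) * n⁻¹) * n := by group
        _ = M₁.e ss * M₂.e ss * (g⁻¹ * n) := by rw [← h3]; group
    have h5 : n = g * (g⁻¹ * n) := by group
    rw [h5]
    exact mul_mem (hP hg) (hC h4)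
  · obtain ⟨g, hg, rfl⟩ := htr y hy hy1
    intro x hx
    rw [mem_C] at hx
    have h4 : g⁻¹ * x * g ∈ CZ (S : Subgroup G) := by
      rw [w.mem_CZ]
      calc g⁻¹ * x * g * (M₁.e ss * M₂.e ss) = g⁻¹ * (x * (g * (M₁.e ss * M₂.e ss) * g⁻¹)) * g := by group
        _ = M₁.e ss * M₂.e ss * (g⁻¹ * x * g) := by rw [hx]; group
    have h5 : x = g * (g⁻¹ * x * g) * g⁻¹ := by group
    rw [h5]
    exact mul_mem (mul_mem (hP hg) (hC h4)) (inv_mem (hP hg))

/-- **(1)** The triangle leads to NO-3S with `|V_P| = 4`, or to a local subgroup `H` with `TriH w H`. -/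
theorem known_of_tri {K : Cls.{u}} (hK : NO3S.Two K) (hKG : K G) (hG : Ctx G)
    (hF : Full (S : Subgroup G)) (htri : 2 ∣ ((S : Subgroup G) ⊓ normalizer (V₁ : Set G)).relIndex
      (centralizer ({M₁.e ss} : Set G))) (hH : ∀ H : Subgroup G, TriH w H → False) : IsKnownSimple' G := by
  obtain ⟨P₃, hP, -, hzl, htr, hW⟩ := w.exists_P₃ htri
  have hcard : Nat.card (zl (S : Subgroup G) P₃) = 4 := by rw [hzl, w.card_Y₀]
  have hn : NonLoc P₃ (CZ (S : Subgroup G)) := by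
    intro U hU hPU hCU
    by_contra hU1
    exact hH _ (w.triH_of (isLoc_normalizer S hU hU1 (hP.isLoc.le.trans hPU)) hPU hCU htr)
  exact hK G hKG S P₃ (Hyp.of_four hG hP hn hcard hF hW) hcard

end fin

end Wr

end Cfsg.Agent.Omega.IId.LFour
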