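import Cfsg.Agent.Omega.IId.LFour.NoTri
import Cfsg.Agent.Omega.IId.LFour.Petersen

/-!
# `Ω₁(Z(C_S(n)))`, `V_P` a sum of two even-subset modules of degree 5 (helper774)

`w : Wr S P M₁ M₂`, `T = C_S(n)`: `Ω₁(Z(T)) = ⟨n, a, σ₂⟩` (`Wr.zT_cases`), by a transfer argument for the
`S₅`-module `Ω₁(Z(O₂(P))) ∩ C(S ∩ L₂)` (`Petersen.lean`).
-/

set_option autoImplicit false
set_option linter.unusedSectionVars false

namespace Cfsg.Agent.Omega.IId.LFour

open Subgroup Pointwise Cfsg Cfsg.Agent.Omega.MinPar Cfsg.Agent.Omega.FFThm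
open Cfsg.Agent.ZN (o2 zc jj zj zl zc_map)
open Cfsg.Agent.ZN.ChoiceBase (cj mem_cj)
open Cfsg.Agent.Omega.S5.Mod Cfsg.Agent.Omega.S5.TT
open Cfsg.Agent.Omega.S5.TT.Pos (na ns as sn n_ne s_ne a_ne n_ne_a n_ne_s a_ne_s e_sq' mem_C)
open Cfsg.Agent.MinSimple.VModule (mem_zc zc_le zc_comm zc_sq zc_le_zl le_normalizer_o2 o2_isPGroup o2_le
  normalizer_le_normalizer_zc le_normalizer_zl zl_le le_o2 le_centralizer_zc)
open Petersen (Pm)

universe u

variable {G : Type u} [Group G]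

theorem d8_words : ∀ p : Pm, p * dd = dd * p → p = 1 ∨ p = Equiv.swap 0 1 ∨ p = Equiv.swap 2 3 ∨
    p = Equiv.swap 0 1 * Equiv.swap 2 3 ∨ p = Petersen.xx ∨ p = Petersen.xx * Equiv.swap 0 1 ∨
    p = Petersen.xx * Equiv.swap 2 3 ∨ p = Petersen.xx * (Equiv.swap 0 1 * Equiv.swap 2 3) := by
  decide +kernel

theorem single_nn : (Pi.single 0 1 + Pi.single 1 1 : Vec) = nn := by decide

namespace Wr

variable {S : Sylow 2 G} {P V₁ V₂ L₁ L₂ : Subgroup G} {M₁ : FiveMod V₁ L₁} {M₂ : FiveMod V₂ L₂}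

section fin

variable [Finite G] (w : Wr S P M₁ M₂)
include w

theorem V₁_le_zc : V₁ ≤ zc (o2 P) := w.V₁_le.trans (w.star.isLoc.zl_le S w.hG)

theorem V₂_le_zc : V₂ ≤ zc (o2 P) := w.V₂_le.trans (w.star.isLoc.zl_le S w.hG)

/-- the elements of `L₁` which induce the same permutation induce the same automorphism of `Ω₁(Z(O₂(P)))` -/
theorem conj_eq_of_ind {l l' u : G} (hl : l ∈ L₁) (hl' : l' ∈ L₁) {p : Pm} (h : M₁.Ind l p)
    (h' : M₁.Ind l' p) (hu : u ∈ zc (o2 P)) : l * u * l⁻¹ = l' * u * l'⁻¹ := by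
  have h1 : M₁.Ind (l'⁻¹ * l) 1 := by
    have := h'.inv.mul h
    rwa [inv_mul_cancel] at this
  have h2 : l'⁻¹ * l ∈ L₁ := mul_mem (inv_mem hl') hl
  have h3 : l'⁻¹ * l ∈ P ⊓ centralizer (zl (S : Subgroup G) P : Set G) := by
    refine ⟨w.L₁_le h2, ?_⟩
    rw [w.sup]
    have h4 : V₁ ⊔ V₂ ≤ centralizer ({l'⁻¹ * l} : Set G) :=
      sup_le (fun v hv => mem_C.2 (mem_centralizer_iff.1 (FiveMod.ind_one_iff.1 h1) v hv))
        fun v hv => mem_C.2 (w.L₁_comm h2 hv).symm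
    exact mem_centralizer_iff.2 fun v hv => mem_C.1 (h4 hv)
  have h5 := (mem_centralizer_iff.1 (le_centralizer_zc_o2 w.hG S w.star h3) _ hu)
  calc l * u * l⁻¹ = l' * ((l'⁻¹ * l) * u) * (l'⁻¹ * l)⁻¹ * l'⁻¹ := by group
    _ = l' * (u * (l'⁻¹ * l)) * (l'⁻¹ * l)⁻¹ * l'⁻¹ := by rw [h5]
    _ = l' * u * l'⁻¹ := by group

theorem L₁_norm_zc {l u : G} (hl : l ∈ L₁) (hu : u ∈ zc (o2 P)) : l * u * l⁻¹ ∈ zc (o2 P) :=
  (mem_normalizer_iff.1 (((le_normalizer_o2 P).trans (normalizer_le_normalizer_zc _)) (w.L₁_le hl)) u).1 hu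

/-- `Ω₁(Z(O₂(P))) ∩ C(S ∩ L₂)` is invariant under `L₁` -/
theorem conj_AA {l u : G} (hl : l ∈ L₁)
    (hu : u ∈ zc (o2 P) ⊓ centralizer (((S : Subgroup G) ⊓ L₂ : Subgroup G) : Set G)) :
    l * u * l⁻¹ ∈ zc (o2 P) ⊓ centralizer (((S : Subgroup G) ⊓ L₂ : Subgroup G) : Set G) := by
  refine ⟨w.L₁_norm_zc hl hu.1, mem_centralizer_iff.2 fun t ht => ?_⟩
  have h1 := w.comm_LL hl ht.2 hu.1
  have h2 := mem_centralizer_iff.1 hu.2 t ht
  calc t * (l * u * l⁻¹) = l * (l⁻¹ * (t * l * t⁻¹)) * (t * u) * l⁻¹ := by group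
    _ = l * ((l⁻¹ * (t * l * t⁻¹)) * u) * t * l⁻¹ := by rw [h2]; group
    _ = l * (u * (l⁻¹ * (t * l * t⁻¹))) * t * l⁻¹ := by rw [h1]
    _ = l * u * l⁻¹ * t := by group

/-- the data of the transfer argument -/
theorem transfer {y : G} (hy : y ∈ zc (o2 P) ⊓ centralizer (((S : Subgroup G) ⊓ L₂ : Subgroup G) : Set G))
    (h01 : ∀ l ∈ L₁, M₁.Ind l (Equiv.swap 0 1) → l * y * l⁻¹ = y)
    (h23 : ∀ l ∈ L₁, M₁.Ind l (Equiv.swap 2 3) → l * y * l⁻¹ = y) :
    ∃ v, (v = 1 ∨ v = M₁.e ss ∨ v = M₂.e ss ∨ v = M₁.e ss * M₂.e ss) ∧ (y = v ∨ y = M₁.e nn * v) := by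
  set A := zc (o2 P) ⊓ centralizer (((S : Subgroup G) ⊓ L₂ : Subgroup G) : Set G) with hA
  let cg : CommGroup A := { (inferInstance : Group A) with
    mul_comm := fun a b => Subtype.ext (zc_comm _ _ a.2.1 _ b.2.1) }
  choose lf hlf hli using fun p : Pm => M₁.exists_lift p
  have hli : ∀ p, M₁.Ind (lf p) p := hli
  let ρ : Pm → A →* A := fun p =>
    { toFun := fun a => ⟨lf p * a * (lf p)⁻¹, w.conj_AA (hlf p) a.2⟩
      map_one' := Subtype.ext (by
        show lf p * ((1 : A) : G) * (lf p)⁻¹ = 1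
        rw [OneMemClass.coe_one]; group)
      map_mul' := fun a b => Subtype.ext (by
        show lf p * ((a * b : A) : G) * (lf p)⁻¹ = lf p * a * (lf p)⁻¹ * (lf p * b * (lf p)⁻¹)
        rw [Subgroup.coe_mul]; group) }
  have hρ : ∀ p (a : A), ((ρ p a : A) : G) = lf p * a * (lf p)⁻¹ := fun _ _ => rfl
  have hmem1 : ∀ x, M₁.e x ∈ A := fun x =>
    ⟨w.V₁_le_zc (M₁.e_mem x), mem_centralizer_iff.2 fun t ht => w.L₂_comm ht.2 (M₁.e_mem x)⟩
  have hmem2 : M₂.e ss ∈ A := ⟨w.V₂_le_zc (M₂.e_mem ss), mem_centralizer_iff.2 fun t ht =>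
    w.symm.comm_ss w.S_le ht.1 (M₂.le_normalizer ht.2)⟩
  let s : Fin 5 → A := fun i => ⟨M₁.e (Pi.single i 1), hmem1 _⟩
  let τ : A := ⟨M₂.e ss, hmem2⟩
  have key : ∀ (p : Pm) (a : A) (l : G), l ∈ L₁ → M₁.Ind l p → ((ρ p a : A) : G) = l * a * l⁻¹ :=
    fun p a l hl hi => w.conj_eq_of_ind (hlf p) hl (hli p) hi a.2.1
  have dat : Petersen.Dat ρ s τ :=
    { sq := fun a => Subtype.ext (by
        show (a : G) * a = 1
        rw [← pow_two]; exact (mem_zc.1 a.2.1).2.2)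
      one := fun a => Subtype.ext (by
        rw [key 1 a 1 (one_mem _) M₁.ind_one]; group)
      mul := fun p q a => Subtype.ext (by
        rw [key (p * q) a (lf p * lf q) (mul_mem (hlf p) (hlf q)) ((hli p).mul (hli q)), hρ, hρ]; group)
      perm := fun p i => Subtype.ext (by
        show lf p * M₁.e (Pi.single i 1) * (lf p)⁻¹ = M₁.e (Pi.single (p i) 1)
        rw [hli p, FiveMod.single_comp])
      prod := Subtype.ext (by
        show M₁.e (Pi.single 0 1) * M₁.e (Pi.single 1 1) * M₁.e (Pi.single 2 1) * M₁.e (Pi.single 3 1) *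
          M₁.e (Pi.single 4 1) = 1
        rw [← M₁.e_add, ← M₁.e_add, ← M₁.e_add, ← M₁.e_add, sum_single, M₁.e_one])
      fixτ := fun p => Subtype.ext (by
        show lf p * M₂.e ss * (lf p)⁻¹ = M₂.e ss
        rw [w.L₁_comm (hlf p) (M₂.e_mem ss), mul_inv_cancel_right])
      τ_ne := fun h => s_ne M₂ (congrArg Subtype.val h)
      fix := by
        intro u h1 h2 h3
        have hword : ∀ p : Pm, p * dd = dd * p → ρ p u = u := by
          intro p hp
          have m : ∀ {p q : Pm}, ρ p u = u → ρ q u = u → ρ (p * q) u = u := by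
            intro p q hp hq
            apply Subtype.ext
            rw [key (p * q) u (lf p * lf q) (mul_mem (hlf p) (hlf q)) ((hli p).mul (hli q))]
            have e1 : lf p * u * (lf p)⁻¹ = u := congrArg Subtype.val hp
            have e2 : lf q * u * (lf q)⁻¹ = u := congrArg Subtype.val hq
            calc lf p * lf q * u * (lf p * lf q)⁻¹ = lf p * (lf q * u * (lf q)⁻¹) * (lf p)⁻¹ := by group
              _ = u := by rw [e2, e1]
          rcases d8_words p hp with rfl | rfl | rfl | rfl | rfl | rfl | rfl | rfl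
          · apply Subtype.ext
            rw [key 1 u 1 (one_mem _) M₁.ind_one]; group
          · exact h1
          · exact h2
          · exact m h1 h2
          · exact h3
          · exact m h3 h1
          · exact m h3 h2
          · exact m h3 (m h1 h2)
        have hz : (u : G) ∈ zc ((S : Subgroup G) ⊓ normalizer (V₁ : Set G)) := by
          refine mem_zc.2 ⟨w.T_le (w.o2P_le_T (zc_le _ u.2.1)), fun b hb => ?_, (mem_zc.1 u.2.1).2.2⟩
          obtain ⟨p, q, hp, hq⟩ := w.ind_of_norm (w.S_le hb.1) hb.2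
          obtain ⟨t, ht, hti⟩ := w.d₂' q (w.symm.dS w.S_le hb.1 hq)
          have hbt : M₂.Ind (b * t⁻¹) 1 := by
            have := hq.mul hti.inv
            rwa [mul_inv_cancel] at this
          have hb1 : b * t⁻¹ ∈ L₁ := w.mem_L₁ (mul_mem (w.S_le hb.1) (inv_mem (w.S_le ht.1))) fun v hv =>
            (mem_centralizer_iff.1 (FiveMod.ind_one_iff.1 hbt) v hv).symm
          have hb2 : M₁.Ind (b * t⁻¹) p := by
            have := hp.mul (w.ind₁_of_L₂ (inv_mem ht.2))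
            rwa [mul_one] at this
          have e1 : b * t⁻¹ * u * (b * t⁻¹)⁻¹ = u := by
            rw [← key p u _ hb1 hb2, hword p (w.dS w.S_le hb.1 hp)]
          have e2 := mem_centralizer_iff.1 u.2.2 t ht
          rw [mul_inv_eq_iff_eq_mul] at e1
          calc b * u = (b * t⁻¹) * (t * u) := by group
            _ = (b * t⁻¹ * u) * t := by rw [e2]; group
            _ = u * b := by rw [e1]; group
        rcases w.zS₁_le hz with h4 | h4 | h4 | h4
        · exact Or.inl (Subtype.ext h4)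
        · exact Or.inr (Or.inl (Subtype.ext (by rw [h4, ss_eq])))
        · exact Or.inr (Or.inr (Or.inl (Subtype.ext h4)))
        · refine Or.inr (Or.inr (Or.inr (Subtype.ext ?_)))
          show (u : G) = M₁.e (Pi.single 4 1) * M₂.e ss
          rw [h4, ← ss_eq] }
  obtain ⟨v, hv, hyv⟩ := dat.fixed (y := (⟨y, hy⟩ : A))
    (Subtype.ext (h01 _ (hlf _) (hli _))) (Subtype.ext (h23 _ (hlf _) (hli _)))
  refine ⟨v, ?_, ?_⟩
  · rcases hv with rfl | rfl | rfl | rfl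
    · exact Or.inl rfl
    · right; left
      show M₁.e (Pi.single 4 1) = _
      rw [← ss_eq]
    · right; right; left; rfl
    · right; right; right
      show M₁.e (Pi.single 4 1) * M₂.e ss = _
      rw [← ss_eq]
  · rcases hyv with h1 | h1
    · exact Or.inl (congrArg Subtype.val h1)
    · right
      have h2 : y = M₁.e (Pi.single 0 1) * M₁.e (Pi.single 1 1) * v := congrArg Subtype.val h1
      rw [h2, ← M₁.e_add, single_nn]

/-- **`Ω₁(Z(C_S(n))) ≤ ⟨n, a, σ₂⟩`.** -/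
theorem zT_cases {y : G} (hy : y ∈ zc ((S : Subgroup G) ⊓ centralizer ({M₁.e nn} : Set G))) :
    ∃ v, (v = 1 ∨ v = M₁.e ss ∨ v = M₂.e ss ∨ v = M₁.e ss * M₂.e ss) ∧ (y = v ∨ y = M₁.e nn * v) := by
  obtain ⟨hyT, hyc, hy2⟩ := mem_zc.1 hy
  have hyP : y ∈ zc (o2 P) := by
    have h1 : y ∈ o2 P := w.star.isLoc.char2 S w.hG ⟨w.S_le hyT.1, mem_centralizer_iff.2 fun t ht =>
      hyc t (w.o2P_le_T ht)⟩
    exact mem_zc.2 ⟨h1, fun t ht => hyc t (w.o2P_le_T ht), hy2⟩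
  have h0 : y ∈ zc (o2 P) ⊓ centralizer (((S : Subgroup G) ⊓ L₂ : Subgroup G) : Set G) :=
    ⟨hyP, mem_centralizer_iff.2 fun t ht => hyc t ⟨ht.1, w.L₂_le_C ht.2⟩⟩
  have key : ∀ p : Pm, TTp p → ∀ l ∈ L₁, M₁.Ind l p → l * y * l⁻¹ = y := by
    intro p hp l hl hi
    obtain ⟨t, ht, hti⟩ := w.d₁' p (ttp_dd p hp)
    rw [w.conj_eq_of_ind hl ht.2 hi hti hyP, hyc t (mem_T_of_ind ht.1 hp hti), mul_inv_cancel_right]
  exact w.transfer h0 (key _ (Or.inr (Or.inl rfl))) (key _ (Or.inr (Or.inr (Or.inl rfl))))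

end fin

end Wr

end Cfsg.Agent.Omega.IId.LFour
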