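import Cfsg.Agent.Omega.IId.LFour.ZTn
import Cfsg.Agent.Omega.IId.LFour.ThreeLin
import Cfsg.Agent.Omega.IId.LFour.AFive

/-!
# The action of `N_G(C_S(n))` on `Ω₁(Z(C_S(n)))` (helper774; text helper644 #19215)

`w : Wr S P M₁ M₂`, `T = C_S(n)`, `S₁ = N_S(V₁)`, `ζ (i, j, k) = n^i a^j σ₂^k`.

* `Wr.S₁_syl_N` : `S₁` is a Sylow 2-subgroup of `N_G(T)`;
* `Wr.act_props` : `g ∈ N_G(T) ∖ T`, `T⟨g⟩` a 2-group: `g` acts on `Ω₁(Z(T))` as an involution `m` with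
  `(x m)³ = 1`, and `|T⟨g⟩| = 2|T|`.
-/

set_option autoImplicit false
set_option linter.unusedSectionVars false

namespace Cfsg.Agent.Omega.IId.LFour

open Subgroup Pointwise Cfsg Cfsg.Agent.Omega.MinPar Cfsg.Agent.Omega.FFThm
open Cfsg.Agent.ZN (o2 zc jj zj zl zc_map)
open Cfsg.Agent.ZN.ChoiceBase (cj mem_cj)
open Cfsg.Agent.Omega.S5.Mod Cfsg.Agent.Omega.S5.TT
open Cfsg.Agent.Omega.S5.TT.Pos (na ns as sn n_ne s_ne a_ne n_ne_a n_ne_s a_ne_s e_sq' mem_C)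
open Cfsg.Agent.MinSimple.VModule (mem_zc zc_le zc_comm zc_sq zc_le_zl le_normalizer_o2 o2_isPGroup o2_le
  normalizer_le_normalizer_zc le_normalizer_zl zl_le le_o2 le_centralizer_zc)
open Cfsg.Agent.Omega.TwoFFour (Syl2)
open ThreeLin (V3 M3 lin comp e0 e1 e2 idt xt p3 p12)

universe u

variable {G : Type u} [Group G]

/-- the `V₁`-part -/
def f1 (v : V3) : Vec := ![v.1, v.1, v.2.1, v.2.1, 0]

/-- the `V₂`-part -/
def g1 (v : V3) : Vec := ![0, 0, 0, 0, v.2.2]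

theorem pow_twelve (y : G) : y ^ 12 = y * (y * y) * (y * (y * y)) * (y * (y * y) * (y * (y * y))) := by
  simp only [pow_succ, pow_zero, one_mul, mul_assoc]

theorem pow_three_eq (y : G) : y ^ 3 = y * (y * y) := by
  simp only [pow_succ, pow_zero, one_mul, mul_assoc]

theorem f1_add : ∀ u v : V3, f1 (u + v) = f1 u + f1 v := by decide +kernel

theorem g1_add : ∀ u v : V3, g1 (u + v) = g1 u + g1 v := by decide +kernel

theorem fg_inj : ∀ u v : V3, (f1 u = f1 v ∨ f1 u = f1 v + 1) → (g1 u = g1 v ∨ g1 u = g1 v + 1) → u = v := by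
  decide +kernel

variable {S : Sylow 2 G} {P V₁ V₂ L₁ L₂ : Subgroup G}

/-- `ζ (i, j, k) = n^i a^j σ₂^k` -/
def zet (M₁ : FiveMod V₁ L₁) (M₂ : FiveMod V₂ L₂) (v : V3) : G := M₁.e (f1 v) * M₂.e (g1 v)

/-- `g` acts on `Ω₁(Z(T))` as `t` -/
def Act (M₁ : FiveMod V₁ L₁) (M₂ : FiveMod V₂ L₂) (g : G) (t : M3) : Prop :=
  ∀ v, g * zet M₁ M₂ v * g⁻¹ = zet M₁ M₂ (lin t v)

variable {M₁ : FiveMod V₁ L₁} {M₂ : FiveMod V₂ L₂}

theorem zet_zero : zet M₁ M₂ 0 = 1 := by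
  have h1 : f1 0 = 0 := by decide
  have h2 : g1 0 = 0 := by decide
  rw [zet, h1, h2, M₁.e_zero, M₂.e_zero, mul_one]

theorem zet_e0 : zet M₁ M₂ e0 = M₁.e nn := by
  have h1 : f1 e0 = nn := by decide
  have h2 : g1 e0 = 0 := by decide
  rw [zet, h1, h2, M₂.e_zero, mul_one]

theorem zet_e1 : zet M₁ M₂ e1 = M₁.e aa := by
  have h1 : f1 e1 = aa := by decide
  have h2 : g1 e1 = 0 := by decide
  rw [zet, h1, h2, M₂.e_zero, mul_one]

theorem zet_e2 : zet M₁ M₂ e2 = M₂.e ss := by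
  have h1 : f1 e2 = 0 := by decide
  have h2 : g1 e2 = ss := by decide
  rw [zet, h1, h2, M₁.e_zero, one_mul]

theorem zet_s : zet M₁ M₂ (1, 1, 0) = M₁.e ss := by
  have h1 : M₁.e (f1 (1, 1, 0)) = M₁.e ss := M₁.e_eq_iff.2 (by decide)
  have h2 : g1 (1, 1, 0) = 0 := by decide
  rw [zet, h1, h2, M₂.e_zero, mul_one]

theorem zet_z : zet M₁ M₂ (1, 1, 1) = M₁.e ss * M₂.e ss := by
  have h1 : M₁.e (f1 (1, 1, 1)) = M₁.e ss := M₁.e_eq_iff.2 (by decide)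
  have h2 : g1 (1, 1, 1) = ss := by decide
  rw [zet, h1, h2]

theorem Act.mul {g h : G} {t u : M3} (hg : Act M₁ M₂ g t) (hh : Act M₁ M₂ h u) :
    Act M₁ M₂ (g * h) (comp t u) := by
  intro v
  rw [ThreeLin.lin_comp, ← hg, ← hh]
  group

theorem Act.e0 {g : G} {t : M3} (hg : Act M₁ M₂ g t) : g * M₁.e nn * g⁻¹ = zet M₁ M₂ t.1 := by
  rw [← zet_e0 (M₁ := M₁) (M₂ := M₂), hg, ThreeLin.lin_e0]

theorem Act.e1 {g : G} {t : M3} (hg : Act M₁ M₂ g t) : g * M₁.e aa * g⁻¹ = zet M₁ M₂ t.2.1 := by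
  rw [← zet_e1 (M₁ := M₁) (M₂ := M₂), hg, ThreeLin.lin_e1]

theorem Act.e2 {g : G} {t : M3} (hg : Act M₁ M₂ g t) : g * M₂.e ss * g⁻¹ = zet M₁ M₂ t.2.2 := by
  rw [← zet_e2 (M₁ := M₁) (M₂ := M₂), hg, ThreeLin.lin_e2]

namespace Wr

section fin

variable [Finite G] (w : Wr S P M₁ M₂)
include w

theorem zet_add (u v : V3) : zet M₁ M₂ (u + v) = zet M₁ M₂ u * zet M₁ M₂ v := by
  have h := w.comm (M₁.e_mem (f1 v)) (M₂.e_mem (g1 u))
  rw [zet, f1_add, g1_add, M₁.e_add, M₂.e_add, zet, zet]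
  calc _ = M₁.e (f1 u) * (M₁.e (f1 v) * M₂.e (g1 u)) * M₂.e (g1 v) := by group
    _ = _ := by rw [h]; group

theorem zet_inj {u v : V3} (h : zet M₁ M₂ u = zet M₁ M₂ v) : u = v := by
  have h1 : (M₁.e (f1 v))⁻¹ * M₁.e (f1 u) = M₂.e (g1 v) * (M₂.e (g1 u))⁻¹ := by
    have h2 : M₁.e (f1 u) * M₂.e (g1 u) = M₁.e (f1 v) * M₂.e (g1 v) := h
    calc (M₁.e (f1 v))⁻¹ * M₁.e (f1 u) = (M₁.e (f1 v))⁻¹ * (M₁.e (f1 u) * M₂.e (g1 u)) * (M₂.e (g1 u))⁻¹ := by
          group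
      _ = _ := by rw [h2]; group
  have h3 : (M₁.e (f1 v))⁻¹ * M₁.e (f1 u) = 1 :=
    w.V₁_ne_V₂ (mul_mem (inv_mem (M₁.e_mem _)) (M₁.e_mem _))
      (by rw [h1]; exact mul_mem (M₂.e_mem _) (inv_mem (M₂.e_mem _)))
  rw [h3] at h1
  exact fg_inj u v (M₁.e_eq_iff.1 (inv_mul_eq_one.1 h3).symm) (M₂.e_eq_iff.1 (mul_inv_eq_one.1 h1.symm).symm)

theorem zet_sq (v : V3) : zet M₁ M₂ v * zet M₁ M₂ v = 1 := by
  rw [← w.zet_add]
  have : ∀ v : V3, v + v = 0 := by decide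
  rw [this, zet_zero]

theorem act_unique {g : G} {t u : M3} (ht : Act M₁ M₂ g t) (hu : Act M₁ M₂ g u) : t = u :=
  ThreeLin.ext_lin fun v => w.zet_inj (by rw [← ht, ← hu])

theorem act_of {g : G} {t : M3} (h0 : g * M₁.e nn * g⁻¹ = zet M₁ M₂ t.1)
    (h1 : g * M₁.e aa * g⁻¹ = zet M₁ M₂ t.2.1) (h2 : g * M₂.e ss * g⁻¹ = zet M₁ M₂ t.2.2) :
    Act M₁ M₂ g t := by
  intro v
  rw [← zet_e0 (M₁ := M₁) (M₂ := M₂), ← ThreeLin.lin_e0 t] at h0
  rw [← zet_e1 (M₁ := M₁) (M₂ := M₂), ← ThreeLin.lin_e1 t] at h1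
  rw [← zet_e2 (M₁ := M₁) (M₂ := M₂), ← ThreeLin.lin_e2 t] at h2
  have hadd : ∀ u v, g * zet M₁ M₂ (u + v) * g⁻¹ = (g * zet M₁ M₂ u * g⁻¹) * (g * zet M₁ M₂ v * g⁻¹) := by
    intro u v
    rw [w.zet_add]; group
  have k : ∀ (i : ZMod 2) (e : V3), g * zet M₁ M₂ e * g⁻¹ = zet M₁ M₂ (lin t e) →
      g * zet M₁ M₂ (if i = 0 then 0 else e) * g⁻¹ = zet M₁ M₂ (lin t (if i = 0 then 0 else e)) := by
    intro i e he
    split_ifs
    · have h3 : lin t 0 = 0 := by simp [lin]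
      rw [h3, zet_zero]; group
    · exact he
  rw [ThreeLin.decomp v, hadd, hadd, ThreeLin.lin_add, ThreeLin.lin_add, w.zet_add, w.zet_add, k _ _ h0,
    k _ _ h1, k _ _ h2]

theorem a_mem_T : M₁.e aa ∈ (S : Subgroup G) ⊓ centralizer ({M₁.e nn} : Set G) :=
  ⟨w.V₁_le_S (M₁.e_mem aa), mem_C.2 (M₁.e_comm aa nn)⟩

/-- `ζ v ∈ Ω₁(Z(T))` -/
theorem zet_mem (v : V3) : zet M₁ M₂ v ∈ zc ((S : Subgroup G) ⊓ centralizer ({M₁.e nn} : Set G)) := by
  have hn : zet M₁ M₂ e0 ∈ zc ((S : Subgroup G) ⊓ centralizer ({M₁.e nn} : Set G)) := by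
    rw [zet_e0]
    exact mem_zc.2 ⟨w.n_mem_T, fun y hy => mem_C.1 hy.2, e_sq' M₁ nn⟩
  have ha : zet M₁ M₂ e1 ∈ zc ((S : Subgroup G) ⊓ centralizer ({M₁.e nn} : Set G)) := by
    rw [zet_e1]
    exact mem_zc.2 ⟨w.a_mem_T, fun y hy => w.T_comm_a hy, e_sq' M₁ aa⟩
  have hs : zet M₁ M₂ e2 ∈ zc ((S : Subgroup G) ⊓ centralizer ({M₁.e nn} : Set G)) := by
    rw [zet_e2]
    exact mem_zc.2 ⟨w.V₂_le_T (M₂.e_mem ss), fun y hy => w.T_comm_s₂ hy, e_sq' M₂ ss⟩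
  have k : ∀ (i : ZMod 2) (e : V3), zet M₁ M₂ e ∈ zc ((S : Subgroup G) ⊓ centralizer ({M₁.e nn} : Set G)) →
      zet M₁ M₂ (if i = 0 then 0 else e) ∈ zc ((S : Subgroup G) ⊓ centralizer ({M₁.e nn} : Set G)) := by
    intro i e he
    split_ifs
    · rw [zet_zero]; exact one_mem _
    · exact he
  rw [ThreeLin.decomp v, w.zet_add, w.zet_add]
  exact mul_mem (mul_mem (k _ _ hn) (k _ _ ha)) (k _ _ hs)

/-- `Ω₁(Z(T))` consists of the `ζ v` -/
theorem exists_zet {y : G} (hy : y ∈ zc ((S : Subgroup G) ⊓ centralizer ({M₁.e nn} : Set G))) :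
    ∃ v, y = zet M₁ M₂ v := by
  obtain ⟨v, hv, hyv⟩ := w.zT_cases hy
  have h1 : ∃ u, v = zet M₁ M₂ u := by
    rcases hv with rfl | rfl | rfl | rfl
    · exact ⟨0, zet_zero.symm⟩
    · exact ⟨_, zet_s.symm⟩
    · exact ⟨_, zet_e2.symm⟩
    · exact ⟨_, zet_z.symm⟩
  obtain ⟨u, rfl⟩ := h1
  rcases hyv with rfl | rfl
  · exact ⟨u, rfl⟩
  · exact ⟨e0 + u, by rw [w.zet_add, zet_e0]⟩

theorem exists_act {g : G}
    (hg : g ∈ normalizer (((S : Subgroup G) ⊓ centralizer ({M₁.e nn} : Set G) : Subgroup G) : Set G)) :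
    ∃ t, Act M₁ M₂ g t := by
  have hN := normalizer_le_normalizer_zc _ hg
  obtain ⟨u0, h0⟩ := w.exists_zet ((mem_normalizer_iff.1 hN _).1 (w.zet_mem e0))
  obtain ⟨u1, h1⟩ := w.exists_zet ((mem_normalizer_iff.1 hN _).1 (w.zet_mem e1))
  obtain ⟨u2, h2⟩ := w.exists_zet ((mem_normalizer_iff.1 hN _).1 (w.zet_mem e2))
  rw [zet_e0] at h0
  rw [zet_e1] at h1
  rw [zet_e2] at h2
  exact ⟨(u0, u1, u2), w.act_of h0 h1 h2⟩

theorem act_T {g : G} (hg : g ∈ (S : Subgroup G) ⊓ centralizer ({M₁.e nn} : Set G)) :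
    Act M₁ M₂ g idt := by
  intro v
  rw [ThreeLin.lin_idt, (mem_zc.1 (w.zet_mem v)).2.1 g hg, mul_inv_cancel_right]

theorem act_x {x : G} (hx : x ∈ L₁) (hi : M₁.Ind x tt) : Act M₁ M₂ x xt := by
  refine w.act_of ?_ ?_ ?_
  · rw [tt_n hi]; exact zet_e1.symm
  · rw [tt_a hi]; exact zet_e0.symm
  · rw [w.L₁_comm hx (M₂.e_mem ss), mul_inv_cancel_right]; exact zet_e2.symm

/-- `S₁` normalises `T` -/
theorem S₁_le_N : (S : Subgroup G) ⊓ normalizer (V₁ : Set G) ≤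
    normalizer (((S : Subgroup G) ⊓ centralizer ({M₁.e nn} : Set G) : Subgroup G) : Set G) := by
  obtain ⟨x, hx, hi⟩ := w.exists_x
  have hxN : x ∈ normalizer (((S : Subgroup G) ⊓ centralizer ({M₁.e nn} : Set G) : Subgroup G) : Set G) := by
    refine MinSimple.VModule.mem_normalizer_of_map_le ?_
    rintro _ ⟨l, hl, rfl⟩
    exact w.conj_T hx.1 hi hl
  intro y hy
  rcases w.mem_or₁ hx.1 hi hy with h1 | h1
  · exact le_normalizer h1
  · have h2 := mul_mem (le_normalizer h1) (inv_mem hxN)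
    rwa [mul_inv_cancel_right] at h2

/-- `S₁` is a Sylow 2-subgroup of `C_G(σ₁)` -/
theorem nt : Syl2 ((S : Subgroup G) ⊓ normalizer (V₁ : Set G)) (centralizer ({M₁.e ss} : Set G)) :=
  ⟨fun _ hg => mem_C.2 (w.S₁_comm_s₁ hg), S.isPGroup'.to_le inf_le_left, w.no_tri⟩

/-- a 2-subgroup of `N_G(T)` containing `S₁` is `S₁` -/
theorem S₁_max {R : Subgroup G} (hR2 : IsPGroup 2 R) (hSR : (S : Subgroup G) ⊓ normalizer (V₁ : Set G) ≤ R)
    (hRN : R ≤ normalizer (((S : Subgroup G) ⊓ centralizer ({M₁.e nn} : Set G) : Subgroup G) : Set G)) :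
    R = (S : Subgroup G) ⊓ normalizer (V₁ : Set G) := by
  by_contra hne
  obtain ⟨x, hx, hi⟩ := w.exists_x
  have hxS : x ∈ (S : Subgroup G) ⊓ normalizer (V₁ : Set G) := ⟨hx.1, hi.mem_normalizer⟩
  set T := (S : Subgroup G) ⊓ centralizer ({M₁.e nn} : Set G) with hT
  set S₁ := (S : Subgroup G) ⊓ normalizer (V₁ : Set G) with hS₁
  have hc : Nat.card R ≤ 2 * Nat.card S₁ := by
    have h1 := Half.card_le_sylow S hR2
    rwa [w.card_S₁] at h1
  obtain ⟨r₀, hr₀, hr₀S⟩ : ∃ r ∈ R, r ∉ S₁ := by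
    by_contra hcon
    push Not at hcon
    exact hne (le_antisymm hcon hSR)
  obtain ⟨hn, -⟩ := index_two hSR hc hr₀ hr₀S
  have hσ : zet M₁ M₂ (1, 1, 0) = M₁.e nn * (x * M₁.e nn * x⁻¹) := by
    rw [tt_n hi, ← zet_e0 (M₁ := M₁) (M₂ := M₂), ← zet_e1 (M₁ := M₁) (M₂ := M₂), ← w.zet_add]
    rfl
  have hS₁act : ∀ y ∈ S₁, Act M₁ M₂ y idt ∨ Act M₁ M₂ y xt := by
    intro y hy
    rcases w.mem_or₁ hx.1 hi hy with h1 | h1
    · exact Or.inl (w.act_T h1)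
    · right
      obtain ⟨t, ht⟩ := w.exists_act (w.S₁_le_N hy)
      have h2 : comp t xt = idt := w.act_unique (ht.mul (w.act_x hx.2 hi)) (w.act_T h1)
      have h3 : t = xt := by
        apply ThreeLin.ext_lin
        intro v
        have h4 : lin (comp t xt) (lin xt v) = lin idt (lin xt v) := by rw [h2]
        rw [ThreeLin.lin_comp, ThreeLin.lin_idt, ← ThreeLin.lin_comp xt] at h4
        have h5 : comp xt xt = idt := by decide
        rwa [h5, ThreeLin.lin_idt] at h4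
      rwa [h3] at ht
  have hRC : R ≤ centralizer ({M₁.e ss} : Set G) := by
    intro r hr
    have hy := hn r hr x hxS
    obtain ⟨t, ht⟩ := w.exists_act (hRN hr)
    have h1 : r * M₁.e ss * r⁻¹ = zet M₁ M₂ t.1 * ((r * x * r⁻¹) * zet M₁ M₂ t.1 * (r * x * r⁻¹)⁻¹) := by
      rw [← zet_s (M₁ := M₁) (M₂ := M₂), hσ, ← ht.e0]
      group
    have h2 : r * M₁.e ss * r⁻¹ ≠ 1 := by
      rw [Ne, mul_inv_eq_one, mul_eq_left]
      exact s_ne M₁
    have key : ∀ v : V3, v + lin xt v = 0 ∨ v + lin xt v = (1, 1, 0) := by decide +kernel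
    rcases hS₁act _ hy with h3 | h3
    · exfalso
      rw [h3, ThreeLin.lin_idt, w.zet_sq] at h1
      exact h2 h1
    · rw [h3, ← w.zet_add] at h1
      rcases key t.1 with h4 | h4
      · rw [h4, zet_zero] at h1
        exact absurd h1 h2
      · rw [h4, zet_s] at h1
        exact mem_C.2 (by rwa [mul_inv_eq_iff_eq_mul] at h1)
  exact hne (eq_of_le_of_card_ge hSR (card_le_of_syl w.nt hRC hR2)).symm

/-- **`S₁` is a Sylow 2-subgroup of `N_G(T)`** -/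
theorem S₁_syl_N : Syl2 ((S : Subgroup G) ⊓ normalizer (V₁ : Set G))
    (normalizer (((S : Subgroup G) ⊓ centralizer ({M₁.e nn} : Set G) : Subgroup G) : Set G)) := by
  obtain ⟨R, hSR, hRN, hR2, hRs⟩ := Half.exists_sylow_le (S.isPGroup'.to_le inf_le_left) w.S₁_le_N
  rw [← w.S₁_max hR2 hSR hRN]
  exact ⟨hRN, hR2, hRs⟩

/-- **Step 1.** `g ∈ N_G(T) ∖ T` with `T⟨g⟩` a 2-group. -/
theorem act_props {g : G}
    (hg : g ∈ normalizer (((S : Subgroup G) ⊓ centralizer ({M₁.e nn} : Set G) : Subgroup G) : Set G))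
    (hg2 : IsPGroup 2 ((S : Subgroup G) ⊓ centralizer ({M₁.e nn} : Set G) ⊔ zpowers g : Subgroup G))
    (hgT : g ∉ (S : Subgroup G) ⊓ centralizer ({M₁.e nn} : Set G)) {t : M3} (ht : Act M₁ M₂ g t) :
    comp t t = idt ∧ p3 (comp xt t) = idt ∧
      Nat.card ((S : Subgroup G) ⊓ centralizer ({M₁.e nn} : Set G) ⊔ zpowers g : Subgroup G) =
        2 * Nat.card ((S : Subgroup G) ⊓ centralizer ({M₁.e nn} : Set G) : Subgroup G) := by
  obtain ⟨x, hx, hi⟩ := w.exists_x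
  have hxS : x ∈ (S : Subgroup G) ⊓ normalizer (V₁ : Set G) := ⟨hx.1, hi.mem_normalizer⟩
  have hxT : x ∉ (S : Subgroup G) ⊓ centralizer ({M₁.e nn} : Set G) := by
    intro h0
    have h2 := tt_n hi
    rw [mem_C.1 h0.2, mul_inv_cancel_right] at h2
    exact n_ne_a M₁ h2
  have hN := w.S₁_syl_N
  have hcT := w.card_T₁
  set T := (S : Subgroup G) ⊓ centralizer ({M₁.e nn} : Set G) with hT
  set S₁ := (S : Subgroup G) ⊓ normalizer (V₁ : Set G) with hS₁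
  set R := T ⊔ zpowers g with hR
  have hTR : T ≤ R := le_sup_left
  have hgR : g ∈ R := (le_sup_right : zpowers g ≤ R) (mem_zpowers g)
  have hRN : R ≤ normalizer (T : Set G) := sup_le le_normalizer (by rwa [zpowers_le])
  have hc1 : Nat.card R ≤ 2 * Nat.card T := by
    rw [← hcT]
    exact card_le_of_syl hN hRN hg2
  obtain ⟨-, hR2⟩ := index_two hTR hc1 hgR hgT
  have hgg : g * g ∈ T := by
    by_contra hcon
    have h1 := hR2 _ (mul_mem hgR hgR) hcon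
    rw [inv_mul_cancel_left] at h1
    exact hgT h1
  have htt : comp t t = idt := w.act_unique (ht.mul ht) (w.act_T hgg)
  have hc2 : Nat.card R = 2 * Nat.card T := by
    refine le_antisymm hc1 ?_
    have h1 : Nat.card T * T.relIndex R = Nat.card R := Half.card_mul_relIndex hTR
    have h2 : T.relIndex R ≠ 1 := fun h => hgT ((relIndex_eq_one.1 h) hgR)
    have h3 : T.relIndex R ≠ 0 := fun h => by
      rw [h, mul_zero] at h1
      exact Nat.card_pos.ne h1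
    rw [← h1, mul_comm]
    exact Nat.mul_le_mul_left _ (by omega)
  refine ⟨htt, ?_, hc2⟩
  have hRs : Syl2 R (normalizer (T : Set G)) := syl_of_card hN hRN hg2 (by rw [hc2, hcT])
  have hH : S₁ ⊔ R ≤ normalizer (T : Set G) := sup_le hN.le hRN
  obtain ⟨c, hc, hc1, -⟩ := (hN.mono le_sup_left hH).exists_conj (hRs.mono le_sup_right hH)
  have hcx := hc1 x hxS
  have hcxT : c * x * c⁻¹ ∉ T := by
    intro h0
    exact hxT ((mem_normalizer_iff.1 (hH hc) x).2 h0)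
  have hk := hR2 _ hcx hcxT
  -- the homomorphism
  have hNN : normalizer (T : Set G) ≤ normalizer (zc T : Set G) := normalizer_le_normalizer_zc _
  set φ := (zc T).normalizerMonoidHom with hφ
  have φ1 : ∀ (y : normalizer (zc T : Set G)), φ y = 1 ↔ (y : G) ∈ centralizer (zc T : Set G) := by
    intro y
    rw [← MonoidHom.mem_ker, hφ, normalizerMonoidHom_ker, mem_subgroupOf]
  have φT : ∀ (y : normalizer (zc T : Set G)), (y : G) ∈ T → φ y = 1 := fun y hy =>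
    (φ1 y).2 (le_centralizer_zc _ hy)
  set x' : normalizer (zc T : Set G) := ⟨x, hNN (hN.le hxS)⟩ with hx'
  set g' : normalizer (zc T : Set G) := ⟨g, hNN hg⟩ with hg'
  set K : Subgroup G := ((Subgroup.closure ({φ x', φ g'} : Set (MulAut (zc T)))).comap φ).map
    (normalizer (zc T : Set G)).subtype with hK
  have hTK : T ≤ K := by
    intro y hy
    refine ⟨⟨y, hNN (le_normalizer hy)⟩, ?_, rfl⟩
    have h1 : φ ⟨y, hNN (le_normalizer hy)⟩ = 1 := φT _ hy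
    show φ ⟨y, hNN (le_normalizer hy)⟩ ∈ Subgroup.closure ({φ x', φ g'} : Set (MulAut (zc T)))
    rw [h1]
    exact one_mem _
  have hxK : x ∈ K := ⟨x', subset_closure (Or.inl rfl), rfl⟩
  have hgK : g ∈ K := ⟨g', subset_closure (Or.inr rfl), rfl⟩
  have hS₁K : S₁ ≤ K := by
    intro y hy
    rcases w.mem_or₁ hx.1 hi hy with h1 | h1
    · exact hTK h1
    · have h2 := mul_mem (hTK h1) (inv_mem hxK)
      rwa [mul_inv_cancel_right] at h2
  have hRK : R ≤ K := sup_le hTK (by rwa [zpowers_le])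
  obtain ⟨c', hc', hcc⟩ := sup_le hS₁K hRK hc
  have hc' : φ c' ∈ Subgroup.closure ({φ x', φ g'} : Set (MulAut (zc T))) := hc'
  have hcc : (c' : G) = c := hcc
  have hX : φ x' * φ x' = 1 := by
    rw [← map_mul]
    exact φT _ (mem_T_of_ind (mul_mem hx.1 hx.1) (Or.inl rfl) (by
      have := hi.mul hi
      rwa [tt_tt] at this))
  have hW : φ g' * φ g' = 1 := by
    rw [← map_mul]
    exact φT _ hgg
  have hXW : φ c' * φ x' * (φ c')⁻¹ = φ g' := by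
    have h1 : φ (g'⁻¹ * (c' * x' * c'⁻¹)) = 1 := φT _ (by
      rw [← hcc] at hk
      exact hk)
    rw [map_mul, map_inv, map_mul, map_mul, map_inv, inv_mul_eq_one] at h1
    exact h1.symm
  have h12 : (φ x' * φ g') ^ 12 = 1 := by
    rw [← map_mul, ← map_pow, φ1]
    have a1 := (w.act_x hx.2 hi).mul ht
    have a3 : Act M₁ M₂ ((x * g) * ((x * g) * (x * g))) (p3 (comp xt t)) := a1.mul (a1.mul a1)
    have a12 := (a3.mul a3).mul (a3.mul a3)
    have e12 : comp (comp (p3 (comp xt t)) (p3 (comp xt t))) (comp (p3 (comp xt t)) (p3 (comp xt t))) = idt :=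
      ThreeLin.p12_eq t htt
    rw [e12] at a12
    have e : (((x' * g') ^ 12 : normalizer (zc T : Set G)) : G) =
        x * g * (x * g * (x * g)) * (x * g * (x * g * (x * g))) *
        (x * g * (x * g * (x * g)) * (x * g * (x * g * (x * g)))) := by
      rw [Subgroup.coe_pow, Subgroup.coe_mul]
      exact pow_twelve (x * g)
    rw [e]
    refine mem_centralizer_iff.2 fun y hy => ?_
    obtain ⟨v, rfl⟩ := w.exists_zet hy
    have h3 := a12 v
    rw [ThreeLin.lin_idt, mul_inv_eq_iff_eq_mul] at h3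
    exact h3.symm
  have h3 := ThreeLin.cube_of_odd h12 (ThreeLin.exists_odd hX hW hc' hXW)
  rw [← map_mul, ← map_pow, φ1] at h3
  have a1 := (w.act_x hx.2 hi).mul ht
  have a3 : Act M₁ M₂ ((x * g) * ((x * g) * (x * g))) (p3 (comp xt t)) := a1.mul (a1.mul a1)
  refine w.act_unique a3 fun v => ?_
  have h4 := mem_centralizer_iff.1 h3 _ (w.zet_mem v)
  have e : (((x' * g') ^ 3 : normalizer (zc T : Set G)) : G) = x * g * (x * g * (x * g)) := by
    rw [Subgroup.coe_pow, Subgroup.coe_mul]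
    exact pow_three_eq (x * g)
  rw [e] at h4
  rw [ThreeLin.lin_idt, ← h4, mul_inv_cancel_right]

end fin

end Wr

end Cfsg.Agent.Omega.IId.LFour
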